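import Cfsg.Agent.Lib.NoSixCent.FactsModel

/-!
The finite facts about subgroups of `S₃ × S₆` (`P36Facts`): 2-subgroups are moved by Sylow into the
indexed model of `FactsModel`.
-/

set_option autoImplicit false
set_option linter.style.haveILetI false

namespace CfsgLib.NoSixCent

namespace Facts

open Equiv

theorem card_p36 : Nat.card P36 = 4320 := by
  rw [Nat.card_prod, Nat.card_perm, Nat.card_perm, Nat.card_fin, Nat.card_fin]
  rfl

/-- The model Sylow subgroup, as a centraliser. -/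
def Pst : Subgroup P36 :=
  Subgroup.centralizer {((swap 0 1, swap 0 1 * swap 2 3) : P36)}

theorem mem_Pst_iff (g : P36) : g ∈ Pst ↔ ∃ i : Fin 32, E i = g := by
  constructor
  · intro hg
    have h := Subgroup.mem_centralizer_singleton_iff.1 hg
    obtain ⟨a, ha⟩ := surj_fst g.1 (congrArg Prod.fst h)
    obtain ⟨b, hb⟩ := surj_snd g.2 (congrArg Prod.snd h)
    have ha2 := a.isLt
    have hb2 := b.isLt
    refine ⟨⟨16 * a + b, by omega⟩, Prod.ext ?_ ?_⟩
    · have e : (16 * (a : ℕ) + b) / 16 % 2 = a := by omega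
      show swap (0 : Fin 3) 1 ^ ((16 * (a : ℕ) + b) / 16 % 2) = g.1
      rw [e, ha]
    · rw [← hb]
      have e1 : (16 * (a : ℕ) + b) % 4 = (b : ℕ) % 4 := by omega
      have e2 : (16 * (a : ℕ) + b) / 4 % 2 = (b : ℕ) / 4 % 2 := by omega
      have e3 : (16 * (a : ℕ) + b) / 8 % 2 = (b : ℕ) / 8 % 2 := by omega
      simp only [E, e1, e2, e3]
  · rintro ⟨i, rfl⟩
    rw [Pst, Subgroup.mem_centralizer_singleton_iff]
    revert i
    decide +kernel

theorem card_Pst : Nat.card Pst = 32 := by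
  have hb : Function.Bijective (fun i : Fin 32 => (⟨E i, (mem_Pst_iff _).2 ⟨i, rfl⟩⟩ : Pst)) :=
    ⟨fun i j h => Fin.ext (E_inj i.isLt j.isLt (congrArg Subtype.val h)), fun g => by
      obtain ⟨i, hi⟩ := (mem_Pst_iff _).1 g.2
      exact ⟨i, Subtype.ext hi⟩⟩
  rw [← Nat.card_eq_of_bijective _ hb, Nat.card_fin]

/-- A 2-subgroup is conjugate into the model. -/
theorem exists_conj (K : Subgroup P36) (hK : IsPGroup 2 K) :
    ∃ g : P36, ∀ k ∈ K, ∃ i : Fin 32, E i = g * k * g⁻¹ := by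
  haveI : Fact (Nat.Prime 2) := ⟨Nat.prime_two⟩
  have h5 : (Nat.card P36).factorization 2 = 5 := by
    rw [card_p36, show (4320 : ℕ) = 2 ^ 5 * 135 by norm_num,
      Nat.factorization_mul (by norm_num) (by norm_num), Finsupp.add_apply,
      Nat.Prime.factorization_pow Nat.prime_two, Finsupp.single_eq_same,
      Nat.factorization_eq_zero_of_not_dvd (by norm_num : ¬ 2 ∣ 135)]
  obtain ⟨S, hS⟩ := hK.exists_le_sylow
  obtain ⟨g, hg⟩ := MulAction.exists_smul_eq P36 S (Sylow.ofCard Pst (by rw [card_Pst, h5]; rfl))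
  refine ⟨g, fun k hk => (mem_Pst_iff _).1 ?_⟩
  have h1 : g * k * g⁻¹ ∈ (g • S : Sylow 2 P36).toSubgroup := by
    rw [Sylow.coe_subgroup_smul, Subgroup.mem_pointwise_smul_iff_inv_smul_mem, MulAut.smul_def,
      ← map_inv, MulAut.conj_apply]
    simpa [mul_assoc] using hS hk
  rw [hg] at h1
  exact h1

theorem isPGroup_of_sq {K : Subgroup P36} (hK : ∀ k ∈ K, k * k = 1) : IsPGroup 2 K :=
  fun k => ⟨1, Subtype.ext (by simp [pow_succ, hK _ k.2])⟩

theorem conj_eq_one (g k : P36) : g * k * g⁻¹ = 1 ↔ k = 1 := by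
  constructor
  · intro h
    have e : k = g⁻¹ * (g * k * g⁻¹) * g := by group
    rw [e, h]; group
  · rintro rfl; group

/-- A subgroup conjugated into the model, as a set of indices. -/
theorem exists_index (K : Subgroup P36) (hK : IsPGroup 2 K) :
    ∃ g : P36, ∃ f : K → Fin 32, Function.Injective f ∧ ∀ k : K, E (f k) = g * k * g⁻¹ := by
  obtain ⟨g, hg⟩ := exists_conj K hK
  choose f hf using fun k : K => hg k k.2
  refine ⟨g, f, fun k l h => Subtype.ext ?_, hf⟩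
  have h1 := hf k
  rw [h, hf l] at h1
  exact (mul_left_cancel (mul_right_cancel h1)).symm

theorem inv3_conj (g h : P36) : Inv3 (g * h * g⁻¹) ↔ Inv3 h := by
  unfold Inv3
  simp only [Prod.fst_mul, Prod.fst_inv, map_mul, map_inv]
  rw [mul_comm (Perm.sign g.1), mul_inv_cancel_right]

theorem fst_conj (g h : P36) : (g * h * g⁻¹).1 = 1 ↔ h.1 = 1 := by
  simp only [Prod.fst_mul, Prod.fst_inv]
  constructor
  · intro e
    have e' : h.1 = g.1⁻¹ * (g.1 * h.1 * g.1⁻¹) * g.1 := by group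
    rw [e', e]; group
  · intro e; rw [e]; group

theorem sign_snd_conj (g h : P36) : Perm.sign (g * h * g⁻¹).2 = Perm.sign h.2 := by
  simp only [Prod.snd_mul, Prod.snd_inv, map_mul, map_inv]
  rw [mul_comm (Perm.sign g.2), mul_inv_cancel_right]

theorem card_le_sixteen {K : Subgroup P36} (hK : IsPGroup 2 K) (h1 : ∀ k ∈ K, k.1 = 1) :
    Nat.card K ≤ 16 := by
  obtain ⟨g, f, hf, hE⟩ := exists_index K hK
  have hlow : ∀ k : K, (f k : ℕ) < 16 := fun k => by
    rw [← E_low (f k).isLt, hE k, fst_conj]; exact h1 k k.2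
  calc Nat.card K ≤ Nat.card (Fin 16) :=
        Nat.card_le_card_of_injective (fun k : K => (⟨f k, hlow k⟩ : Fin 16))
          fun a b h => hf (Fin.ext (Fin.mk.injEq .. ▸ h))
    _ = 16 := Nat.card_fin 16

/-- Every index occurs in a subgroup of full order. -/
theorem full {K : Subgroup P36} (hK : Nat.card K = 32) :
    ∃ g : P36, ∀ i : Fin 32, g⁻¹ * E i * g ∈ K := by
  obtain ⟨g, f, hf, hE⟩ := exists_index K (IsPGroup.of_card (n := 5) (by rw [hK]; rfl))
  have hb : Function.Bijective f :=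
    hf.bijective_of_nat_card_le (by rw [Nat.card_fin, hK])
  refine ⟨g, fun i => ?_⟩
  obtain ⟨k, rfl⟩ := hb.2 i
  rw [hE k]
  simp [mul_assoc]

theorem elem_cent_le (K : Subgroup P36) (hsq : ∀ k ∈ K, k * k = 1) (h1 : ∀ k ∈ K, k.1 = 1) :
    Nat.card K ≤ 8 := by
  have hp := isPGroup_of_sq hsq
  haveI : Fact (Nat.Prime 2) := ⟨Nat.prime_two⟩
  obtain ⟨n, hn⟩ := IsPGroup.iff_card.1 hp
  have h16 : 2 ^ n ≤ 16 := hn ▸ card_le_sixteen hp h1
  by_contra hgt
  have hn4 : n = 4 := by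
    have hb : ∀ {a b : ℕ}, a ≤ b → 2 ^ a ≤ 2 ^ b := fun h =>
      Nat.pow_le_pow_right (by norm_num) h
    have a : ¬ n ≤ 3 := fun h => hgt (by rw [hn]; exact le_trans (hb h) (by norm_num))
    have b : ¬ 5 ≤ n := fun h => absurd (le_trans (hb h) h16) (by norm_num)
    omega
  obtain ⟨g, f, hf, hE⟩ := exists_index K hp
  have hlow : ∀ k : K, (f k : ℕ) < 16 := fun k => by
    rw [← E_low (f k).isLt, hE k, fst_conj]; exact h1 k k.2
  have hb : Function.Bijective (fun k : K => (⟨f k, hlow k⟩ : Fin 16)) := by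
    refine Function.Injective.bijective_of_nat_card_le (fun a b h => hf (Fin.ext ?_))
      (by rw [Nat.card_fin, hn, hn4]; norm_num)
    exact congrArg (Fin.val (n := 16)) h
  obtain ⟨a, ha⟩ := hb.2 1
  obtain ⟨b, hb'⟩ := hb.2 4
  have ea : E 1 = g * a * g⁻¹ := by rw [← hE a, show (f a : ℕ) = 1 from congrArg Fin.val ha]
  have eb : E 4 = g * b * g⁻¹ := by rw [← hE b, show (f b : ℕ) = 4 from congrArg Fin.val hb']
  apply noncomm
  have hab : (a : P36) * b = b * a := by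
    calc (a : P36) * b = a * b * ((b * a) * (b * a)) := by rw [hsq _ (K.mul_mem b.2 a.2), mul_one]
      _ = a * ((b : P36) * b) * a * (b * a) := by group
      _ = b * a := by rw [hsq _ b.2, mul_one, hsq _ a.2, one_mul]
  rw [ea, eb]
  calc g * a * g⁻¹ * (g * b * g⁻¹) = g * (a * b : P36) * g⁻¹ := by group
    _ = g * (b * a : P36) * g⁻¹ := by rw [hab]
    _ = g * b * g⁻¹ * (g * a * g⁻¹) := by group

/-- Classification of the elementary abelian subgroups of order 8. -/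
theorem classify (A : Subgroup P36) (hA : Nat.card A = 8) (hsq : ∀ a ∈ A, a * a = 1) :
    ∃ g : P36, ∃ l : List ℕ, ((∃ e ∈ trTable, e.1 = l ∧ ∃ a ∈ A, Inv3 a) ∨
        (∃ e ∈ puTable, e.1 = l ∧ ∀ a ∈ A, ¬ Inv3 a)) ∧
      (∀ i ∈ l, i < 32) ∧ ∀ h : P36, h ∈ A ↔ ∃ i ∈ l, E i = g * h * g⁻¹ := by
  classical
  obtain ⟨g, f, hf, hE⟩ := exists_index A (isPGroup_of_sq hsq)
  let T : Finset (Fin 32) := Finset.univ.filter fun i => g⁻¹ * E i * g ∈ A
  have hT : ∀ i : Fin 32, i ∈ T ↔ g⁻¹ * E i * g ∈ A := fun i => by simp [T]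
  have hfT : ∀ k : A, f k ∈ T := fun k => by
    rw [hT, hE k]; simp [mul_assoc]
  have hTf : ∀ i ∈ T, ∃ k : A, f k = i := fun i hi => by
    refine ⟨⟨_, (hT i).1 hi⟩, Fin.ext (E_inj (Fin.isLt _) i.isLt ?_)⟩
    rw [hE]; simp [mul_assoc]
  have hT8 : T.card = 8 := by
    have hb : Function.Bijective (fun k : A => (⟨f k, hfT k⟩ : T)) :=
      ⟨fun a b h => hf (congrArg Subtype.val h), fun i => by
        obtain ⟨k, hk⟩ := hTf i i.2
        exact ⟨k, Subtype.ext hk⟩⟩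
    rw [← Fintype.card_coe, ← Nat.card_eq_fintype_card, ← Nat.card_eq_of_bijective _ hb, hA]
  have hz : (0 : Fin 32) ∈ T := by
    rw [hT, Fin.val_zero, E_zero]; simp
  have hmul : ∀ i ∈ T, ∀ j ∈ T, (⟨m i j, m_lt _ _⟩ : Fin 32) ∈ T := fun i hi j hj => by
    rw [hT]
    have e : g⁻¹ * E (m i j) * g = g⁻¹ * E i * g * (g⁻¹ * E j * g) := by
      rw [E_mul i.isLt j.isLt]; group
    rw [e]
    exact A.mul_mem ((hT i).1 hi) ((hT j).1 hj)
  have hsqI : ∀ i ∈ T, m i i = 0 := fun i hi => by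
    refine E_inj (m_lt _ _) (by norm_num) ?_
    rw [E_mul i.isLt i.isLt, E_zero, ← conj_eq_one g⁻¹, inv_inv]
    have e : g⁻¹ * (E i * E i) * g = g⁻¹ * E i * g * (g⁻¹ * E i * g) := by group
    rw [e]
    exact hsq _ ((hT i).1 hi)
  have hcomm : ∀ i ∈ T, ∀ j ∈ T, m i j = m j i := fun i hi j hj => by
    refine E_inj (m_lt _ _) (m_lt _ _) ?_
    rw [E_mul i.isLt j.isLt, E_mul j.isLt i.isLt]
    have s1 : E i * E i = 1 := by rw [← E_mul i.isLt i.isLt, hsqI i hi, E_zero]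
    have s2 : E j * E j = 1 := by rw [← E_mul j.isLt j.isLt, hsqI j hj, E_zero]
    have s3 : E (m i j) * E (m i j) = 1 := by
      rw [← E_mul (m_lt _ _) (m_lt _ _), hsqI ⟨m i j, m_lt _ _⟩ (hmul i hi j hj), E_zero]
    rw [E_mul i.isLt j.isLt] at s3
    calc E i * E j = E i * (E i * E j * (E i * E j)) * E j := by rw [s3, mul_one]
      _ = E i * E i * (E j * E i) * (E j * E j) := by group
      _ = E j * E i := by rw [s1, s2, one_mul, mul_one]
  have hinv : ∀ i ∈ T, (Inv3 (g⁻¹ * E i * g) ↔ 16 ≤ (i : ℕ)) := fun i _ => by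
    rw [← inv3_conj g, ← E_high i.isLt]
    simp [mul_assoc]
  -- the first generator, inverting if possible
  obtain ⟨x, hx, hx0, hxmax⟩ : ∃ x ∈ T, (x : ℕ) ≠ 0 ∧ ((x : ℕ) < 16 → ∀ i ∈ T, (i : ℕ) < 16) := by
    by_cases h : ∃ i ∈ T, 16 ≤ (i : ℕ)
    · obtain ⟨i, hi, hi'⟩ := h
      exact ⟨i, hi, by omega, fun h' => absurd h' (by omega)⟩
    · push Not at h
      obtain ⟨i, hi, hi'⟩ := T.exists_mem_ne (by omega) 0
      exact ⟨i, hi, fun e => hi' (Fin.ext e), fun _ => h⟩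
  have hxx := hsqI x hx
  -- a low element in the coset of an element modulo `x`
  have low : ∀ w ∈ T, ∃ y ∈ T, (y : ℕ) < 16 ∧ ((y : ℕ) = w ∨ (y : ℕ) = m w x) := by
    intro w hw
    by_cases hlw : (w : ℕ) < 16
    · exact ⟨w, hw, hlw, Or.inl rfl⟩
    · refine ⟨⟨m w x, m_lt _ _⟩, hmul w hw x hx, ?_, Or.inr rfl⟩
      have hxh : ¬ (x : ℕ) < 16 := fun h => hlw (hxmax h w hw)
      have hwl := w.isLt
      have hxl := x.isLt
      show m w x < 16
      simp only [m]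
      omega
  have key : ∀ a b : ℕ, a < 32 → b < 32 → m b b = 0 → m (m a b) b = a := fun a b ha hb h => by
    refine E_inj (m_lt _ _) ha ?_
    rw [E_mul (m_lt _ _) hb, E_mul ha hb, mul_assoc, ← E_mul hb hb, h, E_zero, mul_one]
  obtain ⟨w, hw, hw'⟩ : ∃ w ∈ T, w ∉ ({0, x} : Finset (Fin 32)) := by
    apply Finset.exists_mem_notMem_of_card_lt_card
    have h := Finset.card_le_two (a := (0 : Fin 32)) (b := x)
    omega
  simp only [Finset.mem_insert, Finset.mem_singleton, not_or] at hw'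
  obtain ⟨y, hy, hyl, hyw⟩ := low w hw
  have hy0 : (y : ℕ) ≠ 0 := by
    rcases hyw with e | e
    · exact fun h => hw'.1 (Fin.ext (e ▸ h))
    · intro h
      apply hw'.2
      refine Fin.ext ?_
      have e' := key w x w.isLt x.isLt hxx
      rw [← e, h] at e'
      rw [← e']
      exact (E_inj (m_lt _ _) x.isLt (by rw [E_mul (by norm_num) x.isLt, E_zero, one_mul]))
  have hyx : (y : ℕ) ≠ x := by
    rcases hyw with e | e
    · exact fun h => hw'.2 (Fin.ext (e ▸ h))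
    · intro h
      apply hw'.1
      refine Fin.ext ?_
      have e' := key w x w.isLt x.isLt hxx
      rw [← e, h, hxx] at e'
      exact e'.symm
  obtain ⟨u, hu, hu'⟩ : ∃ u ∈ T,
      u ∉ ({0, x, y, ⟨m y x, m_lt _ _⟩} : Finset (Fin 32)) := by
    apply Finset.exists_mem_notMem_of_card_lt_card
    have h := Finset.card_le_four (a := (0 : Fin 32)) (b := x) (c := y)
      (d := (⟨m y x, m_lt _ _⟩ : Fin 32))
    omega
  simp only [Finset.mem_insert, Finset.mem_singleton, not_or] at hu'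
  obtain ⟨z, hz', hzl, hzu⟩ := low u hu
  have hzne : ∀ c ∈ T, u ≠ c → u ≠ ⟨m c x, m_lt _ _⟩ → (z : ℕ) ≠ c := by
    intro c _ h1 h2 h
    rcases hzu with e | e
    · exact h1 (Fin.ext (e ▸ h))
    · apply h2
      refine Fin.ext ?_
      show (u : ℕ) = m c x
      rw [← h, e, key u x u.isLt x.isLt hxx]
  have m0x : m 0 x = x := E_inj (m_lt _ _) x.isLt (by
    rw [E_mul (by norm_num) x.isLt, E_zero, one_mul])
  have hz0 : (z : ℕ) ≠ 0 := hzne 0 hz hu'.1 (fun h => hu'.2.1 (h.trans (Fin.ext m0x)))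
  have hzy : (z : ℕ) ≠ y := hzne y hy hu'.2.2.1 hu'.2.2.2
  have hzx : (z : ℕ) ≠ x := hzne x hx hu'.2.1 (fun h => hu'.1 (h.trans (Fin.ext hxx)))
  have hxyz : (x : ℕ) ≠ m y z := fun h => by
    have hzy' : (z : ℕ) = m y x := by
      refine E_inj z.isLt (m_lt _ _) ?_
      rw [E_mul y.isLt x.isLt, h, E_mul y.isLt z.isLt, ← mul_assoc, ← E_mul y.isLt y.isLt,
        hsqI y hy, E_zero, one_mul]
    exact hzne ⟨m y x, m_lt _ _⟩ (hmul y hy x hx) hu'.2.2.2
      (fun h' => hu'.2.2.1 (h'.trans (Fin.ext (key y x y.isLt x.isLt hxx)))) hzy'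
  have hck := class_table x ⟨y, hyl⟩ ⟨z, hzl⟩
  rw [classCheck, if_neg (by
      simp only [not_or, not_not]
      exact ⟨hx0, hy0, hz0, hzy, hxx, hsqI y hy, hsqI z hz'⟩),
    if_neg (by
      simp only [not_or, not_not]
      exact ⟨hcomm y hy z hz', hcomm x hx y hy, hcomm x hx z hz'⟩),
    if_neg (by
      simp only [not_or]
      exact ⟨hyx.symm, hzx.symm, hxyz⟩)] at hck
  have hspan : ∀ i ∈ span8 x y z, ∃ hi : i < 32, (⟨i, hi⟩ : Fin 32) ∈ T := by
    intro i hi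
    have hyz := hmul y hy z hz'
    simp only [span8, List.mem_cons, List.not_mem_nil, or_false] at hi
    rcases hi with rfl | rfl | rfl | rfl | rfl | rfl | rfl | rfl
    exacts [⟨by norm_num, hz⟩, ⟨y.isLt, hy⟩, ⟨z.isLt, hz'⟩, ⟨m_lt _ _, hyz⟩, ⟨x.isLt, hx⟩,
      ⟨m_lt _ _, hmul x hx y hy⟩, ⟨m_lt _ _, hmul x hx z hz'⟩, ⟨m_lt _ _, hmul x hx (⟨m y z, m_lt _ _⟩ : Fin 32) hyz⟩]
  have finish : ∀ l : List ℕ, l.Nodup → l.length = 8 → (∀ i ∈ l, i ∈ span8 x y z) →
      ∀ h : P36, h ∈ A ↔ ∃ i ∈ l, E i = g * h * g⁻¹ := by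
    intro l hnd hlen hsub
    have hsubT : l.toFinset ⊆ T.image Fin.val := fun i hi => by
      obtain ⟨hi', hiT⟩ := hspan i (hsub i (List.mem_toFinset.1 hi))
      exact Finset.mem_image.2 ⟨_, hiT, rfl⟩
    have heq := Finset.eq_of_subset_of_card_le hsubT (by
      rw [List.toFinset_card_of_nodup hnd, hlen,
        Finset.card_image_of_injective _ Fin.val_injective, hT8])
    intro h
    constructor
    · intro hh
      refine ⟨f ⟨h, hh⟩, ?_, hE ⟨h, hh⟩⟩
      rw [← List.mem_toFinset, heq]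
      exact Finset.mem_image.2 ⟨_, hfT _, rfl⟩
    · rintro ⟨i, hi, he⟩
      rw [← List.mem_toFinset, heq, Finset.mem_image] at hi
      obtain ⟨j, hj, rfl⟩ := hi
      have h1 := (hT j).1 hj
      rw [he] at h1
      simpa [mul_assoc] using h1
  by_cases hhigh : 16 ≤ (x : ℕ)
  · rw [if_pos hhigh] at hck
    simp only [List.any_eq_true, List.all_eq_true, decide_eq_true_eq] at hck
    obtain ⟨e, he, hsub⟩ := hck
    obtain ⟨hnd, hlen, hlt⟩ := table_shape.1 e he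
    exact ⟨g, e.1, Or.inl ⟨e, he, rfl, _, (hT x).1 hx, (hinv x hx).2 hhigh⟩, hlt,
      finish _ hnd hlen hsub⟩
  · rw [if_neg hhigh] at hck
    simp only [List.any_eq_true, List.all_eq_true, decide_eq_true_eq] at hck
    obtain ⟨e, he, hsub⟩ := hck
    obtain ⟨hnd, hlen, hlt⟩ := table_shape.2 e he
    refine ⟨g, e.1, Or.inr ⟨e, he, rfl, fun a ha hi => ?_⟩, fun i hi => by
      have := hlt i hi; omega, finish _ hnd hlen hsub⟩
    rw [← inv3_conj g, ← hE ⟨a, ha⟩, E_high (Fin.isLt _)] at hi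
    have := hxmax (by omega) _ (hfT ⟨a, ha⟩)
    omega

theorem mem_conj_iff {A : Subgroup P36} {g : P36} {l : List ℕ}
    (hl : ∀ h : P36, h ∈ A ↔ ∃ i ∈ l, E i = g * h * g⁻¹) (i : ℕ) (hi : i ∈ l) :
    g⁻¹ * E i * g ∈ A :=
  (hl _).2 ⟨i, hi, by simp [mul_assoc]⟩

/-- Conjugation into `A` is onto when it is into. -/
theorem norm_iff {A : Subgroup P36} {x : P36} (h : ∀ a ∈ A, x * a * x⁻¹ ∈ A) :
    ∀ a, a ∈ A ↔ x * a * x⁻¹ ∈ A := by
  intro a
  refine ⟨h a, fun ha => ?_⟩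
  let f : A → A := fun b => ⟨x * b * x⁻¹, h b b.2⟩
  have hf : Function.Bijective f := Finite.injective_iff_bijective.1 fun b c e =>
    Subtype.ext (mul_left_cancel (mul_right_cancel (congrArg Subtype.val e)))
  obtain ⟨b, hb⟩ := hf.2 ⟨_, ha⟩
  rw [← mul_left_cancel (mul_right_cancel (congrArg Subtype.val hb))]
  exact b.2

theorem triangle (R A : Subgroup P36)
    (hR : ∀ p q, Perm.sign p = 1 → Perm.sign q = 1 → ((p, q) : P36) ∈ R) (hAR : A ≤ R)
    (hA : Nat.card A = 8) (hsq : ∀ a ∈ A, a * a = 1) (hinv : ∃ a ∈ A, Inv3 a)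
    (H : Subgroup P36)
    (hH : ∀ h ∈ R, (∀ a, a ∈ A ↔ h * a * h⁻¹ ∈ A) →
      (∃ b ∈ A, Inv3 b ∧ h * b = b * h) → h ∈ H) :
    ∃ h ∈ R, ∃ b₀ ∈ A, ∃ a ∈ A, ∃ b₁ ∈ A,
      Inv3 b₀ ∧ ¬ Inv3 a ∧ a ≠ 1 ∧ Inv3 b₁ ∧
      h⁻¹ * b₀ * h ∈ H ∧ h⁻¹ * a * h ∈ H ∧ h * b₁ * h⁻¹ ∈ H ∧ h⁻¹ * b₀ * h ∉ A := by
  obtain ⟨g, l, hcase, hlt, hl⟩ := classify A hA hsq
  rcases hcase with ⟨e, he, hel, -⟩ | ⟨_, _, _, hno⟩
  swap
  · obtain ⟨a, ha, hi⟩ := hinv
    exact absurd hi (hno a ha)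
  have hck := tr_check e he
  obtain ⟨l', n, b₀, a, b₁, c₀, ca, c₁⟩ := e
  simp only at hck hel
  subst hel
  obtain ⟨hb0, hb0', ha, ha', ha0, hb1, hb1', w0, wa, w1, hout⟩ := hck
  let h : P36 := g⁻¹ * ((1, hs n) : P36) * g
  have hh : h ∈ R := by
    refine hR _ _ ?_ ?_
    · simp
    · simp [hs_even]
  have pull : ∀ (x : P36) (c : ℕ), x ∈ R → Wit l' (g * x * g⁻¹) c → x ∈ H := by
    rintro x c hx ⟨hn, hc, hc', hcm⟩
    refine hH x hx (norm_iff fun b hb => ?_) ⟨_, mem_conj_iff hl c hc, ?_, ?_⟩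
    · obtain ⟨i, hi, hib⟩ := (hl b).1 hb
      obtain ⟨j, hj, hjb⟩ := hn i hi
      refine (hl _).2 ⟨j, hj, ?_⟩
      rw [hjb, hib]; group
    · rw [← inv3_conj g]
      simpa [mul_assoc] using (E_high (hlt c hc)).2 hc'
    · calc x * (g⁻¹ * E c * g) = g⁻¹ * (g * x * g⁻¹ * E c) * g := by group
        _ = g⁻¹ * (E c * (g * x * g⁻¹)) * g := by rw [hcm]
        _ = g⁻¹ * E c * g * x := by group
  have mem := mem_conj_iff hl
  have conjI : ∀ i, g * (h⁻¹ * (g⁻¹ * E i * g) * h) * g⁻¹ = cj (hs n)⁻¹ (E i) := fun i => by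
    have e : ((1, (hs n)⁻¹) : P36) = ((1, hs n) : P36)⁻¹ := by simp [Prod.inv_mk]
    simp only [cj, h, e]; group
  have conjD : g * (h * (g⁻¹ * E b₁ * g) * h⁻¹) * g⁻¹ = cj (hs n) (E b₁) := by
    simp only [cj, h]; group
  refine ⟨h, hh, _, mem b₀ hb0, _, mem a ha, _, mem b₁ hb1, ?_, ?_, ?_, ?_, ?_, ?_, ?_, ?_⟩
  · rw [← inv3_conj g]
    simpa [mul_assoc] using (E_high (hlt b₀ hb0)).2 hb0'
  · rw [← inv3_conj g]
    intro hc
    have := (E_high (hlt a ha)).1 (by simpa [mul_assoc] using hc)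
    omega
  · intro h1
    apply ha0
    refine E_inj (hlt a ha) (by norm_num) ?_
    rw [E_zero]
    exact (conj_eq_one g⁻¹ _).1 (by rwa [inv_inv])
  · rw [← inv3_conj g]
    simpa [mul_assoc] using (E_high (hlt b₁ hb1)).2 hb1'
  · exact pull _ c₀ (R.mul_mem (R.mul_mem (R.inv_mem hh) (hAR (mem b₀ hb0))) hh)
      (by rw [conjI]; exact w0)
  · exact pull _ ca (R.mul_mem (R.mul_mem (R.inv_mem hh) (hAR (mem a ha))) hh)
      (by rw [conjI]; exact wa)
  · exact pull _ c₁ (R.mul_mem (R.mul_mem hh (hAR (mem b₁ hb1))) (R.inv_mem hh))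
      (by rw [conjD]; exact w1)
  · intro hc
    obtain ⟨i, hi, hib⟩ := (hl _).1 hc
    rw [conjI] at hib
    exact hout i hi hib

theorem eight_norm (A : Subgroup P36) (hA : Nat.card A = 8) (hsq : ∀ a ∈ A, a * a = 1)
    (h1 : ∀ a ∈ A, a.1 = 1) :
    (∃ t : Perm (Fin 6), t * t * t = 1 ∧
      (∀ a, a ∈ A ↔ (1, t) * a * ((1, t) : P36)⁻¹ ∈ A) ∧
      ∃ a ∈ A, (1, t) * a ≠ a * ((1, t) : P36)) ∧
    15 ≤ Nat.card ({B | ∃ h : P36, A.map (MulAut.conj h).toMonoidHom = B} :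
      Set (Subgroup P36)) := by
  obtain ⟨g, l, hcase, hlt, hl⟩ := classify A hA hsq
  rcases hcase with ⟨_, _, _, a, ha, hi⟩ | ⟨e, he, hel, -⟩
  · unfold Inv3 at hi
    rw [h1 a ha, map_one] at hi
    exact absurd hi (by decide)
  have hck := pu_check e he
  obtain ⟨l', t, a, hl'⟩ := e
  simp only at hck hel
  subst hel
  obtain ⟨ht, hn, ha, hnc, -, hlen, hpw⟩ := hck
  constructor
  · have e1 : ((1, g.2⁻¹ * t * g.2) : P36) = g⁻¹ * ((1, t) : P36) * g :=
      Prod.ext (by simp) (by simp)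
    refine ⟨g.2⁻¹ * t * g.2, ?_, ?_, ⟨_, mem_conj_iff hl a ha, ?_⟩⟩
    · calc g.2⁻¹ * t * g.2 * (g.2⁻¹ * t * g.2) * (g.2⁻¹ * t * g.2)
            = g.2⁻¹ * (t * t * t) * g.2 := by group
        _ = 1 := by rw [ht]; group
    · rw [e1]
      refine norm_iff fun b hb => ?_
      obtain ⟨i, hi, hib⟩ := (hl b).1 hb
      obtain ⟨j, hj, hjb⟩ := hn i hi
      refine (hl _).2 ⟨j, hj, ?_⟩
      rw [hjb, hib, cj]; group
    · rw [e1]
      intro hc
      apply hnc
      calc ((1, t) : P36) * E a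
            = g * (g⁻¹ * ((1, t) : P36) * g * (g⁻¹ * E a * g)) * g⁻¹ := by group
        _ = g * (g⁻¹ * E a * g * (g⁻¹ * ((1, t) : P36) * g)) * g⁻¹ := by rw [hc]
        _ = E a * ((1, t) : P36) := by group
  · let u : Fin 15 → P36 := fun j => ((1, hl'[(j : ℕ)]'(by omega)) : P36) * g
    let F : Fin 15 → ({B | ∃ h : P36, A.map (MulAut.conj h).toMonoidHom = B} :
        Set (Subgroup P36)) := fun j => ⟨A.map (MulAut.conj (u j)).toMonoidHom, u j, rfl⟩
    have hne : ∀ j k : Fin 15, (j : ℕ) < k → F j ≠ F k := by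
      intro j k hjk hjk'
      obtain ⟨i, hi, hout⟩ := List.pairwise_iff_getElem.1 hpw j k (by omega) (by omega) hjk
      have e : A.map (MulAut.conj (u j)).toMonoidHom = A.map (MulAut.conj (u k)).toMonoidHom :=
        congrArg Subtype.val hjk'
      have hm : cj (hl'[(j : ℕ)]'(by omega)) (E i) ∈ A.map (MulAut.conj (u j)).toMonoidHom := by
        refine Subgroup.mem_map.2 ⟨_, mem_conj_iff hl i hi, ?_⟩
        simp only [MulEquiv.coe_toMonoidHom, MulAut.conj_apply, u, cj]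
        group
      rw [e] at hm
      obtain ⟨b, hb, hbe⟩ := Subgroup.mem_map.1 hm
      obtain ⟨i', hi', hib⟩ := (hl b).1 hb
      apply hout i' hi'
      rw [← hbe, hib]
      simp only [MulEquiv.coe_toMonoidHom, MulAut.conj_apply, u, cj]
      group
    have hF : Function.Injective F := fun j k h => by
      rcases lt_trichotomy (j : ℕ) k with hlt' | he' | hgt
      exacts [absurd h (hne j k hlt'), Fin.ext he', absurd h.symm (hne k j hgt)]
    calc 15 = Nat.card (Fin 15) := (Nat.card_fin 15).symm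
      _ ≤ _ := Nat.card_le_card_of_injective F hF

theorem sign_snd {R : Subgroup P36}
    (hR : ∀ p q, Perm.sign p = 1 → Perm.sign q = 1 → ((p, q) : P36) ∈ R)
    (hodd : ∃ h ∈ R, Inv3 h) (hne : R ≠ ⊤) {h : P36} (hh : h ∈ R) (h1 : h.1 = 1) :
    Perm.sign h.2 = 1 := by
  rcases Int.units_eq_one_or (Perm.sign h.2) with e | e
  · exact e
  exfalso
  apply hne
  have hev : ∀ k : P36, Perm.sign k.1 = 1 → k ∈ R := by
    intro k hk
    rcases Int.units_eq_one_or (Perm.sign k.2) with e' | e'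
    · exact hR k.1 k.2 hk e'
    · have h2 := R.mul_mem hh (hR k.1 (h.2⁻¹ * k.2) hk (by rw [map_mul, map_inv, e, e']; decide))
      rwa [show h * ((k.1, h.2⁻¹ * k.2) : P36) = k from
        Prod.ext (by simp [h1]) (mul_inv_cancel_left _ _)] at h2
  obtain ⟨s, hs', hsi⟩ := hodd
  refine eq_top_iff.2 fun k _ => ?_
  rcases Int.units_eq_one_or (Perm.sign k.1) with e' | e'
  · exact hev k e'
  · have h2 := R.mul_mem hs' (hev (s⁻¹ * k) (by
      rw [Prod.fst_mul, Prod.fst_inv, map_mul, map_inv, hsi, e']; decide))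
    simpa using h2

theorem card_two_proper (R K : Subgroup P36)
    (hR : ∀ p q, Perm.sign p = 1 → Perm.sign q = 1 → ((p, q) : P36) ∈ R) (hne : R ≠ ⊤)
    (hKR : K ≤ R) (hK : IsPGroup 2 K) : Nat.card K ≤ 16 := by
  haveI : Fact (Nat.Prime 2) := ⟨Nat.prime_two⟩
  obtain ⟨g, f, hf, -⟩ := exists_index K hK
  have h32 : Nat.card K ≤ 32 := by
    simpa [Nat.card_fin] using Nat.card_le_card_of_injective f hf
  obtain ⟨n, hn⟩ := IsPGroup.iff_card.1 hK
  rw [hn] at h32 ⊢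
  have hb : ∀ {a b : ℕ}, a ≤ b → 2 ^ a ≤ 2 ^ b := fun h =>
    Nat.pow_le_pow_right (by norm_num) h
  by_contra hgt
  have hn5 : n = 5 := by
    have a : ¬ n ≤ 4 := fun h => hgt (le_trans (hb h) (by norm_num))
    have b : ¬ 6 ≤ n := fun h => absurd (le_trans (hb h) h32) (by norm_num)
    omega
  apply hne
  apply Subgroup.eq_top_of_card_eq
  have h1 : 32 ∣ Nat.card R := by
    rw [show (32 : ℕ) = Nat.card K by rw [hn, hn5]; rfl]
    exact Subgroup.card_dvd_of_le hKR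
  have h2 : (alternatingGroup (Fin 3)).prod (alternatingGroup (Fin 6)) ≤ R := fun k hk =>
    hR k.1 k.2 hk.1 hk.2
  have h3 := Subgroup.card_dvd_of_le h2
  rw [Nat.card_congr (Subgroup.prodEquiv _ _).toEquiv, Nat.card_prod, nat_card_alternatingGroup,
    nat_card_alternatingGroup, Nat.card_fin, Nat.card_fin] at h3
  have h4 : 4320 ∣ Nat.card R := by
    have := Nat.Coprime.mul_dvd_of_dvd_of_dvd (show Nat.Coprime 32 135 by norm_num) h1
      (dvd_trans (by decide) h3)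
    exact this
  rw [card_p36]
  exact Nat.dvd_antisymm (card_p36 ▸ Subgroup.card_subgroup_dvd_card R) h4

theorem sylow_struct (K : Subgroup P36) (hK : Nat.card K = 32) :
    (∃ s, Inv3 (s, 1) ∧ ((s, 1) : P36) ∈ K) ∧
      ∃ a b, ((1, a) : P36) ∈ K ∧ ((1, b) : P36) ∈ K ∧ a * b ≠ b * a := by
  obtain ⟨g, hg⟩ := full hK
  have e16 : (E 16).2 = 1 := by decide +kernel
  have el : ∀ i : Fin 32, (i : ℕ) < 16 → ((1, g.2⁻¹ * (E i).2 * g.2) : P36) ∈ K := by
    intro i hi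
    have e : ((1, g.2⁻¹ * (E i).2 * g.2) : P36) = g⁻¹ * E i * g :=
      Prod.ext (by simp [(E_low i.isLt).2 hi]) (by simp)
    exact e ▸ hg i
  refine ⟨⟨g.1⁻¹ * (E 16).1 * g.1, ?_, ?_⟩, _, _, el 1 (by decide), el 4 (by decide), ?_⟩
  · have h := (inv3_conj g⁻¹ (E 16)).2 ((E_high (by norm_num)).2 le_rfl)
    rw [inv_inv] at h
    exact h
  · have e : ((g.1⁻¹ * (E 16).1 * g.1, 1) : P36) = g⁻¹ * E 16 * g :=
      Prod.ext (by simp) (by simp [e16])
    exact e ▸ hg 16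
  · intro hc
    apply noncomm
    refine Prod.ext ?_ ?_
    · rw [Prod.fst_mul, Prod.fst_mul, (E_low (by norm_num)).2 (by norm_num),
        (E_low (by norm_num)).2 (by norm_num)]
    · calc (E 1).2 * (E 4).2
            = g.2 * (g.2⁻¹ * (E 1).2 * g.2 * (g.2⁻¹ * (E 4).2 * g.2)) * g.2⁻¹ := by group
        _ = g.2 * (g.2⁻¹ * (E 4).2 * g.2 * (g.2⁻¹ * (E 1).2 * g.2)) * g.2⁻¹ :=
          congrArg (fun p => g.2 * p * g.2⁻¹) hc
        _ = (E 4).2 * (E 1).2 := by group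

theorem sylow_comm (K : Subgroup P36) (hK : Nat.card K = 32) (t : P36) (_ht : t * t = 1)
    (hc : ∀ k ∈ K, ∀ l ∈ K, k * l = l * k ∨ k * l = t * (l * k)) :
    t.1 = 1 ∧ Perm.sign t.2 = 1 := by
  obtain ⟨-, a, b, ha, hb, hab⟩ := sylow_struct K hK
  rcases hc _ ha _ hb with e | e
  · exact absurd (congrArg Prod.snd e) hab
  · have e1 := congrArg Prod.fst e
    have e2 := congrArg (fun k : P36 => Perm.sign k.2) e
    simp only [Prod.fst_mul, mul_one] at e1
    simp only [Prod.snd_mul, map_mul] at e2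
    refine ⟨e1.symm, ?_⟩
    rw [mul_comm (Perm.sign a) (Perm.sign b)] at e2
    exact right_eq_mul.1 e2

theorem exists_low_conj (t : Perm (Fin 6)) (ht : t * t = 1) :
    ∃ g : Perm (Fin 6), ∃ i : Fin 16, m i i = 0 ∧ (E i).2 = g * t * g⁻¹ := by
  have ht' : ((1, t) : P36) * (1, t) = 1 := Prod.ext (one_mul 1) ht
  have hp : IsPGroup 2 (Subgroup.zpowers ((1, t) : P36)) := by
    refine isPGroup_of_sq fun k hk => ?_
    obtain ⟨n, rfl⟩ := Subgroup.mem_zpowers_iff.1 hk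
    rw [← zpow_add, ← two_mul, zpow_mul, zpow_two, ht', one_zpow]
  obtain ⟨g, hg⟩ := exists_conj _ hp
  obtain ⟨i, hi⟩ := hg _ (Subgroup.mem_zpowers _)
  have hil : (i : ℕ) < 16 := by
    rw [← E_low i.isLt, hi, fst_conj]
  refine ⟨g.2, ⟨i, hil⟩, ?_, by rw [hi]; rfl⟩
  refine E_inj (m_lt _ _) (by norm_num) ?_
  rw [E_mul i.isLt i.isLt, E_zero, hi]
  calc g * ((1, t) : P36) * g⁻¹ * (g * ((1, t) : P36) * g⁻¹)
        = g * (((1, t) : P36) * (1, t)) * g⁻¹ := by group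
    _ = 1 := by rw [ht']; group

theorem cent_nonab (t : Perm (Fin 6)) (ht : t * t = 1) :
    ∃ a b, a * t = t * a ∧ b * t = t * b ∧ a * b ≠ b * a := by
  obtain ⟨g, i, hi, he⟩ := exists_low_conj t ht
  obtain ⟨a, -, b, -, hat, hbt, hab⟩ := comm_witness i hi
  rw [he] at hat hbt
  have key : ∀ c : Perm (Fin 6), c * (g * t * g⁻¹) = g * t * g⁻¹ * c →
      g⁻¹ * c * g * t = t * (g⁻¹ * c * g) := fun c hc => by
    calc g⁻¹ * c * g * t = g⁻¹ * (c * (g * t * g⁻¹)) * g := by group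
      _ = g⁻¹ * (g * t * g⁻¹ * c) * g := by rw [hc]
      _ = t * (g⁻¹ * c * g) := by group
  refine ⟨g⁻¹ * a * g, g⁻¹ * b * g, key a hat, key b hbt, fun hc => hab ?_⟩
  calc a * b = g * (g⁻¹ * a * g * (g⁻¹ * b * g)) * g⁻¹ := by group
    _ = g * (g⁻¹ * b * g * (g⁻¹ * a * g)) * g⁻¹ := by rw [hc]
    _ = b * a := by group

theorem even_square (t : Perm (Fin 6)) (ht : t * t = 1) (h1 : t ≠ 1) (hs : Perm.sign t = 1) :
    ∃ a, Perm.sign a = 1 ∧ a * a = t := by
  obtain ⟨g, i, hi, he⟩ := exists_low_conj t ht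
  have hi0 : (i : ℕ) ≠ 0 := fun h => h1 (by
    rw [h, E_zero] at he
    have e : t = g⁻¹ * (g * t * g⁻¹) * g := by group
    rw [e, ← he, Prod.snd_one]; group)
  have hsi : Perm.sign (E i).2 = 1 := by
    rw [he, map_mul, map_mul, map_inv, hs, mul_one, mul_inv_cancel]
  obtain ⟨a, -, ha, haa⟩ := square_witness i hi0 hi hsi
  refine ⟨g⁻¹ * a * g, ?_, ?_⟩
  · rw [map_mul, map_mul, map_inv, ha, mul_one, inv_mul_cancel]
  · calc g⁻¹ * a * g * (g⁻¹ * a * g) = g⁻¹ * (a * a) * g := by group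
      _ = t := by rw [haa, he]; group

theorem elem_cent (R K : Subgroup P36)
    (hR : ∀ p q, Perm.sign p = 1 → Perm.sign q = 1 → ((p, q) : P36) ∈ R)
    (hodd : ∃ h ∈ R, Inv3 h) (hne : R ≠ ⊤) (hKR : K ≤ R) (hsq : ∀ k ∈ K, k * k = 1)
    (h1 : ∀ k ∈ K, k.1 = 1) : Nat.card K ≤ 4 := by
  haveI : Fact (Nat.Prime 2) := ⟨Nat.prime_two⟩
  obtain ⟨n, hn⟩ := IsPGroup.iff_card.1 (isPGroup_of_sq hsq)
  have h8 := elem_cent_le K hsq h1
  rw [hn] at h8 ⊢
  have hb : ∀ {a b : ℕ}, a ≤ b → 2 ^ a ≤ 2 ^ b := fun h =>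
    Nat.pow_le_pow_right (by norm_num) h
  by_contra hgt
  have hn3 : n = 3 := by
    have a : ¬ n ≤ 2 := fun h => hgt (le_trans (hb h) (by norm_num))
    have b : ¬ 4 ≤ n := fun h => absurd (le_trans (hb h) h8) (by norm_num)
    omega
  obtain ⟨g, l, hcase, -, hl⟩ := classify K (by rw [hn, hn3]; rfl) hsq
  rcases hcase with ⟨_, _, _, a, ha, hi⟩ | ⟨e, he, hel, -⟩
  · unfold Inv3 at hi
    rw [h1 a ha, map_one] at hi
    exact absurd hi (by decide)
  have hck := pu_check e he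
  obtain ⟨l', t, a, hl'⟩ := e
  simp only at hck hel
  subst hel
  obtain ⟨-, -, -, -, ⟨i, hi, hsig⟩, -, -⟩ := hck
  have hk := mem_conj_iff hl i hi
  have hev := sign_snd hR hodd hne (hKR hk) (h1 _ hk)
  have e2 := sign_snd_conj g⁻¹ (E i)
  rw [inv_inv] at e2
  rw [e2, hsig] at hev
  exact absurd hev (by decide)

end Facts

open Facts in
/-- The finite facts. -/
theorem p36Facts : P36Facts where
  card_two K hK := by
    obtain ⟨g, f, hf, -⟩ := exists_index K hK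
    simpa [Nat.card_fin] using Nat.card_le_card_of_injective f hf
  card_two_proper := Facts.card_two_proper
  sylow_comm := Facts.sylow_comm
  sylow_struct := Facts.sylow_struct
  elem_cent := Facts.elem_cent
  elem_cent_le := Facts.elem_cent_le
  cent_nonab := Facts.cent_nonab
  even_square := Facts.even_square
  triangle R A hR hAR hA hsq hinv H _ _ hH _ := Facts.triangle R A hR hAR hA hsq hinv H hH
  eight_norm := Facts.eight_norm

end CfsgLib.NoSixCent
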