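import Cfsg.Agent.Lib.NoSixCent.FusedLocal

/-!
The data of the fused case.
-/

set_option autoImplicit false
set_option linter.unusedSectionVars false
set_option linter.style.haveILetI false

namespace CfsgLib.NoSixCent

open CfsgLib.ThreeTransp Subgroup Fused

universe u

theorem fused_data : StmtFusedData.{u} := by
  intro G _ _ z Q φ V _ g π S L hfus
  classical
  haveI := g.finiteV
  have hX := S.hX
  let Std : Set V := {v | ∃ y : Q, IsStd z Q y ∧ π y = v}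
  let Ux : V → AddSubgroup V := fun v => if h : v ∈ Std then UU L (h.choose : G) else ⊥
  let Ax : V → Subgroup P36 := fun v => if h : v ∈ Std then AA φ Q (h.choose : G) else ⊥
  have hrep : ∀ (v : V) (h : v ∈ Std), IsStd z Q (h.choose : G) ∧ π h.choose = v :=
    fun v h => h.choose_spec
  have hU : ∀ y : Q, IsStd z Q y → Ux (π y) = UU L y ∧ Ax (π y) = AA φ Q y := by
    intro y hy
    have hm : π y ∈ Std := ⟨y, hy, rfl⟩
    obtain ⟨h1, h2⟩ := hrep _ hm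
    simp only [Ux, Ax, dif_pos hm]
    rcases (L.eq_iff _ _).1 h2 with h3 | h3 <;> rw [h3]
    · exact ⟨rfl, rfl⟩
    · exact ⟨UU_z_mul S L hy, AA_z_mul S L hy⟩
  have hperp : ∀ (y : Q) (v : V), g.b v (π y) = 0 → ∃ n : Q, π n = v ∧ (n : G) * y = y * n := by
    intro y v hv
    obtain ⟨n, rfl⟩ := L.surj v
    exact ⟨n, rfl, (L.comm_iff n y).1 hv⟩
  have hstab : ∀ h ∈ φ.range, ∀ y : Q, IsStd z Q y → ∃ (m : Cz z) (y' : Q), φ m = h ∧
      IsStd z Q y' ∧ (y' : G) = m * y * (m : G)⁻¹ ∧ g.act h (π y) = π y' := by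
    rintro _ ⟨m, rfl⟩ y hy
    have hmz := mem_centralizer_singleton_iff.1 m.2
    exact ⟨m, ⟨_, hX.norm m hmz y y.2⟩, rfl, hy.conj_of_comm hX S.hp hmz, rfl,
      L.act_eq m y _ rfl⟩
  have act_mem : ∀ h ∈ φ.range, ∀ v ∈ Std, g.act h v ∈ Std := by
    rintro h hh _ ⟨y, hy, rfl⟩
    obtain ⟨m, y', -, hy', -, he⟩ := hstab h hh y hy
    exact ⟨y', hy', he.symm⟩
  have U_fwd : ∀ h ∈ φ.range, ∀ y ∈ Std, ∀ v, v ∈ Ux y → g.act h v ∈ Ux (g.act h y) := by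
    rintro h hh _ ⟨y, hy, rfl⟩ v hv
    obtain ⟨m, y', rfl, hy', hye, he⟩ := hstab h hh y hy
    rw [(hU y hy).1] at hv
    obtain ⟨d, hd, rfl⟩ := hv
    have hmz := mem_centralizer_singleton_iff.1 m.2
    rw [he, (hU y' hy').1, L.act_eq m d ⟨_, hX.norm m hmz d d.2⟩ rfl]
    refine ⟨_, ?_, rfl⟩
    rw [hye]
    exact (mem_Qc_conj hX hy.conj (m : G) d).2 hd
  have A_fwd : ∀ h ∈ φ.range, ∀ y ∈ Std, ∀ a, a ∈ Ax y → h * a * h⁻¹ ∈ Ax (g.act h y) := by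
    rintro h hh _ ⟨y, hy, rfl⟩ a ha
    obtain ⟨m, y', rfl, hy', hye, he⟩ := hstab h hh y hy
    rw [(hU y hy).2] at ha
    obtain ⟨k, hk, rfl⟩ := mem_AA.1 ha
    rw [he, (hU y' hy').2]
    refine mem_AA.2 ⟨m * k * m⁻¹, ?_, by rw [map_mul, map_mul, map_inv]⟩
    rw [hye]
    exact (mem_Qc_conj hX hy.conj (m : G) k).2 hk
  refine ⟨{
    Std := Std
    U := Ux
    A := Ax
    ne_zero := ?_
    act_mem := act_mem
    U_act := ?_
    A_act := ?_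
    x_U := ?_
    U_q := ?_
    U_symm := ?_
    A_le := ?_
    A_sq := ?_
    A_card := ?_
    cardAU := ?_
    A_fix := ?_
    A_perp := ?_
    A_U := ?_
    mirror := ?_
    coprime := ?_
    triangle := ?_
    orbit := ?_ }, ?_⟩
  · rintro _ ⟨y, hy, rfl⟩ h0
    rcases (pi_eq_zero L hX).1 h0 with h | h
    · obtain ⟨b, hb⟩ := hy.conj
      rw [h] at hb
      exact hX.ne_one (conj_eq_one_iff.1 hb)
    · exact hy.ne h
  · intro h hh y hy v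
    refine ⟨U_fwd h hh y hy v, fun hv => ?_⟩
    have := U_fwd h⁻¹ (inv_mem hh) _ (act_mem h hh y hy) _ hv
    rwa [g.act_inv_left hh, g.act_inv_left hh] at this
  · intro h hh y hy a
    refine ⟨A_fwd h hh y hy a, fun ha => ?_⟩
    have := A_fwd h⁻¹ (inv_mem hh) _ (act_mem h hh y hy) _ ha
    rw [g.act_inv_left hh] at this
    simpa [mul_assoc] using this
  · rintro _ ⟨y, hy, rfl⟩
    rw [(hU y hy).1]
    exact ⟨y, (hy.pair hX S.hp).hQ'.mem, rfl⟩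
  · rintro _ ⟨y, hy, rfl⟩ u hu
    rw [(hU y hy).1] at hu
    obtain ⟨d, hd, rfl⟩ := hu
    rw [L.sq_iff, ← pow_two]
    exact (hy.pair hX S.hp).elementary.2 d ⟨d.2, hd⟩
  · rintro _ ⟨a, ha, rfl⟩ _ ⟨b, hb, rfl⟩ hab
    rw [(hU a ha).1] at hab
    rw [(hU b hb).1]
    exact ⟨a, Qc_comm hX ha.conj hb.conj ((mem_UU_iff S L ha).1 hab), rfl⟩
  · rintro _ ⟨y, hy, rfl⟩ a ha
    rw [(hU y hy).2] at ha
    obtain ⟨k, -, rfl⟩ := mem_AA.1 ha
    exact ⟨k, rfl⟩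
  · rintro _ ⟨y, hy, rfl⟩ a ha
    rw [(hU y hy).2] at ha
    obtain ⟨k, hk, rfl⟩ := mem_AA.1 ha
    rw [← map_mul, S.ker]
    show (k : G) * k ∈ Q
    rcases (hy.pair hX S.hp).hQ'.sq k hk with h | h <;> rw [h]
    exacts [one_mem _, y.2]
  · rintro _ ⟨y, hy, rfl⟩
    rw [(hU y hy).2]
    have h1 := card_AA S L hy
    have h2 := card_UU_le S L hy
    by_contra hlt
    push Not at hlt
    have := Nat.mul_le_mul (Nat.le_of_lt_succ hlt) h2
    omega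
  · rintro _ ⟨y, hy, rfl⟩
    rw [(hU y hy).1, (hU y hy).2]
    exact card_AA S L hy
  · rintro _ ⟨y, hy, rfl⟩ a ha
    rw [(hU y hy).2] at ha
    obtain ⟨k, hk, rfl⟩ := mem_AA.1 ha
    refine L.act_eq k y y ?_
    exact (mul_inv_eq_iff_eq_mul.2 ((hy.pair hX S.hp).hQ'.comm k hk)).symm
  · rintro _ ⟨y, hy, rfl⟩ a ha v hv
    rw [(hU y hy).2] at ha
    obtain ⟨k, hk, rfl⟩ := mem_AA.1 ha
    obtain ⟨n, rfl, hn⟩ := hperp y v hv
    rw [(hU y hy).1, act_add S L hy k n]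
    refine (mem_UU_iff S L hy).2 ?_
    show (k : G) * n * (k : G)⁻¹ * (n : G)⁻¹ ∈ _
    rw [show (k : G) * n * (k : G)⁻¹ * (n : G)⁻¹ = (k : G) * ((n : G) * (k : G)⁻¹ * (n : G)⁻¹) by group]
    exact mul_mem hk ((hy.pair hX S.hp).hQ'.norm n hn _ (inv_mem hk))
  · rintro _ ⟨y, hy, rfl⟩ a ha u hu
    rw [(hU y hy).2] at ha
    rw [(hU y hy).1] at hu
    obtain ⟨k, hk, rfl⟩ := mem_AA.1 ha
    obtain ⟨d, hd, rfl⟩ := hu
    rw [act_add S L hy k d]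
    rcases (hy.pair hX S.hp).hQ'.commEl k hk d hd with h | h
    · exact Or.inl ((pi_eq_zero L hX).2 (Or.inl (by show _ * (d : G)⁻¹ = 1; rw [h]; group)))
    · exact Or.inr (congrArg π (Subtype.ext (by show _ * (d : G)⁻¹ = (y : G); rw [h]; group)))
  · rintro _ ⟨y, hy, rfl⟩ ⟨a, ha, ha1, hav⟩
    rw [(hU y hy).2] at ha ⊢
    rw [(hU y hy).1]
    exact mirror S L hy ha ha1 hav
  · rintro _ ⟨y, hy, rfl⟩ e he - hex hec v hv
    rw [(hU y hy).2] at hec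
    rw [(hU y hy).1]
    exact coprime S L hy he hex hec hv
  · intro h16 _ hvx _ hvy hne hyx hint a ha hay
    obtain ⟨x, hx, rfl⟩ := hvx
    obtain ⟨y, hy, rfl⟩ := hvy
    rw [(hU x hx).2] at ha
    rw [(hU x hx).1] at hyx
    rw [(hU y hy).2]
    refine triangle S L hx (fun w hw => ?_) hy ((mem_UU_iff S L hx).1 hyx) hne (fun u hu hu' => ?_) ha hay
    · have := h16 (π ⟨w, hw.mem⟩) ⟨⟨w, hw.mem⟩, hw, rfl⟩
      rwa [(hU ⟨w, hw.mem⟩ hw).1] at this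
    · exact hint u (by rw [(hU x hx).1]; exact hu) (by rw [(hU y hy).1]; exact hu')
  · rintro _ ⟨y, hy, rfl⟩ h16
    rw [(hU y hy).1] at h16 ⊢
    have hset : ({w | w ∈ Std ∧ Ux w = UU L (y : G)} : Set V) =
        {w | ∃ u : Q, IsStd z Q u ∧ π u = w ∧ UU L u = UU L (y : G)} := by
      ext w
      constructor
      · rintro ⟨⟨u, hu, rfl⟩, h⟩
        exact ⟨u, hu, rfl, by rw [← (hU u hu).1]; exact h⟩
      · rintro ⟨u, hu, rfl, h⟩
        exact ⟨⟨u, hu, rfl⟩, by rw [(hU u hu).1]; exact h⟩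
    rw [hset]
    exact orbit S L hy h16
  · obtain ⟨a, haQ, hane⟩ := hfus
    exact ⟨π ⟨_, haQ⟩, ⟨_, haQ⟩, ⟨⟨a, rfl⟩, haQ, hane⟩, rfl⟩

end CfsgLib.NoSixCent
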