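import Cfsg.Agent.Lib.NoSixCent.Basic

/-!
The fused case does not occur in the `2 + 6` type.
-/

set_option autoImplicit false
set_option linter.style.haveILetI false
set_option linter.unusedSectionVars false

namespace CfsgLib.NoSixCent

universe u

namespace Two

variable {V : Type u} [AddCommGroup V] {R : Subgroup P36} (g : Geo V R)
include g

/-- The fixed part. -/
def p6 (v : V) : V := v + g.act dEl v + g.act dEl (g.act dEl v)

/-- The part moved by `dEl`. -/
def p2 (v : V) : V := g.act dEl v + g.act dEl (g.act dEl v)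

theorem d_cube (v : V) : g.act dEl (g.act dEl (g.act dEl v)) = v := by
  rw [← g.act_mul _ g.dEl_mem _ g.dEl_mem, ← g.act_mul _ (R.mul_mem g.dEl_mem g.dEl_mem) _ g.dEl_mem,
    dEl_cube, g.act_one]

theorem p6_mem (v : V) : p6 g v ∈ g.fixSub g.dEl_mem := by
  show g.act dEl (p6 g v) = p6 g v
  rw [p6, g.act_add _ g.dEl_mem, g.act_add _ g.dEl_mem, d_cube g]
  abel

theorem p2_mem (v : V) : p2 g v ∈ g.comSub g.dEl_mem :=
  ⟨g.act dEl v, by rw [g.comHom_apply, p2, add_comm]⟩

theorem p6_add_p2 (v : V) : p6 g v + p2 g v = v := by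
  have h : p6 g v = v + p2 g v := by rw [p6, p2]; abel
  rw [h, g.add_add_cancel]

theorem eq_zero_of_both {w : V} (hc : w ∈ g.comSub g.dEl_mem) (hf : w ∈ g.fixSub g.dEl_mem) :
    w = 0 := by
  obtain ⟨v, rfl⟩ := hc
  rw [g.comHom_apply] at hf ⊢
  have h : g.act dEl (g.act dEl v + v) = g.act dEl v + v := hf
  rw [g.act_add _ g.dEl_mem, add_comm (g.act dEl v) v] at h
  have h2 : g.act dEl (g.act dEl v) = v := add_right_cancel h
  have h3 : g.act dEl v = v := by
    conv_lhs => rw [← h2]
    exact d_cube g v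
  rw [h3, g.two]

theorem b_com_fix {w f : V} (hw : w ∈ g.comSub g.dEl_mem) (hf : f ∈ g.fixSub g.dEl_mem) :
    g.b w f = 0 := by
  obtain ⟨v, rfl⟩ := hw
  have hf' : g.act dEl f = f := hf
  have e : g.b (g.act dEl v) f = g.b v f := by
    conv_lhs => rw [← hf']
    exact g.b_act g.dEl_mem v f
  rw [g.comHom_apply, g.b_add, e, zmod2_add_self]

theorem card_com (hII : g.TypeII) : Nat.card (g.comSub g.dEl_mem) = 4 := by
  have h := g.card_com_mul_fix g.dEl_mem
  rw [show Nat.card (g.fixSub g.dEl_mem) = 64 from hII] at h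
  omega

/-- The three nonzero vectors of the moved part. -/
theorem com_cases (hII : g.TypeII) {w w' : V} (hw : w ∈ g.comSub g.dEl_mem) (hw0 : w ≠ 0)
    (hw' : w' ∈ g.comSub g.dEl_mem) :
    w' = 0 ∨ w' = w ∨ w' = g.act dEl w ∨ w' = g.act dEl (g.act dEl w) := by
  classical
  haveI := g.finiteV
  by_contra hno
  simp only [not_or] at hno
  obtain ⟨n0, n1, n2, n3⟩ := hno
  have hd : ∀ {u : V}, u ∈ g.comSub g.dEl_mem → g.act dEl u ∈ g.comSub g.dEl_mem := fun {u} hu =>
    g.act_com g.dEl_mem g.dEl_mem rfl hu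
  have hne : g.act dEl w ≠ w := fun h => hw0 (eq_zero_of_both g hw h)
  have hne2 : g.act dEl (g.act dEl w) ≠ w := fun h => hne (by
    conv_lhs => rw [← h]
    exact d_cube g w)
  have hne3 : g.act dEl (g.act dEl w) ≠ g.act dEl w := fun h => hne (g.act_injective g.dEl_mem h)
  have hz : ∀ {u : V}, u ≠ 0 → g.act dEl u ≠ 0 := fun {u} hu h => hu (g.act_injective g.dEl_mem
    (h.trans (g.act_zero g.dEl_mem).symm))
  let S : Finset V := {0, w, g.act dEl w, g.act dEl (g.act dEl w), w'}
  have hS : S.card = 5 := by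
    simp [S, hw0, Ne.symm hw0, Ne.symm n0, Ne.symm n1, Ne.symm n2, Ne.symm n3, Ne.symm hne,
      Ne.symm hne2, Ne.symm hne3, (hz hw0).symm, (hz (hz hw0)).symm]
  have hle : (S : Set V) ⊆ (g.comSub g.dEl_mem : Set V) := by
    intro u hu
    simp only [S, Finset.coe_insert, Finset.coe_singleton, Set.mem_insert_iff,
      Set.mem_singleton_iff] at hu
    rcases hu with rfl | rfl | rfl | rfl | rfl
    exacts [zero_mem _, hw, hd hw, hd (hd hw), hw']
  have := Nat.card_mono (Set.toFinite _) hle
  have e : Nat.card ↥(S : Set V) = S.card := by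
    rw [Nat.card_coe_set_eq, Set.ncard_coe_finset]
  rw [e, hS] at this
  have h4 := card_com g hII
  have h' : Nat.card ↥(g.comSub g.dEl_mem : Set V) = 4 := h4
  omega

/-- An involution with trivial first component fixes the moved part pointwise. -/
theorem fix_com (hII : g.TypeII) {a : P36} (ha : a ∈ R) (h2 : a * a = 1) (h1 : ¬ Inv3 a) {w : V}
    (hw : w ∈ g.comSub g.dEl_mem) : g.act a w = w := by
  by_cases hw0 : w = 0
  · rw [hw0, g.act_zero ha]
  have hc := comm_dEl h1
  have haw : g.act a w ∈ g.comSub g.dEl_mem := g.act_com g.dEl_mem ha hc hw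
  have hne : g.act dEl w ≠ w := fun h => hw0 (eq_zero_of_both g hw h)
  have haa : g.act a (g.act a w) = w := by rw [← g.act_mul _ ha _ ha, h2, g.act_one]
  rcases com_cases g hII hw hw0 haw with h | h | h | h
  · exact absurd (g.act_injective ha (h.trans (g.act_zero ha).symm)) hw0
  · exact h
  · exfalso
    rw [h, g.act_comm ha g.dEl_mem hc, h] at haa
    refine hne ?_
    conv_lhs => rw [← haa]
    exact d_cube g w
  · exfalso
    rw [h, g.act_comm ha g.dEl_mem hc, g.act_comm ha g.dEl_mem hc, h] at haa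
    rw [d_cube g] at haa
    exact hne haa

/-- The moved part contains no non-zero singular vector. -/
theorem q_com (hII : g.TypeII) {w : V} (hw : w ∈ g.comSub g.dEl_mem) (hq : g.q w = 0) : w = 0 := by
  by_contra hw0
  have hall : ∀ w' ∈ g.comSub g.dEl_mem, g.q w' = 0 := fun w' hw' => by
    rcases com_cases g hII hw hw0 hw' with h | h | h | h <;> rw [h]
    · exact g.q_zero
    · exact hq
    · rw [g.q_act _ g.dEl_mem, hq]
    · rw [g.q_act _ g.dEl_mem, g.q_act _ g.dEl_mem, hq]
  refine hw0 (g.nondeg w fun v => ?_)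
  rw [← p6_add_p2 g v, g.b_add_right, b_com_fix g hw (p6_mem g v), zero_add]
  have h := g.q_add w (p2 g v)
  rw [hall _ (add_mem hw (p2_mem g v)), hall _ hw, hall _ (p2_mem g v)] at h
  simpa using h.symm

variable {g}

/-- The elements of `A x` not inverting `dEl`. -/
theorem exists_four (f : FData g) {x : V} (hx : x ∈ f.Std) :
    ∃ A0 : Subgroup P36, A0 ≤ f.A x ∧ (∀ a ∈ A0, ¬ Inv3 a) ∧ 4 ≤ Nat.card A0 := by
  let s : P36 →* ℤˣ := Equiv.Perm.sign.comp (MonoidHom.fst _ _)
  refine ⟨f.A x ⊓ s.ker, inf_le_left, fun a ha hi => ?_, ?_⟩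
  · have h : Equiv.Perm.sign a.1 = 1 := ha.2
    exact absurd ((show Equiv.Perm.sign a.1 = -1 from hi).symm.trans h) (by decide)
  · have h8 := f.A_card x hx
    have h1 := Subgroup.relIndex_mul_relIndex (⊥ : Subgroup P36) (f.A x ⊓ s.ker) (f.A x) bot_le
      inf_le_left
    rw [Subgroup.relIndex_bot_left, Subgroup.relIndex_bot_left, Subgroup.inf_relIndex_left] at h1
    have h2 : s.ker.relIndex (f.A x) ≤ 2 := by
      rw [Subgroup.relIndex, show s.ker.subgroupOf (f.A x) = (s.comp (f.A x).subtype).ker from rfl,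
        Subgroup.index_ker]
      exact (Subgroup.card_le_card_group _).trans (le_of_eq (by simp [Nat.card_eq_fintype_card]))
    have h3 : Nat.card ↥(f.A x ⊓ s.ker) * 2 ≥ Nat.card (f.A x) := by
      rw [← h1]; exact Nat.mul_le_mul_left _ h2
    omega

/-- The point `x` is not fixed by `dEl`. -/
theorem not_fix (hII : g.TypeII) (f : FData g) {x : V} (hx : x ∈ f.Std) :
    g.act dEl x ≠ x := by
  intro hfix
  have hcomm : ∀ a ∈ f.A x, dEl * a = a * dEl := by
    intro a ha
    by_cases hi : Inv3 a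
    · exfalso
      have h1 : dEl * a * dEl⁻¹ ∈ f.A x := by
        have := (f.A_act _ g.dEl_mem x hx a).1 ha
        rwa [hfix] at this
      have h2 : dEl * dEl ∈ f.A x := by
        have h3 := mul_mem h1 ((f.A x).inv_mem ha)
        have e : dEl * a * dEl⁻¹ * a⁻¹ = dEl * dEl := by
          have e1 : a * dEl⁻¹ = dEl * a := by
            have := inv3_dEl hi
            calc a * dEl⁻¹ = dEl * (dEl⁻¹ * a) * dEl⁻¹ := by group
              _ = dEl * (a * dEl) * dEl⁻¹ := by rw [this]
              _ = _ := by group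
          calc dEl * a * dEl⁻¹ * a⁻¹ = dEl * (a * dEl⁻¹) * a⁻¹ := by group
            _ = dEl * dEl := by rw [e1]; group
        rwa [e] at h3
      have h4 := f.A_sq x hx _ h2
      exact dEl_ne_one (by rwa [← mul_assoc, dEl_cube, one_mul] at h4)
    · exact (comm_dEl hi).symm
  obtain ⟨w, hw, hw0⟩ : ∃ w ∈ g.comSub g.dEl_mem, w ≠ 0 := by
    by_contra hno
    simp only [not_exists, not_and, not_not] at hno
    have h4 := card_com g hII
    rw [(AddSubgroup.eq_bot_iff_forall _).2 hno, AddSubgroup.card_bot] at h4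
    omega
  have hperp : g.b w x = 0 := b_com_fix g hw hfix
  have hU := f.coprime x hx dEl g.dEl_mem dEl_cube hfix hcomm w hperp
  have hc : g.act dEl w + w ∈ g.comSub g.dEl_mem := ⟨w, rfl⟩
  exact hw0 (eq_zero_of_both g hw (g.add_eq_zero_iff.1 (q_com g hII hc (f.U_q x hx _ hU))))

omit g in
/-- A group of exponent two has two generators modulo a subgroup of index at most seven. -/
theorem exists_two {W : Type u} [AddCommGroup W] [Finite W] (Z : AddSubgroup W)
    (h2 : ∀ v : W, v + v = 0) (h : Nat.card W ≤ 7 * Nat.card Z) :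
    ∃ f₁ f₂ : W, ∀ v, v ∈ Z ∨ v + f₁ ∈ Z ∨ v + f₂ ∈ Z ∨ v + (f₁ + f₂) ∈ Z := by
  classical
  by_contra hno
  simp only [not_exists, not_forall, not_or] at hno
  obtain ⟨v1, a1, -, -, -⟩ := hno 0 0
  obtain ⟨v2, a2, b2, -, -⟩ := hno v1 0
  obtain ⟨v3, a3, b3, c3, d3⟩ := hno v1 v2
  -- eight disjoint cosets
  let c : Bool × Bool × Bool → W := fun t =>
    (if t.1 then v1 else 0) + (if t.2.1 then v2 else 0) + (if t.2.2 then v3 else 0)
  have hc : Function.Injective (fun p : (Bool × Bool × Bool) × Z => c p.1 + (p.2 : W)) := by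
    rintro ⟨⟨t1, t2, t3⟩, z⟩ ⟨⟨s1, s2, s3⟩, z'⟩ e
    simp only [c] at e
    have hneg : ∀ v : W, -v = v := fun v => neg_eq_of_add_eq_zero_left (h2 v)
    have key : ∀ u : W, u + (z : W) = (z' : W) → u ∈ Z := fun u hu => by
      have : u = (z' : W) - (z : W) := eq_sub_of_add_eq hu
      rw [this]; exact Z.sub_mem z'.2 z.2
    have hsum : (if t1 then v1 else 0) + (if s1 then v1 else 0) +
        ((if t2 then v2 else 0) + (if s2 then v2 else 0)) +
        ((if t3 then v3 else 0) + (if s3 then v3 else 0)) ∈ Z := by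
      refine key _ ?_
      have e' : (z' : W) = ((if s1 then v1 else 0) + (if s2 then v2 else 0) +
          (if s3 then v3 else 0)) + (((if s1 then v1 else 0) + (if s2 then v2 else 0) +
          (if s3 then v3 else 0)) + (z' : W)) := by
        rw [← add_assoc, h2, zero_add]
      rw [e', ← e]; abel
    rw [add_comm v2 v1] at b2
    rw [add_comm v3 v1] at b3
    rw [add_comm v3 v2] at c3
    rw [add_comm v3 (v1 + v2)] at d3
    cases t1 <;> cases s1 <;> cases t2 <;> cases s2 <;> cases t3 <;> cases s3 <;>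
      simp only [if_true, if_false, Bool.false_eq_true, h2, add_zero, zero_add] at hsum e ⊢ <;>
      first
        | contradiction
        | exact Prod.ext rfl (Subtype.ext (add_left_cancel e))
        | exact Prod.ext rfl (Subtype.ext e)
  have h3 := Nat.card_le_card_of_injective _ hc
  simp only [Nat.card_prod, Nat.card_eq_fintype_card (α := Bool), Fintype.card_bool] at h3
  have hpos : 0 < Nat.card Z := Nat.card_pos
  omega

end Two

open Two in
set_option maxHeartbeats 1000000 in
/-- The fused case does not occur in the `2 + 6` type. -/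
theorem no_fusedII : StmtNoFusedII.{u} := by
  intro V _ R g f hII x hx
  classical
  haveI := g.finiteV
  obtain ⟨A0, hA0, hA1, hA4⟩ := exists_four f hx
  set U := f.U x with hU
  set F := g.fixSub g.dEl_mem with hF
  set Y : AddSubgroup V := U ⊓ F with hY
  set Z : AddSubgroup V := g.perp (Y : Set V) ⊓ F with hZ
  have hAR : ∀ a ∈ A0, a ∈ R := fun a ha => f.A_le x hx (hA0 ha)
  have hsq : ∀ a ∈ A0, a * a = 1 := fun a ha => f.A_sq x hx a (hA0 ha)
  have hinv : ∀ a ∈ A0, ∀ v w, g.b (g.act a v) w = g.b v (g.act a w) := fun a ha v w => by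
    rw [g.b_act_left (hAR a ha), inv_eq_of_mul_eq_one_right (hsq a ha)]
  have hF6 : ∀ a ∈ A0, ∀ v ∈ F, g.act a v ∈ F := fun a ha v hv =>
    g.act_fix g.dEl_mem (hAR a ha) (comm_dEl (hA1 a ha)) hv
  have hUb : ∀ v ∈ U, ∀ w ∈ U, g.b v w = 0 := fun v hv w hw => by
    have h := g.q_add v w
    rw [f.U_q x hx _ (add_mem hv hw), f.U_q x hx _ hv, f.U_q x hx _ hw] at h
    simpa using h.symm
  have hx2 : p2 g x ≠ 0 := fun h => not_fix hII f hx (by
    have h6 : g.act dEl (p6 g x) = p6 g x := p6_mem g x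
    rwa [show p6 g x = x by conv_rhs => rw [← p6_add_p2 g x, h, add_zero]] at h6)
  -- the commutators on the fixed part
  have hA6 : ∀ a ∈ A0, ∀ v ∈ F, g.act a v + v ∈ Y := by
    intro a ha v hv
    obtain ⟨w, hw, hwx⟩ : ∃ w ∈ g.comSub g.dEl_mem, g.b w x = g.b v x := by
      rcases zmod2_cases (g.b v x) with h | h
      · exact ⟨0, zero_mem _, by rw [g.b_zero, h]⟩
      · by_contra hno
        simp only [not_exists, not_and] at hno
        refine hx2 (g.nondeg _ fun u => ?_)
        rw [← p6_add_p2 g u, g.b_add_right, b_com_fix g (p2_mem g x) (p6_mem g u), zero_add,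
          g.b_symm]
        have h' : g.b (p2 g u) x = 0 :=
          (zmod2_cases _).resolve_right fun e => hno _ (p2_mem g u) (e.trans h.symm)
        rwa [← p6_add_p2 g x, g.b_add_right, b_com_fix g (p2_mem g u) (p6_mem g x), zero_add] at h'
    refine ⟨?_, add_mem (hF6 a ha v hv) hv⟩
    have hp := f.A_perp x hx a (hA0 ha) (v + w) (by rw [g.b_add, hwx, zmod2_add_self])
    rw [g.act_add _ (hAR a ha), fix_com g hII (hAR a ha) (hsq a ha) (hA1 a ha) hw] at hp
    rwa [show g.act a v + w + (v + w) = g.act a v + v + (w + w) by abel, g.two, add_zero] at hp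
  have hAU : ∀ a ∈ A0, ∀ u ∈ U, g.act a u = u := by
    intro a ha u hu
    rcases f.A_U x hx a (hA0 ha) u hu with h | h
    · exact g.add_eq_zero_iff.1 h
    · exfalso
      have hxF : x ∈ F := by
        have e : g.act a u + u = g.act a (p6 g u) + p6 g u := by
          conv_lhs => rw [← p6_add_p2 g u, g.act_add _ (hAR a ha),
            fix_com g hII (hAR a ha) (hsq a ha) (hA1 a ha) (p2_mem g u)]
          rw [show g.act a (p6 g u) + p2 g u + (p6 g u + p2 g u) =
            g.act a (p6 g u) + p6 g u + (p2 g u + p2 g u) by abel, g.two, add_zero]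
        rw [← h, e]
        exact add_mem (hF6 a ha _ (p6_mem g u)) (p6_mem g u)
      exact not_fix hII f hx hxF
  have hAZ : ∀ a ∈ A0, ∀ v ∈ Z, g.act a v = v := by
    intro a ha v hv
    refine g.add_eq_zero_iff.1 (g.nondeg _ fun w => ?_)
    rw [← p6_add_p2 g w, g.b_add_right, g.b_symm (g.act a v + v) (p2 g w),
      b_com_fix g (p2_mem g w) (add_mem (hF6 a ha v hv.2) hv.2), add_zero, g.b_add, hinv a ha,
      ← g.b_add_right]
    exact hv.1 _ (hA6 a ha _ (p6_mem g w))
  -- sizes
  have hZc : Nat.card Y * Nat.card Z = 64 := by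
    have h := g.card_mul_card_perp Y
    let e : g.comSub g.dEl_mem × Z ≃ g.perp (Y : Set V) :=
      { toFun := fun p => ⟨p.1.1 + p.2.1, fun s hs => by
          rw [g.b_add, b_com_fix g p.1.2 hs.2, p.2.2.1 s hs, add_zero]⟩
        invFun := fun v => (⟨p2 g v.1, p2_mem g v.1⟩, ⟨p6 g v.1, fun s hs => by
          have := v.2 s hs
          rwa [← p6_add_p2 g v.1, g.b_add, b_com_fix g (p2_mem g v.1) hs.2, add_zero] at this,
          p6_mem g v.1⟩)
        left_inv := fun p => by
          have hadd : ∀ a b, p2 g (a + b) = p2 g a + p2 g b := fun a b => by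
            rw [p2, p2, p2, g.act_add _ g.dEl_mem, g.act_add _ g.dEl_mem]; abel
          have h2 : p2 g (p.1.1 + p.2.1) = p.1.1 := by
            rw [hadd]
            have a1 : p6 g p.1.1 = 0 := eq_zero_of_both g (by
              rw [show p6 g p.1.1 = p.1.1 + p2 g p.1.1 by rw [p6, p2]; abel]
              exact add_mem p.1.2 (p2_mem g _)) (p6_mem g _)
            have a2 : p2 g p.2.1 = 0 := eq_zero_of_both g (p2_mem g _) (by
              have e : p2 g p.2.1 = p.2.1 + p6 g p.2.1 := by
                conv_rhs => arg 1; rw [← p6_add_p2 g p.2.1]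
                rw [show p6 g p.2.1 + p2 g p.2.1 + p6 g p.2.1 =
                  p2 g p.2.1 + (p6 g p.2.1 + p6 g p.2.1) by abel, g.two, add_zero]
              rw [e]
              exact add_mem p.2.2.2 (p6_mem g _))
            rw [a2, add_zero]
            conv_rhs => rw [← p6_add_p2 g p.1.1, a1, zero_add]
          refine Prod.ext (Subtype.ext h2) (Subtype.ext ?_)
          show p6 g (p.1.1 + p.2.1) = p.2.1
          have := p6_add_p2 g (p.1.1 + p.2.1)
          rw [h2, add_comm] at this
          exact add_left_cancel this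
        right_inv := fun v => Subtype.ext (by
          show p2 g v.1 + p6 g v.1 = v.1
          rw [add_comm, p6_add_p2 g]) }
    rw [← Nat.card_congr e, Nat.card_prod, card_com g hII] at h
    rw [show Nat.card Y * (4 * Nat.card Z) = 4 * (Nat.card Y * Nat.card Z) by ring] at h
    omega
  have hUY : Nat.card Y < Nat.card U := by
    refine lt_of_not_ge fun hle => not_fix hII f hx ?_
    have e : Y = U := AddSubgroup.eq_of_le_of_card_ge inf_le_left hle
    have hxU : x ∈ U := f.x_U x hx
    rw [← e] at hxU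
    exact hxU.2
  have hUZ : Nat.card U ≤ Nat.card Z := by
    let F' : U → Z := fun u => ⟨p6 g u.1, fun s hs => by
      have hs' : s ∈ Y := hs
      have := hUb u.1 u.2 s hs'.1
      rwa [← p6_add_p2 g u.1, g.b_add, b_com_fix g (p2_mem g u.1) hs'.2, add_zero] at this,
      p6_mem g u.1⟩
    refine Nat.card_le_card_of_injective F' fun u v e => ?_
    have e' : p6 g u.1 = p6 g v.1 := congrArg Subtype.val e
    have h6 : p6 g (u.1 + v.1) = 0 := by
      have hadd : p6 g (u.1 + v.1) = p6 g u.1 + p6 g v.1 := by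
        rw [p6, p6, p6, g.act_add _ g.dEl_mem, g.act_add _ g.dEl_mem]; abel
      rw [hadd, e', g.two]
    have h2 : p2 g (u.1 + v.1) = u.1 + v.1 := by
      conv_rhs => rw [← p6_add_p2 g (u.1 + v.1), h6, zero_add]
    refine Subtype.ext (g.add_eq_zero_iff.1 (q_com g hII ?_ (f.U_q x hx _ (add_mem u.2 v.2))))
    rw [← h2]
    exact p2_mem g _
  have hY7 : Nat.card Y ≤ 7 := by
    by_contra hb
    have := Nat.mul_le_mul (show 8 ≤ Nat.card Y by omega) (show 9 ≤ Nat.card Z by omega)
    omega
  have hFc : Nat.card F = 64 := hII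
  obtain ⟨f₁, f₂, hcov⟩ := exists_two (W := F) (Z.addSubgroupOf F)
    (fun v => Subtype.ext (g.two v.1)) (by
      rw [hFc, Nat.card_congr (AddSubgroup.addSubgroupOfEquivOfLe (inf_le_right : Z ≤ F)).toEquiv,
        ← hZc]
      exact Nat.mul_le_mul_right _ hY7)
  -- the alternating form of an element
  let β : P36 → V → V → ZMod 2 := fun a v w => g.b (g.act a v + v) w
  have halt : ∀ a ∈ A0, ∀ v ∈ F, β a v v = 0 := by
    intro a ha v hv
    have hy := hA6 a ha v hv
    have h1 := g.q_add (g.act a v + v) v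
    rw [g.add_add_cancel, g.q_act _ (hAR a ha), f.U_q x hx _ hy.1, zero_add, left_eq_add] at h1
    exact h1
  have hadd1 : ∀ a ∈ A0, ∀ u v w, β a (u + v) w = β a u w + β a v w := fun a ha u v w => by
    show g.b (g.act a (u + v) + (u + v)) w = _
    rw [g.act_add _ (hAR a ha), show g.act a u + g.act a v + (u + v) =
      g.act a u + u + (g.act a v + v) by abel, g.b_add]
  have hadd2 : ∀ a ∈ A0, ∀ u v w, β a u (v + w) = β a u v + β a u w :=
    fun a _ u v w => g.b_add_right _ v w
  have hsymm : ∀ a ∈ A0, ∀ u v, β a u v = β a v u := fun a ha u v => by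
    show g.b (g.act a u + u) v = g.b (g.act a v + v) u
    rw [g.b_add, g.b_add, hinv a ha, g.b_symm u (g.act a v), g.b_symm u v]
  have hzero : ∀ a ∈ A0, ∀ z ∈ Z, ∀ w, β a z w = 0 := fun a ha z hz w => by
    show g.b (g.act a z + z) w = 0
    rw [hAZ a ha z hz, g.two, g.b_zero]
  have hinj : Function.Injective (fun a : A0 => β a f₁ f₂) := by
    rintro ⟨a, ha⟩ ⟨a', ha'⟩ hbit
    have hbit' : β a f₁ f₂ = β a' f₁ f₂ := hbit
    refine Subtype.ext ?_
    have hgen : ∀ v ∈ F, ∀ w : V, (∀ c ∈ A0, β c v w = β c w v) →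
        β a (f₁ : V) w = β a' (f₁ : V) w → β a (f₂ : V) w = β a' (f₂ : V) w →
        β a v w = β a' v w := by
      intro v hv w _ e1 e2
      have split : ∀ t : V, v + t ∈ Z → ∀ c ∈ A0, β c v w = β c t w := fun t ht c hc => by
        have := hadd1 c hc (v + t) t w
        rwa [g.add_add_cancel, hzero c hc _ ht, zero_add] at this
      rcases hcov ⟨v, hv⟩ with h | h | h | h
      · rw [hzero a ha v h, hzero a' ha' v h]
      · rw [split _ h a ha, split _ h a' ha', e1]
      · rw [split _ h a ha, split _ h a' ha', e2]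
      · rw [split _ h a ha, split _ h a' ha']
        show β a ((f₁ : V) + f₂) w = β a' ((f₁ : V) + f₂) w
        rw [hadd1 a ha, hadd1 a' ha', e1, e2]
    have hgen' : ∀ v ∈ F, β a v f₁ = β a' v f₁ ∧ β a v f₂ = β a' v f₂ := fun v hv =>
      ⟨hgen v hv _ (fun c hc => hsymm c hc _ _)
        (by rw [halt a ha _ f₁.2, halt a' ha' _ f₁.2])
        (by rw [hsymm a ha, hsymm a' ha', hbit']),
      hgen v hv _ (fun c hc => hsymm c hc _ _) hbit'
        (by rw [halt a ha _ f₂.2, halt a' ha' _ f₂.2])⟩
    have hall : ∀ v ∈ F, ∀ w ∈ F, β a v w = β a' v w := fun v hv w hw =>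
      hgen v hv w (fun c hc => hsymm c hc _ _)
        (by rw [hsymm a ha, hsymm a' ha', (hgen' w hw).1])
        (by rw [hsymm a ha, hsymm a' ha', (hgen' w hw).2])
    have heq : ∀ v, g.act a v = g.act a' v := by
      intro v
      rw [← p6_add_p2 g v, g.act_add _ (hAR a ha), g.act_add _ (hAR a' ha'),
        fix_com g hII (hAR a ha) (hsq a ha) (hA1 a ha) (p2_mem g v),
        fix_com g hII (hAR a' ha') (hsq a' ha') (hA1 a' ha') (p2_mem g v)]
      refine congrArg (· + p2 g v) (g.add_eq_zero_iff.1 (g.nondeg _ fun w => ?_))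
      have hv6 := p6_mem g v
      rw [← p6_add_p2 g w, g.b_add_right, g.b_symm _ (p2 g w),
        b_com_fix g (p2_mem g w) (add_mem (hF6 a ha _ hv6) (hF6 a' ha' _ hv6)), add_zero]
      have := hall _ hv6 _ (p6_mem g w)
      rw [g.b_add]
      have e1 : g.b (g.act a (p6 g v)) (p6 g w) + g.b (p6 g v) (p6 g w) =
          g.b (g.act a' (p6 g v)) (p6 g w) + g.b (p6 g v) (p6 g w) := by
        rw [← g.b_add, ← g.b_add]; exact this
      rw [add_right_cancel e1, zmod2_add_self]
    have h1 : a' * a = 1 := g.faithful _ (R.mul_mem (hAR a' ha') (hAR a ha)) fun v => by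
      rw [g.act_mul _ (hAR a' ha') _ (hAR a ha), heq v, ← g.act_mul _ (hAR a' ha') _ (hAR a' ha'),
        hsq a' ha', g.act_one]
    calc a = a' * a' * a := by rw [hsq a' ha', one_mul]
      _ = a' := by rw [mul_assoc, h1, mul_one]
  have := Nat.card_le_card_of_injective _ hinj
  rw [Nat.card_zmod] at this
  omega

end CfsgLib.NoSixCent
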