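import Cfsg.Agent.Lib.NoSixCent.FusedTB

/-!
Fused case, tensor type: no data.
-/

set_option autoImplicit false

namespace CfsgLib.NoSixCent

universe u

/-- There is no fused data of tensor type. -/
theorem no_fusedT (F : P36Facts) : StmtNoFusedT.{u} := by
  intro V _ R g f hT x hx
  have hall : ∀ v ∈ f.Std, ∃ c ∈ f.A v, Inv3 c := by
    intro v hv
    by_contra h
    push Not at h
    exact FusedT.caseB f hv F hT fun a ha =>
      fst_eq_one_of_sq (h a ha) (f.A_sq v hv a ha)
  obtain ⟨a', ha', hai⟩ := hall x hx
  exact FusedT.caseA f hx hT ha' hai F hall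

end CfsgLib.NoSixCent
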