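import Cfsg.Agent.Lib.NoSixCent.Interface

/-!
S3283, S3284: the weakly closed case is impossible (pure side).
-/

set_option autoImplicit false

namespace CfsgLib.NoSixCent

namespace NoWeak

universe u

variable {V : Type u} [AddCommGroup V] {R : Subgroup P36}

/-! ### The quotient group -/

private lemma zmod_two_cases (x : ZMod 2) : x = 0 ∨ x = 1 := by
  revert x; decide

private lemma perm3_odd_sq : ∀ s : Equiv.Perm (Fin 3), Equiv.Perm.sign s = -1 → s * s = 1 := by
  decide

private lemma perm3_odd_conj : ∀ s : Equiv.Perm (Fin 3), Equiv.Perm.sign s = -1 →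
    s * finRotate 3 = finRotate 3 * finRotate 3 * s := by
  decide

private lemma perm3_sq_one : ∀ s : Equiv.Perm (Fin 3), s * s = 1 →
    Equiv.Perm.sign s = -1 ∨ s = 1 := by
  decide

private lemma bits : ∀ α β a b c e : ZMod 2, ∃ x y z t : ZMod 2,
    y + t * α = a ∧ x + t * β = b ∧ t = c ∧ x * α + y * β + z = e := by
  decide

lemma dEl_cube : dEl * dEl * dEl = 1 := by
  refine Prod.ext ?_ ?_
  · show finRotate 3 * finRotate 3 * finRotate 3 = 1
    decide
  · simp [dEl]

lemma comm_d {h : P36} (hh : h.1 = 1) : h * dEl = dEl * h := by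
  refine Prod.ext ?_ ?_ <;> simp [dEl, hh]

lemma inv_d {h : P36} (hh : Inv3 h) : h * dEl = dEl * dEl * h := by
  refine Prod.ext ?_ ?_
  · exact perm3_odd_conj h.1 hh
  · simp [dEl]

lemma fst_one {h : P36} (hh : h * h = 1) (hn : ¬ Inv3 h) : h.1 = 1 :=
  (perm3_sq_one h.1 (congrArg Prod.fst hh)).resolve_left hn

lemma first_sq {s : Equiv.Perm (Fin 3)} (hs : Inv3 ((s, 1) : P36)) :
    ((s, 1) : P36) * (s, 1) = 1 :=
  Prod.ext (perm3_odd_sq s hs) (one_mul 1)

/-! ### The orthogonal space -/

variable (g : Geo V R)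

include g

lemma finite_V : Finite V := Nat.finite_of_card_ne_zero (by rw [g.card]; norm_num)

lemma neg_eq (v : V) : -v = v := neg_eq_of_add_eq_zero_left (g.two v)

lemma add_eq_zero_iff {v w : V} : v + w = 0 ↔ v = w := by
  rw [add_eq_zero_iff_eq_neg, neg_eq g]

lemma cancel (v w : V) : v + (v + w) = w := by rw [← add_assoc, g.two, zero_add]

lemma cancel' (v w : V) : v + w + w = v := by rw [add_assoc, g.two, add_zero]

lemma b_zero_left (w : V) : g.b 0 w = 0 := by
  have h := g.b_add 0 0 w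
  rw [add_zero] at h
  exact left_eq_add.mp h

lemma b_add_right (u v w : V) : g.b u (v + w) = g.b u v + g.b u w := by
  rw [g.b_symm u (v + w), g.b_add, g.b_symm v u, g.b_symm w u]

lemma b_zero_right (w : V) : g.b w 0 = 0 := by rw [g.b_symm, b_zero_left g]

lemma b_self (v : V) : g.b v v = 0 := by
  have h := g.q_add v v
  rw [g.two, g.q_zero, CharTwo.add_self_eq_zero, zero_add] at h
  exact h.symm

lemma act_zero {h : P36} (hh : h ∈ R) : g.act h 0 = 0 := by
  have e := g.act_add h hh 0 0
  rw [add_zero] at e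
  exact left_eq_add.mp e

lemma act_inv {h : P36} (hh : h ∈ R) (v : V) : g.act h⁻¹ (g.act h v) = v := by
  rw [← g.act_mul _ (R.inv_mem hh) _ hh, inv_mul_cancel, g.act_one]

lemma act_injective {h : P36} (hh : h ∈ R) : Function.Injective (g.act h) := fun v w e => by
  rw [← act_inv g hh v, e, act_inv g hh w]

lemma act_comm {h k : P36} (hh : h ∈ R) (hk : k ∈ R) (e : h * k = k * h) (v : V) :
    g.act h (g.act k v) = g.act k (g.act h v) := by
  rw [← g.act_mul _ hh _ hk, e, g.act_mul _ hk _ hh]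

lemma b_act {h : P36} (hh : h ∈ R) (v w : V) : g.b (g.act h v) (g.act h w) = g.b v w := by
  have h1 := g.q_add (g.act h v) (g.act h w)
  rw [← g.act_add h hh, g.q_act h hh, g.q_act h hh, g.q_act h hh, g.q_add] at h1
  exact (add_left_cancel h1).symm

lemma b_inv_act {h : P36} (hh : h ∈ R) (h2 : h * h = 1) (v w : V) :
    g.b (g.act h v) w = g.b v (g.act h w) := by
  rw [← b_act g hh v (g.act h w), ← g.act_mul h hh h hh, h2, g.act_one]

lemma dR : dEl ∈ R := g.big _ _ (by decide) (map_one _)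

lemma act_d3 (v : V) : g.act dEl (g.act dEl (g.act dEl v)) = v := by
  rw [← g.act_mul _ (dR g) _ (dR g), ← g.act_mul _ (R.mul_mem (dR g) (dR g)) _ (dR g),
    dEl_cube, g.act_one]

lemma act_inv3 {h : P36} (hh : h ∈ R) (hi : Inv3 h) (v : V) :
    g.act h (g.act dEl v) = g.act dEl (g.act dEl (g.act h v)) := by
  rw [← g.act_mul _ hh _ (dR g), inv_d hi, g.act_mul _ (R.mul_mem (dR g) (dR g)) _ hh,
    g.act_mul _ (dR g) _ (dR g)]

/-- The map `v ↦ act h v + v`. -/
def dif (h : P36) (hh : h ∈ R) : V →+ V :=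
  AddMonoidHom.mk' (fun v => g.act h v + v) fun v w => by rw [g.act_add h hh]; abel

@[simp] lemma dif_apply (h : P36) (hh : h ∈ R) (v : V) : dif g h hh v = g.act h v + v := rfl

lemma mem_ker {h : P36} (hh : h ∈ R) {v : V} : v ∈ (dif g h hh).ker ↔ g.act h v = v := by
  rw [AddMonoidHom.mem_ker, dif_apply, add_eq_zero_iff g]

lemma mem_range {h : P36} (hh : h ∈ R) {w : V} :
    w ∈ (dif g h hh).range ↔ ∃ v, g.act h v + v = w := Iff.rfl

lemma card_com {h : P36} (hh : h ∈ R) : Nat.card (g.Com h) = Nat.card (dif g h hh).range := rfl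

lemma card_range_mul_card_ker {h : P36} (hh : h ∈ R) :
    Nat.card (dif g h hh).range * Nat.card (dif g h hh).ker = 256 := by
  rw [← AddSubgroup.index_ker, mul_comm, AddSubgroup.card_mul_index, g.card]

lemma range_le_ker {h : P36} (hh : h ∈ R) (h2 : h * h = 1) :
    (dif g h hh).range ≤ (dif g h hh).ker := by
  rintro w ⟨v, rfl⟩
  rw [mem_ker, dif_apply, g.act_add h hh, ← g.act_mul h hh h hh, h2, g.act_one, add_comm]

lemma b_dif {h : P36} (hh : h ∈ R) (h2 : h * h = 1) (v w : V) :
    g.b (g.act h v + v) w = g.b v (g.act h w + w) := by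
  rw [g.b_add, b_add_right g, b_inv_act g hh h2]

lemma b_fix_com {h : P36} (hh : h ∈ R) (h2 : h * h = 1) {v w : V}
    (hv : v ∈ (dif g h hh).ker) (hw : w ∈ (dif g h hh).range) : g.b v w = 0 := by
  obtain ⟨u, rfl⟩ := hw
  rw [mem_ker] at hv
  rw [dif_apply, ← b_dif g hh h2, hv, g.two, b_zero_left g]

/-- The orthogonal complement. -/
def perp (X : AddSubgroup V) : AddSubgroup V where
  carrier := {v | ∀ x ∈ X, g.b x v = 0}
  add_mem' := fun hv hw x hx => by rw [b_add_right g, hv x hx, hw x hx, add_zero]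
  zero_mem' := fun x _ => b_zero_right g x
  neg_mem' := fun {v} hv => by simpa [neg_eq g v] using hv

lemma mem_perp {X : AddSubgroup V} {v : V} : v ∈ perp g X ↔ ∀ x ∈ X, g.b x v = 0 := Iff.rfl

lemma card_mul_card_perp (X : AddSubgroup V) : Nat.card X * Nat.card (perp g X) = 256 := by
  classical
  haveI := finite_V g
  haveI := Fintype.ofFinite V
  let F : ZMod 2 → ℤ := fun x => if x = 0 then 1 else -1
  have hF : ∀ x : ZMod 2, F (1 + x) = -F x := by
    intro x
    rcases zmod_two_cases x with rfl | rfl <;> simp +decide [F]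
  have h1 : ∀ x : X, ∑ v : V, F (g.b (x : V) v) = if x = 0 then (256 : ℤ) else 0 := by
    intro x
    split_ifs with hx
    · subst hx
      simp [F, b_zero_left g, ← Nat.card_eq_fintype_card, g.card]
    · obtain ⟨w, hw⟩ : ∃ w, g.b (x : V) w = 1 := by
        by_contra hc
        exact hx (Subtype.ext (g.nondeg _ fun w =>
          (zmod_two_cases _).resolve_right fun e => hc ⟨w, e⟩))
      have e : ∑ v : V, F (g.b (x : V) v) = ∑ v : V, F (g.b (x : V) (w + v)) :=
        (Fintype.sum_equiv (Equiv.addLeft w) _ _ fun v => rfl).symm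
      simp only [b_add_right g, hw, hF, Finset.sum_neg_distrib] at e
      omega
  have h2 : ∀ v : V, ∑ x : X, F (g.b (x : V) v) =
      if v ∈ perp g X then (Nat.card X : ℤ) else 0 := by
    intro v
    split_ifs with hv
    · rw [Finset.sum_eq_card_nsmul (b := (1 : ℤ)) fun x _ => by simp [F, hv x x.2]]
      simp [Nat.card_eq_fintype_card]
    · obtain ⟨w, hwX, hw⟩ : ∃ w ∈ X, g.b w v = 1 := by
        by_contra hc
        exact hv fun w hw => (zmod_two_cases _).resolve_right fun e => hc ⟨w, hw, e⟩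
      have e : ∑ x : X, F (g.b (x : V) v) = ∑ x : X, F (g.b ((⟨w, hwX⟩ + x : X) : V) v) :=
        (Fintype.sum_equiv (Equiv.addLeft (⟨w, hwX⟩ : X)) _ _ fun x => rfl).symm
      simp only [AddSubgroup.coe_add, g.b_add, hw, hF, Finset.sum_neg_distrib] at e
      omega
  have hsum := Finset.sum_comm (s := (Finset.univ : Finset X)) (t := (Finset.univ : Finset V))
    (f := fun x v => F (g.b (x : V) v))
  rw [Finset.sum_congr rfl fun x _ => h1 x, Finset.sum_congr rfl fun v _ => h2 v,
    Finset.sum_ite_eq', if_pos (Finset.mem_univ _), ← Finset.sum_filter, Finset.sum_const,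
    nsmul_eq_mul] at hsum
  have hc : (Finset.univ.filter fun v => v ∈ perp g X).card = Nat.card (perp g X) := by
    rw [Nat.card_eq_fintype_card, Fintype.card_subtype]
  rw [hc] at hsum
  rw [mul_comm]
  exact_mod_cast hsum.symm

lemma perp_ker {h : P36} (hh : h ∈ R) (h2 : h * h = 1) :
    perp g (dif g h hh).ker = (dif g h hh).range := by
  haveI := finite_V g
  have hle : (dif g h hh).range ≤ perp g (dif g h hh).ker :=
    fun w hw v hv => b_fix_com g hh h2 hv hw
  refine (AddSubgroup.eq_of_le_of_card_ge hle ?_).symm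
  have e1 := card_range_mul_card_ker g hh
  have e2 := card_mul_card_perp g (dif g h hh).ker
  have := Nat.card_pos (α := (dif g h hh).ker)
  refine le_of_eq (Nat.eq_of_mul_eq_mul_left this ?_)
  rw [e2, ← e1, mul_comm]

lemma ker_perp_range {h : P36} (hh : h ∈ R) (h2 : h * h = 1) {v : V}
    (hv : ∀ w ∈ (dif g h hh).range, g.b v w = 0) : v ∈ (dif g h hh).ker := by
  rw [mem_ker, ← add_eq_zero_iff g]
  refine g.nondeg _ fun w => ?_
  rw [b_dif g hh h2]
  exact hv _ ⟨w, rfl⟩

lemma q_add_com {h : P36} (hh : h ∈ R) (h2 : h * h = 1) {v w : V}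
    (hv : v ∈ (dif g h hh).range) (hw : w ∈ (dif g h hh).range) :
    g.q (v + w) = g.q v + g.q w := by
  rw [g.q_add, b_fix_com g hh h2 (range_le_ker g hh h2 hv) hw, add_zero]

/-- Elements trivial on the fixed space of an involution commute. -/
lemma commute_of_fix {p h k : P36} (hp : p ∈ R) (p2 : p * p = 1) (hh : h ∈ R) (hk : k ∈ R)
    (h1 : ∀ v ∈ (dif g p hp).ker, g.act h v = v) (k1 : ∀ v ∈ (dif g p hp).ker, g.act k v = v) :
    h * k = k * h := by
  have mv : ∀ m ∈ R, (∀ v ∈ (dif g p hp).ker, g.act m v = v) →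
      ∀ v, g.act m v + v ∈ (dif g p hp).ker := by
    intro m hm m1 v
    refine range_le_ker g hp p2 ?_
    rw [← perp_ker g hp p2, mem_perp]
    intro x hx
    conv_lhs => rw [b_add_right g, ← m1 x hx]
    rw [b_act g hm, m1 x hx, CharTwo.add_self_eq_zero]
  refine mul_inv_eq_one.mp (g.faithful _ (R.mul_mem (R.mul_mem hh hk) (R.inv_mem (R.mul_mem hk hh))) ?_)
  intro v
  set w := g.act (k * h)⁻¹ v with hw
  have hv : g.act (k * h) w = v := by
    rw [hw, ← g.act_mul _ (R.mul_mem hk hh) _ (R.inv_mem (R.mul_mem hk hh)), mul_inv_cancel,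
      g.act_one]
  rw [g.act_mul _ (R.mul_mem hh hk) _ (R.inv_mem (R.mul_mem hk hh)), ← hw, ← hv,
    g.act_mul _ hh _ hk, g.act_mul _ hk _ hh]
  have e1 := h1 _ (mv k hk k1 w)
  have e2 := k1 _ (mv h hh h1 w)
  rw [g.act_add h hh] at e1
  rw [g.act_add k hk] at e2
  have a : g.act h (g.act k w) = g.act h w + (g.act k w + w) := by
    rw [← e1, add_left_comm, g.two, add_zero]
  have b : g.act k (g.act h w) = g.act k w + (g.act h w + w) := by
    rw [← e2, add_left_comm, g.two, add_zero]
  rw [a, b]; abel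

/-! ### The two types -/

variable {g}

lemma sum_d (hT : g.TypeT) (v : V) : v + g.act dEl v + g.act dEl (g.act dEl v) = 0 := by
  refine hT _ ?_
  rw [g.act_add _ (dR g), g.act_add _ (dR g), act_d3]
  abel

lemma d_split (hT : g.TypeT) {s : P36} (hs : s ∈ R) (hi : Inv3 s) {y : V}
    (hy : g.act s y = y) : g.act s (g.act dEl y) + g.act dEl y = y := by
  rw [act_inv3 g hs hi, hy, ← add_eq_zero_iff g, ← sum_d hT y]
  abel

lemma b_fix_fix (hT : g.TypeT) {s : P36} (hs : s ∈ R) (hi : Inv3 s) (s2 : s * s = 1)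
    {x y : V} (hx : g.act s x = x) (hy : g.act s y = y) : g.b x y = 0 := by
  rw [← d_split hT hs hi hy, b_add_right g, ← b_inv_act g hs s2, hx, CharTwo.add_self_eq_zero]

/-- A semilinear involution fixes a subspace of square root order. -/
lemma card_fix_sq (hT : g.TypeT) {s : P36} (hs : s ∈ R) (hi : Inv3 s) (s2 : s * s = 1)
    (X : AddSubgroup V) (hXd : ∀ v ∈ X, g.act dEl v ∈ X) (hXs : ∀ v ∈ X, g.act s v ∈ X) :
    Nat.card (X ⊓ (dif g s hs).ker : AddSubgroup V) *
      Nat.card (X ⊓ (dif g s hs).ker : AddSubgroup V) = Nat.card X := by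
  haveI := finite_V g
  let f : X →+ V := (dif g s hs).comp X.subtype
  have hr : f.range = X ⊓ (dif g s hs).ker := by
    ext w
    constructor
    · rintro ⟨v, rfl⟩
      exact ⟨X.add_mem (hXs _ v.2) v.2, range_le_ker g hs s2 ⟨v, rfl⟩⟩
    · rintro ⟨hwX, hwk⟩
      exact ⟨⟨_, hXd w hwX⟩, d_split hT hs hi ((mem_ker g hs).mp hwk)⟩
  have hk : Nat.card f.ker = Nat.card (X ⊓ (dif g s hs).ker : AddSubgroup V) :=
    Nat.card_congr
      { toFun := fun v => ⟨v.1.1, v.1.2, v.2⟩
        invFun := fun v => ⟨⟨v.1, v.2.1⟩, v.2.2⟩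
        left_inv := fun v => rfl
        right_inv := fun v => rfl }
  have e := AddSubgroup.card_mul_index f.ker
  rw [AddSubgroup.index_ker, hk, hr] at e
  exact e

lemma range_d {p : P36} (hp : p ∈ R) (p1 : p.1 = 1) {w : V} (hw : w ∈ (dif g p hp).range) :
    g.act dEl w ∈ (dif g p hp).range := by
  obtain ⟨v, rfl⟩ := hw
  exact ⟨g.act dEl v, by simp only [dif_apply]; rw [g.act_add _ (dR g),
    act_comm g hp (dR g) (comm_d p1)]⟩

lemma ker_comm {p h : P36} (hp : p ∈ R) (hh : h ∈ R) (e : h * p = p * h) {v : V}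
    (hv : v ∈ (dif g p hp).ker) : g.act h v ∈ (dif g p hp).ker := by
  rw [mem_ker] at hv ⊢
  rw [← act_comm g hh hp e, hv]

lemma q_range_T (hT : g.TypeT) {p : P36} (hp : p ∈ R) (p2 : p * p = 1) (p1 : p.1 = 1) {w : V}
    (hw : w ∈ (dif g p hp).range) : g.q w = 0 := by
  have hdw := range_d hp p1 hw
  have h : g.q (w + g.act dEl w + g.act dEl (g.act dEl w)) = 0 := by rw [sum_d hT, g.q_zero]
  rw [q_add_com g hp p2 (AddSubgroup.add_mem _ hw hdw) (range_d hp p1 hdw),
    q_add_com g hp p2 hw hdw, g.q_act _ (dR g), g.q_act _ (dR g), g.q_act _ (dR g),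
    CharTwo.add_self_eq_zero, zero_add] at h
  exact h

/-- The projection on the fixed space of `dEl`. -/
def tr (g : Geo V R) : V →+ V :=
  AddMonoidHom.mk' (fun v => v + g.act dEl v + g.act dEl (g.act dEl v)) fun v w => by
    rw [g.act_add _ (dR g), g.act_add _ (dR g)]; abel

lemma tr_apply (v : V) : tr g v = v + g.act dEl v + g.act dEl (g.act dEl v) := rfl

lemma tr_fixed (v : V) : g.act dEl (tr g v) = tr g v := by
  rw [tr_apply, g.act_add _ (dR g), g.act_add _ (dR g), act_d3]
  abel

lemma tr_of_fixed {v : V} (hv : g.act dEl v = v) : tr g v = v := by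
  rw [tr_apply, hv, hv, g.two, zero_add]

lemma add_tr_mem (v : V) : v + tr g v ∈ (tr g).ker := by
  rw [AddMonoidHom.mem_ker, map_add, tr_of_fixed (tr_fixed v), g.two]

lemma eq_zero_of_ker_fixed {v : V} (hv : v ∈ (tr g).ker) (h : g.act dEl v = v) : v = 0 := by
  rw [← tr_of_fixed h]; exact hv

lemma ker_tr_d {v : V} (hv : v ∈ (tr g).ker) : g.act dEl v ∈ (tr g).ker := by
  have h := congrArg (g.act dEl) (AddMonoidHom.mem_ker.mp hv)
  rw [act_zero g (dR g), tr_apply, g.act_add _ (dR g), g.act_add _ (dR g)] at h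
  rw [AddMonoidHom.mem_ker, tr_apply]
  exact h

lemma ker_tr_d2 {v : V} (hv : v ∈ (tr g).ker) :
    g.act dEl (g.act dEl v) = v + g.act dEl v := by
  rw [AddMonoidHom.mem_ker, tr_apply] at hv
  exact ((add_eq_zero_iff g).mp hv).symm

lemma b_ker_fixed {v y : V} (hv : v ∈ (tr g).ker) (hy : g.act dEl y = y) : g.b v y = 0 := by
  have e1 : g.b (g.act dEl v) y = g.b v y := by
    conv_lhs => rw [← hy]
    rw [b_act g (dR g)]
  have e2 : g.b (g.act dEl (g.act dEl v)) y = g.b v y := by
    conv_lhs => rw [← hy]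
    rw [b_act g (dR g), e1]
  have h : g.b (tr g v) y = 0 := by rw [AddMonoidHom.mem_ker.mp hv, b_zero_left g]
  rw [tr_apply, g.b_add, g.b_add, e1, e2, CharTwo.add_self_eq_zero, zero_add] at h
  exact h

lemma card_ker_tr (hII : g.TypeII) : Nat.card (tr g).ker = 4 := by
  haveI := finite_V g
  have hr : ((tr g).range : Set V) = g.Fix dEl := by
    ext w
    constructor
    · rintro ⟨v, rfl⟩; exact tr_fixed v
    · exact fun hw => ⟨w, tr_of_fixed hw⟩
  have h64 : Nat.card (tr g).range = 64 := by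
    have : Nat.card ((tr g).range : Set V) = 64 := by rw [hr]; exact hII
    exact this
  have h := AddSubgroup.card_mul_index (tr g).ker
  rw [AddSubgroup.index_ker, h64, g.card] at h
  omega

/-- In the fixed-point-free part of type `2 + 6` every non-zero vector is non-singular. -/
lemma ker_tr_facts (hII : g.TypeII) {v : V} (hv : v ∈ (tr g).ker) (h0 : v ≠ 0) :
    g.q v = 1 ∧ g.b v (g.act dEl v) = 1 ∧
      ∀ w ∈ (tr g).ker, w = 0 ∨ w = v ∨ w = g.act dEl v ∨ w = v + g.act dEl v := by
  haveI := finite_V g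
  have hdv := ker_tr_d hv
  have hne : g.act dEl v ≠ v := fun e => h0 (eq_zero_of_ker_fixed hv e)
  have hd0 : g.act dEl v ≠ 0 := fun e => h0 (act_injective g (dR g) (e.trans (act_zero g (dR g)).symm))
  have hall : ∀ w ∈ (tr g).ker, w = 0 ∨ w = v ∨ w = g.act dEl v ∨ w = v + g.act dEl v := by
    intro w hw
    by_contra hc
    simp only [not_or] at hc
    classical
    have hsub : (({0, v, g.act dEl v, v + g.act dEl v, w} : Finset V) : Set V) ⊆
        ((tr g).ker : Set V) := by
      intro x hx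
      simp only [Finset.coe_insert, Finset.coe_singleton, Set.mem_insert_iff,
        Set.mem_singleton_iff] at hx
      rcases hx with rfl | rfl | rfl | rfl | rfl
      exacts [zero_mem _, hv, hdv, add_mem hv hdv, hw]
    have hcard := Set.ncard_le_ncard hsub (Set.toFinite _)
    rw [Set.ncard_coe_finset, ← Nat.card_coe_set_eq, SetLike.coe_sort_coe, card_ker_tr hII]
      at hcard
    have h5 : ({0, v, g.act dEl v, v + g.act dEl v, w} : Finset V).card = 5 := by
      have a : v + g.act dEl v ≠ 0 := fun e => hne ((add_eq_zero_iff g).mp e).symm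
      simp [h0.symm, hd0.symm, hne.symm, a.symm, Ne.symm hc.1, Ne.symm hc.2.1, Ne.symm hc.2.2.1,
        Ne.symm hc.2.2.2, h0, hd0]
    omega
  have hb : g.b v (g.act dEl v) = 1 := by
    refine (zmod_two_cases _).resolve_left fun hb => h0 (g.nondeg v fun x => ?_)
    have hx : x = (x + tr g x) + tr g x := (cancel' g x _).symm
    rw [hx, b_add_right g, b_ker_fixed hv (tr_fixed x), add_zero]
    rcases hall _ (add_tr_mem x) with e | e | e | e <;> rw [e]
    · exact b_zero_right g v
    · exact b_self g v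
    · exact hb
    · rw [b_add_right g, b_self g, hb, add_zero]
  refine ⟨?_, hb, hall⟩
  have h := g.q_add v (g.act dEl v)
  rw [← ker_tr_d2 hv, g.q_act _ (dR g), g.q_act _ (dR g), CharTwo.add_self_eq_zero, hb,
    zero_add] at h
  exact h

lemma act_ker_tr {h : P36} (hh : h ∈ R) (h1 : h.1 = 1) (h4 : h * h * (h * h) = 1) {v : V}
    (hII : g.TypeII) (hv : v ∈ (tr g).ker) : g.act h v = v := by
  rcases eq_or_ne v 0 with rfl | h0
  · exact act_zero g hh
  have hcomm : ∀ w, g.act h (g.act dEl w) = g.act dEl (g.act h w) :=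
    act_comm g hh (dR g) (comm_d h1)
  have hker : g.act h v ∈ (tr g).ker := by
    rw [AddMonoidHom.mem_ker, tr_apply, ← hcomm, ← hcomm, ← g.act_add h hh, ← g.act_add h hh,
      ← tr_apply, AddMonoidHom.mem_ker.mp hv, act_zero g hh]
  have h4' : g.act h (g.act h (g.act h (g.act h v))) = v := by
    rw [← g.act_mul _ hh _ hh, ← g.act_mul _ hh _ hh,
      ← g.act_mul _ (R.mul_mem hh hh) _ (R.mul_mem hh hh), h4, g.act_one]
  have hne : g.act dEl v ≠ v := fun e => h0 (eq_zero_of_ker_fixed hv e)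
  rcases (ker_tr_facts hII hv h0).2.2 _ hker with e | e | e | e
  · exact absurd (act_injective g hh (e.trans (act_zero g hh).symm)) h0
  · exact e
  · simp only [e, hcomm, act_d3] at h4'
    exact absurd h4' hne
  · rw [← ker_tr_d2 hv] at e
    simp only [e, hcomm, act_d3] at h4'
    exact absurd ((act_d3 g v).symm.trans (congrArg (g.act dEl) h4')).symm hne

/-! ### The data of a conjugate -/

/-- Every fixed vector lies in `C0`. -/
def Full (D : WData g) : Prop := ∀ v, g.act D.px v = v → v ∈ D.C0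

variable (D : WData g)

lemma pxR : D.px ∈ R := D.K_le D.px_K

lemma K_four {k : P36} (hk : k ∈ D.K) : k * k * (k * k) = 1 := by
  rcases D.K_sq k hk with e | e <;> rw [e]
  · simp
  · exact D.px_sq

lemma C0_le : D.C0 ≤ (dif g D.px (pxR D)).ker := fun v hv =>
  (mem_ker g _).mpr (D.C0_fix v hv)

lemma U_le_range_of_full (hf : Full D) : D.U ≤ (dif g D.px (pxR D)).range := by
  intro u hu
  rw [← perp_ker g (pxR D) D.px_sq, mem_perp]
  intro x hx
  rw [g.b_symm]
  exact D.U_perp u hu x (hf x ((mem_ker g _).mp hx))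

lemma exists_out {n : ℕ} (X : AddSubgroup V) (S : Finset V) (hS : S.card ≤ n)
    (hX : n < Nat.card X) : ∃ x ∈ X, x ∉ S := by
  haveI := finite_V g
  by_contra hc
  simp only [not_exists, not_and, not_not] at hc
  have h := Set.ncard_le_ncard (s := (X : Set V)) (t := (S : Set V)) hc (Set.toFinite _)
  rw [Set.ncard_coe_finset, ← Nat.card_coe_set_eq, SetLike.coe_sort_coe] at h
  omega

lemma card_U_not_full (hf : ¬ Full D) : Nat.card D.U ≤ 2 := by
  classical
  by_contra hc
  obtain ⟨c, hc1, hc2⟩ : ∃ c, g.act D.px c = c ∧ c ∉ D.C0 := by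
    simpa [Full] using hf
  obtain ⟨u, hu, hu'⟩ := exists_out (g := g) D.U ({0} : Finset V) (by simp) (n := 1) (by omega)
  obtain ⟨w, hw, hw'⟩ := exists_out (g := g) D.U ({0, u} : Finset V) Finset.card_le_two (n := 2)
    (by omega)
  simp only [Finset.mem_insert, Finset.mem_singleton, not_or] at hu' hw'
  have key : ∀ x ∈ D.U, g.b x c = 0 → x = 0 := by
    intro x hx hxc
    refine D.U_com ⟨c, hc1, hc2⟩ x hx ?_
    show x ∈ (dif g D.px (pxR D)).range
    rw [← perp_ker g (pxR D) D.px_sq, mem_perp]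
    intro y hy
    rw [mem_ker] at hy
    rw [g.b_symm]
    by_cases h : y ∈ D.C0
    · exact D.U_perp x hx y h
    · rw [← cancel g c y, b_add_right g, hxc, zero_add]
      exact D.U_perp x hx _ (D.C0_index c y hc1 hy hc2 h)
  have h := key (u + w) (add_mem hu hw) ?_
  · exact hw'.2 ((add_eq_zero_iff g).mp h).symm
  · rw [g.b_add, (zmod_two_cases _).resolve_left fun e => hu' (key u hu e),
      (zmod_two_cases _).resolve_left fun e => hw'.1 (key w hw e)]
    decide

lemma card_U_le : Nat.card D.U ≤ 4 := by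
  classical
  by_cases hf : Full D
  · by_contra hc
    obtain ⟨u, hu, hu'⟩ := exists_out (g := g) D.U ({0} : Finset V) (by simp) (n := 1) (by omega)
    obtain ⟨w, hw, hw'⟩ := exists_out (g := g) D.U ({0, u} : Finset V) Finset.card_le_two (n := 2)
      (by omega)
    obtain ⟨x, hx, hx'⟩ := exists_out (g := g) D.U ({0, u, w, u + w} : Finset V) Finset.card_le_four
      (n := 4) (by omega)
    simp only [Finset.mem_insert, Finset.mem_singleton, not_or] at hu' hw' hx'
    obtain ⟨v, hv⟩ := U_le_range_of_full D hf hu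
    have hb : ∀ y ∈ D.U, y ≠ 0 → y ≠ u → g.b v y = 1 := fun y hy y0 yu =>
      D.U_beta u hu y hy hu' y0 (Ne.symm yu) (U_le_range_of_full D hf hy) v hv
    have h := hb (w + x) (add_mem hw hx) (fun e => hx'.2.2.1 ((add_eq_zero_iff g).mp e).symm)
      (fun e => hx'.2.2.2 (by rw [← e, add_comm w x, cancel' g]))
    rw [b_add_right g, hb w hw hw'.1 hw'.2, hb x hx hx'.1 hx'.2.1] at h
    exact absurd h (by decide)
  · exact (card_U_not_full D hf).trans (by norm_num)

lemma card_ker_le_C0 : Nat.card (dif g D.px (pxR D)).ker ≤ 2 * Nat.card D.C0 := by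
  classical
  haveI := finite_V g
  by_cases hf : Full D
  · have : Nat.card (dif g D.px (pxR D)).ker ≤ Nat.card D.C0 :=
      AddSubgroup.card_le_of_le fun v hv => hf v ((mem_ker g _).mp hv)
    omega
  obtain ⟨c, hc1, hc2⟩ : ∃ c, g.act D.px c = c ∧ c ∉ D.C0 := by simpa [Full] using hf
  let f : (dif g D.px (pxR D)).ker → D.C0 × Bool := fun v =>
    if h : (v : V) ∈ D.C0 then (⟨v, h⟩, false)
    else (⟨c + v, D.C0_index c v hc1 ((mem_ker g _).mp v.2) hc2 h⟩, true)
  have hf' : Function.Injective f := by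
    intro v w e
    simp only [f] at e
    split_ifs at e <;> simp only [Prod.mk.injEq, Subtype.mk.injEq] at e
    all_goals first
      | exact Subtype.ext e.1
      | exact Subtype.ext (add_left_cancel e.1)
      | exact absurd e.2 (by decide)
  have := Nat.card_le_card_of_injective f hf'
  rw [Nat.card_prod, Nat.card_eq_fintype_card (α := Bool), Fintype.card_bool] at this
  omega

lemma full_of_eq (he : (dif g D.px (pxR D)).range = (dif g D.px (pxR D)).ker)
    (hq : ∀ w ∈ (dif g D.px (pxR D)).range, g.q w = 0) : Full D := fun v hv => by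
  have hv' : v ∈ (dif g D.px (pxR D)).range := by rw [he]; exact (mem_ker g _).mpr hv
  exact (D.C0_com v hv').mpr (hq v hv')

lemma sq_le {h : P36} (hh : h ∈ R) (h2 : h * h = 1) :
    Nat.card (dif g h hh).range * Nat.card (dif g h hh).range ≤ 256 := by
  haveI := finite_V g
  rw [← card_range_mul_card_ker g hh]
  exact Nat.mul_le_mul_left _ (AddSubgroup.card_le_of_le (range_le_ker g hh h2))

lemma range_eq_ker {h : P36} (hh : h ∈ R) (h2 : h * h = 1)
    (hc : Nat.card (dif g h hh).ker ≤ 16) : (dif g h hh).range = (dif g h hh).ker := by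
  haveI := finite_V g
  refine AddSubgroup.eq_of_le_of_card_ge (range_le_ker g hh h2) (hc.trans ?_)
  have := card_range_mul_card_ker g hh
  nlinarith [sq_le (g := g) hh h2]

/-- Tensor type: an involution of `K` inverting `dEl` is impossible if `px` centralises `dEl`. -/
lemma no_inverting_T (hT : g.TypeT) (p1 : D.px.1 = 1) {k : P36} (hk : k ∈ D.K) (k2 : k * k = 1)
    (hi : Inv3 k) : False := by
  haveI := finite_V g
  have hp := pxR D
  have hkR := D.K_le hk
  set C := (dif g D.px hp).ker with hC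
  set W := (dif g D.px hp).range with hW
  have hCd : ∀ v ∈ C, g.act dEl v ∈ C := fun v hv =>
    ker_comm hp (dR g) (comm_d p1).symm hv
  have hCk : ∀ v ∈ C, g.act k v ∈ C := fun v hv => ker_comm hp hkR (D.K_px k hk) hv
  set L := C ⊓ (dif g k hkR).ker with hL
  have hsq : Nat.card L * Nat.card L = Nat.card C := card_fix_sq hT hkR hi k2 C hCd hCk
  have hLU : ∀ y ∈ L, g.act dEl y ∈ D.C0 → y ∈ D.U := fun y hy hdy => by
    have := D.K_act k hk _ hdy
    rwa [d_split hT hkR hi ((mem_ker g _).mp hy.2)] at this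
  have hU4 := card_U_le D
  have hfull : Full D := by
    by_contra hf
    obtain ⟨c, hc1, hc2⟩ : ∃ c, g.act D.px c = c ∧ c ∉ D.C0 := by simpa [Full] using hf
    have hU2 := card_U_not_full D hf
    have hL4 : Nat.card L ≤ 4 := by
      by_contra hc
      classical
      have hsub : ∀ y ∈ L, y ∈ D.U ∨ g.act dEl y + c ∈ D.C0 := fun y hy => by
        by_cases h : g.act dEl y ∈ D.C0
        · exact Or.inl (hLU y hy h)
        · exact Or.inr (D.C0_index _ c ((mem_ker g _).mp (hCd y hy.1)) hc1 h hc2)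
      have hle : Nat.card L ≤ 2 * Nat.card D.U := by
        by_cases hall : ∀ y ∈ L, y ∈ D.U
        · have : Nat.card L ≤ Nat.card D.U := AddSubgroup.card_le_of_le hall
          omega
        · obtain ⟨y0, hy0, hy0'⟩ : ∃ y ∈ L, y ∉ D.U := by simpa using hall
          let f : L → D.U × Bool := fun y =>
            if h : (y : V) ∈ D.U then (⟨y, h⟩, false)
            else (⟨y0 + y, hLU _ (add_mem hy0 y.2) (by
              rw [g.act_add _ (dR g),
                show g.act dEl y0 + g.act dEl (y : V) =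
                  (g.act dEl y0 + c) + (g.act dEl (y : V) + c) by
                  rw [add_add_add_comm, g.two, add_zero]]
              exact add_mem ((hsub y0 hy0).resolve_left hy0') ((hsub y y.2).resolve_left h))⟩, true)
          have hf' : Function.Injective f := by
            intro v w e
            simp only [f] at e
            split_ifs at e <;> simp only [Prod.mk.injEq, Subtype.mk.injEq] at e
            all_goals first
              | exact Subtype.ext e.1
              | exact Subtype.ext (add_left_cancel e.1)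
              | exact absurd e.2 (by decide)
          have := Nat.card_le_card_of_injective f hf'
          rw [Nat.card_prod, Nat.card_eq_fintype_card (α := Bool), Fintype.card_bool] at this
          omega
      omega
    exact hf (full_of_eq D (range_eq_ker hp D.px_sq (hsq ▸ Nat.mul_le_mul hL4 hL4))
      fun w hw => q_range_T hT hp D.px_sq p1 hw)
  have hLle : L ≤ D.U := fun y hy => hLU y hy (hfull _ ((mem_ker g _).mp (hCd y hy.1)))
  have hL4 : Nat.card L ≤ 4 := (AddSubgroup.card_le_of_le hLle).trans hU4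
  have hWC : W = C := range_eq_ker hp D.px_sq (hsq ▸ Nat.mul_le_mul hL4 hL4)
  have hL : 2 < Nat.card L := by
    have := card_range_mul_card_ker g hp
    rw [← hW, hWC, ← hC, ← hsq] at this
    by_contra hcL
    have h4 := Nat.mul_le_mul (not_lt.mp hcL) (not_lt.mp hcL)
    nlinarith [Nat.mul_le_mul h4 h4]
  classical
  obtain ⟨u, hu, hu'⟩ := exists_out (g := g) L ({0} : Finset V) (by simp) (n := 1) (by omega)
  obtain ⟨w, hw, hw'⟩ := exists_out (g := g) L ({0, u} : Finset V) Finset.card_le_two (n := 2)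
    (by omega)
  simp only [Finset.mem_insert, Finset.mem_singleton, not_or] at hu' hw'
  obtain ⟨v0, hv0⟩ : u ∈ W := by rw [hWC]; exact hu.1
  set v := g.act k (g.act dEl v0) + g.act dEl v0 with hv
  have hfv : g.act D.px v + v = u := by
    rw [← dif_apply g D.px hp v, hv, map_add, dif_apply, dif_apply,
      act_comm g hp hkR (D.K_px k hk).symm, act_comm g hp (dR g) (comm_d p1)]
    have hv0' : g.act D.px v0 + v0 = u := hv0
    rw [← g.act_add k hkR, ← g.act_add _ (dR g), hv0', d_split hT hkR hi ((mem_ker g _).mp hu.2)]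
  have h1 := D.U_beta u (hLle hu) w (hLle hw) hu' hw'.1 (Ne.symm hw'.2)
    (show w ∈ W by rw [hWC]; exact hw.1) v hfv
  have h0 : g.b v w = 0 := b_fix_fix hT hkR hi k2
    (by rw [hv, g.act_add k hkR, ← g.act_mul k hkR k hkR, k2, g.act_one, add_comm])
    ((mem_ker g _).mp hw.2)
  rw [h0] at h1
  exact zero_ne_one h1

/-- `2 + 6` type: `px` centralising `dEl` with a Sylow subgroup `K` is impossible. -/
lemma no_sylow_II (F : P36Facts) (hII : g.TypeII) (p1 : D.px.1 = 1) (hK : Nat.card D.K = 32) :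
    False := by
  haveI := finite_V g
  obtain ⟨⟨s, hs, hsK⟩, a, b, haK, hbK, hab⟩ := F.sylow_struct D.K hK
  have hp := pxR D
  have hVC : ∀ v ∈ (tr g).ker, v ∈ (dif g D.px hp).ker := fun v hv =>
    (mem_ker g _).mpr (act_ker_tr hp p1 (by simp [D.px_sq]) hII hv)
  obtain ⟨v1, hv1, hv1'⟩ := exists_out (g := g) (tr g).ker ({0} : Finset V) (by simp) (n := 1)
    (by rw [card_ker_tr hII]; norm_num)
  rw [Finset.mem_singleton] at hv1'
  by_cases hsub : ∀ v ∈ (tr g).ker, v ∈ D.C0
  · have hsR := D.K_le hsK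
    have hfix : ∀ v ∈ (tr g).ker, g.act (s, 1) v = v := by
      intro v hv
      have hmem : g.act (s, 1) v ∈ (tr g).ker := by
        rw [AddMonoidHom.mem_ker, tr_apply]
        have e : g.act (s, 1) (v + g.act dEl (g.act dEl v) + g.act dEl v) =
            g.act (s, 1) v + g.act dEl (g.act (s, 1) v) +
              g.act dEl (g.act dEl (g.act (s, 1) v)) := by
          rw [g.act_add _ hsR, g.act_add _ hsR, act_inv3 g hsR hs, act_inv3 g hsR hs, act_d3]
        rw [← e, add_right_comm, ← tr_apply, AddMonoidHom.mem_ker.mp hv, act_zero g hsR]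
      by_contra hne
      have hq := (ker_tr_facts hII (add_mem hmem hv)
        (fun e => hne ((add_eq_zero_iff g).mp e))).1
      rw [D.U_q _ (D.K_act _ hsK v (hsub v hv))] at hq
      exact zero_ne_one hq
    have h := hfix _ (ker_tr_d hv1)
    rw [act_inv3 g hsR hs, hfix v1 hv1] at h
    exact hv1' (eq_zero_of_ker_fixed hv1 (act_injective g (dR g) h))
  · obtain ⟨v, hv, hv'⟩ : ∃ v ∈ (tr g).ker, v ∉ D.C0 := by simpa using hsub
    have hnf : ∃ c, g.act D.px c = c ∧ c ∉ D.C0 := ⟨v, (mem_ker g _).mp (hVC v hv), hv'⟩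
    have hdec : ∀ c ∈ (dif g D.px hp).ker, ∃ w ∈ (tr g).ker, w + c ∈ D.C0 := by
      intro c hc
      by_cases h : c ∈ D.C0
      · exact ⟨0, zero_mem _, by rwa [zero_add]⟩
      · exact ⟨v, hv, D.C0_index v c ((mem_ker g _).mp (hVC v hv)) ((mem_ker g _).mp hc) hv' h⟩
    have hU : ∀ u ∈ D.U, g.act dEl u = u → u = 0 := by
      intro u hu hdu
      refine D.U_com hnf u hu ?_
      show u ∈ (dif g D.px hp).range
      rw [← perp_ker g hp D.px_sq, mem_perp]
      intro c hc
      obtain ⟨w, hw, hwc⟩ := hdec c hc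
      rw [← cancel g w c, g.b_add, b_ker_fixed hw hdu, g.b_symm, D.U_perp u hu _ hwc, add_zero]
    have hfix : ∀ k ∈ D.K, k.1 = 1 → ∀ c ∈ (dif g D.px hp).ker, g.act k c = c := by
      intro k hk k1 c hc
      have hkR := D.K_le hk
      obtain ⟨w, hw, hwc⟩ := hdec c hc
      have hkw : ∀ x ∈ (tr g).ker, g.act k x = x := fun x hx =>
        act_ker_tr hkR k1 (K_four D hk) hII hx
      have hmem := D.K_act k hk _ hwc
      rw [g.act_add k hkR, hkw w hw, add_add_add_comm, g.two, zero_add] at hmem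
      refine (add_eq_zero_iff g).mp (hU _ hmem ?_)
      have e : g.act k c + c = g.act k (tr g c) + tr g c := by
        conv_lhs => rw [← cancel' g c (tr g c)]
        rw [g.act_add k hkR, hkw _ (add_tr_mem c), add_add_add_comm, g.two, zero_add]
      rw [e, g.act_add _ (dR g), ← act_comm g hkR (dR g) (comm_d k1), tr_fixed]
    have := commute_of_fix g hp D.px_sq (D.K_le haK) (D.K_le hbK) (hfix _ haK rfl) (hfix _ hbK rfl)
    exact hab (congrArg Prod.snd this)

lemma no_sylow (F : P36Facts) (hty : g.TypeT ∨ g.TypeII) (hK : Nat.card D.K = 32) : False := by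
  have p1 := (F.sylow_comm D.K hK D.px D.px_sq D.K_comm).1
  rcases hty with hT | hII
  · obtain ⟨⟨s, hs, hsK⟩, -⟩ := F.sylow_struct D.K hK
    exact no_inverting_T D hT p1 hsK (first_sq hs) hs
  · exact no_sylow_II D F hII p1 hK

lemma card_K_le (F : P36Facts) : Nat.card D.K ≤ 32 := F.card_two D.K D.K_two

/-- All commutator spaces have order at least 8. -/
lemma eight_le (F : P36Facts) (hty : g.TypeT ∨ g.TypeII) {D D' : WData g} (hP : WPair D D') :
    8 ≤ Nat.card (g.Com D.px) := by
  haveI := finite_V g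
  rw [card_com g (pxR D)]
  by_contra hc
  have h1 := card_range_mul_card_ker g (pxR D)
  have hker : 64 ≤ Nat.card (dif g D.px (pxR D)).ker := by
    by_contra h
    have hd : Nat.card (dif g D.px (pxR D)).range ∣ 2 ^ 8 :=
      ⟨Nat.card (dif g D.px (pxR D)).ker, by rw [h1]; norm_num⟩
    obtain ⟨i, hi, e⟩ := (Nat.dvd_prime_pow Nat.prime_two).mp hd
    have h2 : 2 ^ i * Nat.card (dif g D.px (pxR D)).ker = 256 := by rw [← e]; exact h1
    interval_cases i <;> simp only [pow_zero, pow_one, Nat.reducePow] at e h2 <;> omega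
  refine no_sylow D' F hty (le_antisymm (card_K_le D' F) ?_)
  have hc0 := card_ker_le_C0 D
  have hK' := hP.cardK'
  by_cases hf : Full D
  · have : Nat.card (dif g D.px (pxR D)).ker ≤ Nat.card D.C0 :=
      AddSubgroup.card_le_of_le fun v hv => hf v ((mem_ker g _).mp hv)
    nlinarith [card_U_le D]
  · nlinarith [card_U_not_full D hf]

/-- An alternating form on `[V, p]` is non-degenerate, so that space has not order 8. -/
lemma card_ne_eight {p : P36} (hp : p ∈ R) (p2 : p * p = 1)
    (hq : ∀ w ∈ (dif g p hp).range, g.q w = 0) : Nat.card (dif g p hp).range ≠ 8 := by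
  classical
  intro h8
  haveI := finite_V g
  set f := dif g p hp with hf
  have sym : ∀ v w, g.b v (f w) = g.b w (f v) := fun v w => by
    rw [g.b_symm w, dif_apply, dif_apply, b_dif g hp p2]
  have alt : ∀ v, g.b v (f v) = 0 := fun v => by
    have h := hq _ ⟨v, rfl⟩
    rw [dif_apply, g.q_add, g.q_act p hp, CharTwo.add_self_eq_zero, zero_add] at h
    rw [dif_apply, b_add_right g, b_self g, add_zero, g.b_symm, h]
  have nd : ∀ w ∈ f.range, w ≠ 0 → ∃ v, g.b v w = 1 := fun w _ h0 => by
    by_contra hc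
    exact h0 (g.nondeg w fun v => by
      rw [g.b_symm]; exact (zmod_two_cases _).resolve_right fun e => hc ⟨v, e⟩)
  obtain ⟨w2, hw2, hw2'⟩ := exists_out (g := g) f.range ({0} : Finset V) (by simp) (n := 1)
    (by omega)
  rw [Finset.mem_singleton] at hw2'
  obtain ⟨v1, h12⟩ := nd w2 hw2 hw2'
  obtain ⟨v2, rfl⟩ := hw2
  obtain ⟨v3, h13, h23, h30⟩ : ∃ v3, g.b v1 (f v3) = 0 ∧ g.b v2 (f v3) = 0 ∧ f v3 ≠ 0 := by
    by_contra hc
    have : Nat.card f.range ≤ Nat.card (ZMod 2 × ZMod 2) :=
      Nat.card_le_card_of_injective (fun w : f.range => (g.b v1 w, g.b v2 w)) (by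
        rintro ⟨x, a, rfl⟩ ⟨y, a', rfl⟩ e
        simp only [Prod.mk.injEq] at e
        refine Subtype.ext ((add_eq_zero_iff g).mp (by_contra fun hne => hc ⟨a + a', ?_, ?_, ?_⟩))
        · rw [map_add, b_add_right g, e.1, CharTwo.add_self_eq_zero]
        · rw [map_add, b_add_right g, e.2, CharTwo.add_self_eq_zero]
        · rwa [map_add])
    rw [h8, Nat.card_prod, Nat.card_zmod] at this
    omega
  obtain ⟨v4, h43⟩ := nd _ ⟨v3, rfl⟩ h30
  let cs : ZMod 2 → V → V := fun x v => if x = 1 then v else 0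
  have hcs : ∀ (x : ZMod 2) (v w : V), g.b w (f (cs x v)) = x * g.b w (f v) := fun x v w => by
    rcases zmod_two_cases x with rfl | rfl <;> simp [cs, b_zero_right g]
  have hsurj : Function.Surjective
      (fun w : f.range => (g.b v1 w, g.b v2 w, g.b v3 w, g.b v4 w)) := by
    rintro ⟨a, b, c, e⟩
    obtain ⟨x, y, z, t, ha, hb, hc', he⟩ := bits (g.b v1 (f v4)) (g.b v2 (f v4)) a b c e
    refine ⟨⟨f (cs x v1 + cs y v2 + cs z v3 + cs t v4), _, rfl⟩, ?_⟩
    simp only [map_add, b_add_right g, hcs, Prod.mk.injEq]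
    simp only [alt, h12, h13, h23, h43, sym v2 v1, sym v3 v1, sym v3 v2, sym v3 v4,
      sym v4 v1, sym v4 v2, mul_zero, mul_one, add_zero, zero_add]
    exact ⟨ha, hb, hc', he⟩
  have := Nat.card_le_card_of_surjective _ hsurj
  rw [h8, Nat.card_prod, Nat.card_prod, Nat.card_prod, Nat.card_zmod] at this
  omega

/-- `2 + 6` type: `px` does not centralise `dEl`. -/
lemma no_cent_II (F : P36Facts) (hII : g.TypeII) {D D' : WData g} (hP : WPair D D')
    (p1 : D.px.1 = 1) (h8 : 8 ≤ Nat.card (g.Com D.px)) : False := by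
  classical
  haveI := finite_V g
  have hp := pxR D
  rw [card_com g hp] at h8
  set C := (dif g D.px hp).ker with hC
  set W := (dif g D.px hp).range with hW
  have hVC : ∀ v ∈ (tr g).ker, v ∈ C := fun v hv =>
    (mem_ker g _).mpr (act_ker_tr hp p1 (by simp [D.px_sq]) hII hv)
  have hWd : ∀ w ∈ W, g.act dEl w = w := by
    rintro w ⟨v, rfl⟩
    have e : g.act D.px v + v = g.act D.px (tr g v) + tr g v := by
      conv_lhs => rw [← cancel' g v (tr g v)]
      rw [g.act_add _ hp, (mem_ker g _).mp (hVC _ (add_tr_mem v)), add_add_add_comm, g.two,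
        zero_add]
    rw [dif_apply, e, g.act_add _ (dR g), ← act_comm g hp (dR g) (comm_d p1), tr_fixed]
  let f : (tr g).ker × W → C := fun x =>
    ⟨(x.1 : V) + x.2, add_mem (hVC _ x.1.2) (range_le_ker g hp D.px_sq x.2.2)⟩
  have hfi : Function.Injective f := by
    rintro ⟨a, x⟩ ⟨a', y⟩ e
    have e' : (a : V) + x = a' + y := congrArg Subtype.val e
    have h := congrArg (tr g) e'
    rw [map_add, map_add, AddMonoidHom.mem_ker.mp a.2, AddMonoidHom.mem_ker.mp a'.2, zero_add,
      zero_add, tr_of_fixed (hWd _ x.2), tr_of_fixed (hWd _ y.2)] at h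
    rw [h] at e'
    exact Prod.ext (Subtype.ext (add_right_cancel e')) (Subtype.ext h)
  have hle := Nat.card_le_card_of_injective f hfi
  rw [Nat.card_prod, card_ker_tr hII] at hle
  have hprod : Nat.card W * Nat.card C = 256 := card_range_mul_card_ker g hp
  have hW8 : Nat.card W = 8 := by nlinarith
  have hC32 : Nat.card C = 32 := by rw [hW8] at hprod; omega
  obtain ⟨w0, hw0, hw0'⟩ : ∃ w ∈ W, g.q w ≠ 0 := by
    by_contra hc
    simp only [not_exists, not_and, not_not] at hc
    exact card_ne_eight hp D.px_sq hc hW8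
  have hnf : ∃ c, g.act D.px c = c ∧ c ∉ D.C0 :=
    ⟨w0, (mem_ker g _).mp (range_le_ker g hp D.px_sq hw0), fun h => hw0' ((D.C0_com w0 hw0).mp h)⟩
  have hfs : Function.Surjective f :=
    (Nat.bijective_iff_injective_and_card f).mpr
      ⟨hfi, by rw [Nat.card_prod, card_ker_tr hII, hW8, hC32]⟩ |>.2
  have hU : ∀ u ∈ D.U, u = 0 := by
    intro u hu
    obtain ⟨⟨⟨v, hv⟩, ⟨w, hw⟩⟩, e⟩ := hfs ⟨u, C0_le D (D.U_C0 hu)⟩
    have e' : v + w = u := congrArg Subtype.val e
    subst e'
    rcases eq_or_ne v 0 with rfl | h0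
    · rw [zero_add] at hu ⊢
      exact D.U_com hnf w hu hw
    exfalso
    obtain ⟨hq1, hb1, -⟩ := ker_tr_facts hII hv h0
    have hq := D.U_q _ hu
    rw [g.q_add, hq1, b_ker_fixed hv (hWd w hw), add_zero] at hq
    have hw' : w ∉ D.C0 := fun h => by
      rw [(D.C0_com w hw).mp h, add_zero] at hq
      exact one_ne_zero hq
    have hv' : v ∉ D.C0 := fun h => hw' (by
      have := add_mem h (D.U_C0 hu); rwa [cancel g] at this)
    obtain ⟨x, hxker, hx, hbx⟩ : ∃ x ∈ (tr g).ker, x ∈ D.C0 ∧ g.b v x = 1 := by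
      by_cases h : g.act dEl v ∈ D.C0
      · exact ⟨_, ker_tr_d hv, h, hb1⟩
      · exact ⟨_, add_mem hv (ker_tr_d hv), D.C0_index _ _ ((mem_ker g _).mp (hVC _ hv))
          ((mem_ker g _).mp (hVC _ (ker_tr_d hv))) hv' h,
          by rw [b_add_right g, b_self g, zero_add, hb1]⟩
    have h := D.U_perp _ hu x hx
    rw [g.b_add, hbx, g.b_symm w x, b_ker_fixed hxker (hWd w hw), add_zero] at h
    exact one_ne_zero h
  have hU1 : Nat.card D.U = 1 := by
    rw [show D.U = ⊥ from le_bot_iff.mp fun u hu => AddSubgroup.mem_bot.mpr (hU u hu)]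
    exact AddSubgroup.card_bot
  refine no_sylow D' F (Or.inr hII) (le_antisymm (card_K_le D' F) ?_)
  have hK' := hP.cardK'
  have hc0 : Nat.card C ≤ 2 * Nat.card D.C0 := card_ker_le_C0 D
  rw [hU1, mul_one] at hK'
  omega

/-- The order of an invariant subgroup is not 8 in tensor type. -/
lemma sixteen_le_T (hT : g.TypeT) (X : AddSubgroup V) (hX : ∀ v ∈ X, g.act dEl v ∈ X)
    (h4 : 4 < Nat.card X) : 16 ≤ Nat.card X := by
  classical
  haveI := finite_V g
  obtain ⟨a, ha, ha'⟩ := exists_out (g := g) X ({0} : Finset V) (by simp) (n := 1) (by omega)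
  obtain ⟨c, hc, hc'⟩ := exists_out (g := g) X
    ({0, a, g.act dEl a, a + g.act dEl a} : Finset V) Finset.card_le_four (n := 4) h4
  simp only [Finset.mem_insert, Finset.mem_singleton, not_or] at ha' hc'
  let cs : ZMod 2 → V → V := fun x v => if x = 1 then v else 0
  let φ : ZMod 2 × ZMod 2 × ZMod 2 × ZMod 2 → X := fun x =>
    ⟨cs x.1 a + cs x.2.1 (g.act dEl a) + (cs x.2.2.1 c + cs x.2.2.2 (g.act dEl c)), by
      have hcs : ∀ (t : ZMod 2) (v : V), v ∈ X → cs t v ∈ X := fun t v hv => by
        simp only [cs]; split_ifs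
        exacts [hv, zero_mem _]
      exact add_mem (add_mem (hcs _ _ ha) (hcs _ _ (hX a ha)))
        (add_mem (hcs _ _ hc) (hcs _ _ (hX c hc)))⟩
  let spa : Set V := {0, a, g.act dEl a, a + g.act dEl a}
  have hd : ∀ v, g.act dEl (g.act dEl v) = v + g.act dEl v := fun v =>
    ((add_eq_zero_iff g).mp (sum_d hT v)).symm
  have hspa : ∀ v ∈ spa, g.act dEl v ∈ spa := by
    intro v hv
    simp only [spa, Set.mem_insert_iff, Set.mem_singleton_iff] at hv ⊢
    rcases hv with rfl | rfl | rfl | rfl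
    · exact Or.inl (act_zero g (dR g))
    · exact Or.inr (Or.inr (Or.inl rfl))
    · exact Or.inr (Or.inr (Or.inr (hd a)))
    · right; left; rw [g.act_add _ (dR g), hd, add_comm, cancel' g]
  have hcne : c ∉ spa := by
    simp only [spa, Set.mem_insert_iff, Set.mem_singleton_iff, not_or]; exact hc'
  have hdc : g.act dEl c ∉ spa := fun h => hcne (by rw [← act_d3 g c]; exact hspa _ (hspa _ h))
  have hd2c : c + g.act dEl c ∉ spa := fun h => hcne (by
    rw [← act_d3 g c]; rw [← hd] at h; exact hspa _ h)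
  have ha2 : g.act dEl a ≠ a := fun e => ha' (hT a e)
  have ha3 : g.act dEl a ≠ 0 := fun e =>
    ha' (act_injective g (dR g) (e.trans (act_zero g (dR g)).symm))
  have hinj : ∀ x y z t : ZMod 2,
      cs x a + cs y (g.act dEl a) + (cs z c + cs t (g.act dEl c)) = 0 →
        x = 0 ∧ y = 0 ∧ z = 0 ∧ t = 0 := by
    intro x y z t e
    rw [add_eq_zero_iff g] at e
    have hl : cs x a + cs y (g.act dEl a) ∈ spa := by
      rcases zmod_two_cases x with rfl | rfl <;> rcases zmod_two_cases y with rfl | rfl <;>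
        simp [cs, spa]
    rw [e] at hl
    rcases zmod_two_cases z with rfl | rfl <;> rcases zmod_two_cases t with rfl | rfl
    · simp only [cs, zero_ne_one, if_false, add_zero] at e
      rcases zmod_two_cases x with rfl | rfl <;> rcases zmod_two_cases y with rfl | rfl
      · exact ⟨rfl, rfl, rfl, rfl⟩
      · simp [ha3] at e
      · simp [ha'] at e
      · simp at e; exact absurd ((add_eq_zero_iff g).mp e).symm ha2
    · simp [cs] at hl; exact absurd hl hdc
    · simp [cs] at hl; exact absurd hl hcne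
    · simp [cs] at hl; exact absurd hl hd2c
  have hcs : ∀ (x y : ZMod 2) (v : V), cs x v + cs y v = cs (x + y) v := fun x y v => by
    rcases zmod_two_cases x with rfl | rfl <;> rcases zmod_two_cases y with rfl | rfl <;>
      simp +decide [cs, g.two]
  have hφ : Function.Injective φ := by
    rintro ⟨x, y, z, t⟩ ⟨x', y', z', t'⟩ e
    have e' := congrArg Subtype.val e
    have h := hinj (x + x') (y + y') (z + z') (t + t') (by
      simp only [φ] at e'
      rw [← add_eq_zero_iff g] at e'
      rw [← hcs, ← hcs, ← hcs, ← hcs, ← e']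
      abel)
    simp only [CharTwo.add_eq_zero] at h
    obtain ⟨rfl, rfl, rfl, rfl⟩ := h
    rfl
  have := Nat.card_le_card_of_injective φ hφ
  simpa using this

lemma range_eq_ker_T (hT : g.TypeT) {p : P36} (hp : p ∈ R) (p2 : p * p = 1)
    (h8 : 8 ≤ Nat.card (dif g p hp).range) :
    (dif g p hp).range = (dif g p hp).ker ∧ Nat.card (dif g p hp).range = 16 ∧
      (Inv3 p ∨ ∀ w ∈ (dif g p hp).range, g.q w = 0) := by
  haveI := finite_V g
  by_cases hi : Inv3 p
  · have h := card_fix_sq hT hp hi p2 ⊤ (fun v _ => AddSubgroup.mem_top _)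
      (fun v _ => AddSubgroup.mem_top _)
    rw [top_inf_eq, AddSubgroup.card_top, g.card] at h
    have h16 : Nat.card (dif g p hp).ker = 16 := by nlinarith
    have e := range_eq_ker hp p2 h16.le
    exact ⟨e, by rw [e, h16], Or.inl hi⟩
  · have p1 := fst_one p2 hi
    have h := sixteen_le_T hT _ (fun v hv => range_d hp p1 hv) (by omega)
    have hh := card_range_mul_card_ker g hp
    have e := range_eq_ker hp p2 (by nlinarith)
    refine ⟨e, ?_, Or.inr fun w hw => q_range_T hT hp p2 p1 hw⟩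
    rw [← e] at hh
    nlinarith

lemma C0_singular {D : WData g} (he : (dif g D.px (pxR D)).range = (dif g D.px (pxR D)).ker) :
    ∀ c ∈ D.C0, g.q c = 0 := fun c hc => by
  have h : c ∈ (dif g D.px (pxR D)).range := by rw [he]; exact C0_le D hc
  exact (D.C0_com c h).mp hc

/-- Tensor type: `px` does not centralise `dEl`. -/
lemma no_cent_T (F : P36Facts) (hT : g.TypeT) {D D' : WData g} (hP : WPair D D')
    (p1 : D.px.1 = 1) (h8 : 8 ≤ Nat.card (g.Com D.px)) (h8' : 8 ≤ Nat.card (g.Com D'.px)) :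
    False := by
  classical
  haveI := finite_V g
  have hp := pxR D
  rw [card_com g hp] at h8
  rw [card_com g (pxR D')] at h8'
  obtain ⟨he, h16, -⟩ := range_eq_ker_T hT hp D.px_sq h8
  obtain ⟨he', h16', -⟩ := range_eq_ker_T hT (pxR D') D'.px_sq h8'
  have hqW : ∀ w ∈ (dif g D.px hp).range, g.q w = 0 := fun w hw =>
    q_range_T hT hp D.px_sq p1 hw
  have hfull : Full D := full_of_eq D he hqW
  have hK2 := hP.elem (C0_singular he')
  have hK1 : ∀ k ∈ D.K, k.1 = 1 := fun k hk =>
    fst_one (hK2 k hk) fun hi => no_inverting_T D hT p1 hk (hK2 k hk) hi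
  have hK8 := F.elem_cent_le D.K hK2 hK1
  have hcK := hP.cardK
  have hc0 := card_ker_le_C0 D'
  rw [← he', h16'] at hc0
  have hfull' : Full D' := by
    by_contra hf
    obtain ⟨c, hc1, hc2⟩ : ∃ c, g.act D'.px c = c ∧ c ∉ D'.C0 := by simpa [Full] using hf
    have : Nat.card D'.U = 1 := by
      rw [show D'.U = ⊥ from le_bot_iff.mp fun u hu => AddSubgroup.mem_bot.mpr
        (D'.U_com ⟨c, hc1, hc2⟩ u hu (show u ∈ (dif g D'.px (pxR D')).range by
          rw [he']; exact C0_le D' (D'.U_C0 hu)))]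
      exact AddSubgroup.card_bot
    rw [hP.cardU, this] at hcK
    omega
  have hC0' : Nat.card D'.C0 = 16 := by
    rw [← h16', he']
    congr 1
    exact congrArg (fun S : AddSubgroup V => ↥S)
      (le_antisymm (C0_le D') fun v hv => hfull' v ((mem_ker g _).mp hv))
  have hU := card_U_le D
  rw [hC0'] at hcK
  have hU4 : Nat.card D.U = 4 := by nlinarith
  rw [hU4] at hcK
  have hR : R = ⊤ := by
    by_contra hne
    have := F.elem_cent R D.K g.big g.odd hne D.K_le hK2 hK1
    omega
  have hmem : ∀ h : P36, h ∈ R := fun h => by rw [hR]; exact Subgroup.mem_top h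
  let s : P36 := (Equiv.swap 0 1, 1)
  have hs : Inv3 s := by show Equiv.Perm.sign (Equiv.swap (0 : Fin 3) 1) = -1; decide
  have s2 : s * s = 1 := first_sq hs
  have hsp : s * D.px = D.px * s := Prod.ext (by simp [s, p1]) (by simp [s])
  have hcom16 : Nat.card (g.Com D.px) = 16 := h16
  have hUW := U_le_range_of_full D hfull
  have hUd : ∀ v ∈ D.U, g.act dEl v ∈ D.U :=
    D.U_cent hcom16 dEl (dR g) (comm_d p1).symm
  have hUs : ∀ v ∈ D.U, g.act s v ∈ D.U := D.U_cent hcom16 s (hmem s) hsp
  have hU2 : Nat.card (D.U ⊓ (dif g s (hmem s)).ker : AddSubgroup V) = 2 := by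
    have := card_fix_sq hT (hmem s) hs s2 D.U hUd hUs
    rw [hU4] at this
    nlinarith
  obtain ⟨u0, hu0, hu0'⟩ := exists_out (g := g) (D.U ⊓ (dif g s (hmem s)).ker) ({0} : Finset V)
    (by simp) (n := 1) (by omega)
  rw [Finset.mem_singleton] at hu0'
  have hu0s : g.act s u0 = u0 := (mem_ker g _).mp hu0.2
  set W := (dif g D.px hp).range with hW
  set L := W ⊓ (dif g s (hmem s)).ker with hL
  have hWd : ∀ w ∈ W, g.act dEl w ∈ W := fun w hw => range_d hp p1 hw
  have hWc : ∀ h, h * D.px = D.px * h → ∀ w ∈ W, g.act h w ∈ W := fun h e w hw => by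
    rw [he] at hw ⊢
    exact ker_comm hp (hmem h) e hw
  have hL4 : Nat.card L = 4 := by
    have := card_fix_sq hT (hmem s) hs s2 W hWd (hWc s hsp)
    rw [← hL, h16] at this
    nlinarith
  -- an element of the centraliser moving `L`
  obtain ⟨c, hcp, hcs, l, hl, hcl⟩ : ∃ c : P36, (c * D.px = D.px * c ∧ c.1 = 1) ∧
      c * s = s * c ∧ ∃ l ∈ L, g.act c l ≠ l := by
    obtain ⟨a, b, ha, hb, hab⟩ := F.cent_nonab D.px.2 (congrArg Prod.snd D.px_sq)
    have hca : ∀ x : Equiv.Perm (Fin 6), x * D.px.2 = D.px.2 * x →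
        ((1, x) : P36) * D.px = D.px * (1, x) := fun x hx => Prod.ext (by simp [p1]) hx
    by_contra hc
    have hfix : ∀ x : Equiv.Perm (Fin 6), x * D.px.2 = D.px.2 * x →
        ∀ v ∈ (dif g D.px hp).ker, g.act (1, x) v = v := by
      intro x hx v hv
      have hxs : ((1, x) : P36) * s = s * (1, x) := Prod.ext (by simp [s]) (by simp [s])
      have hl : ∀ l ∈ L, g.act (1, x) l = l := fun l hl => by
        by_contra h
        exact hc ⟨(1, x), ⟨hca x hx, rfl⟩, hxs, l, hl, h⟩
      rw [← he] at hv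
      have hy : g.act s v + v ∈ L :=
        ⟨add_mem (hWc s hsp v hv) hv, range_le_ker g (hmem s) s2 ⟨v, rfl⟩⟩
      have hsy : g.act s (g.act s v + v) = g.act s v + v := (mem_ker g _).mp hy.2
      have hy' : g.act dEl (g.act s v + v) + v ∈ L := by
        refine ⟨add_mem (hWd _ hy.1) hv, (mem_ker g _).mpr ?_⟩
        have h := d_split hT (hmem s) hs hsy
        rw [g.act_add _ (hmem s)]
        calc g.act s (g.act dEl (g.act s v + v)) + g.act s v
            = (g.act s (g.act dEl (g.act s v + v)) + g.act dEl (g.act s v + v)) +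
                g.act dEl (g.act s v + v) + g.act s v := by rw [cancel' g]
          _ = g.act dEl (g.act s v + v) + v := by
            rw [h]
            calc _ = g.act s v + g.act s v + (g.act dEl (g.act s v + v) + v) := by abel
              _ = _ := by rw [g.two, zero_add]
      have e : v = g.act dEl (g.act s v + v) + (g.act dEl (g.act s v + v) + v) :=
        (cancel g _ _).symm
      rw [e, g.act_add _ (hmem _), hl _ hy', act_comm g (hmem _) (dR g) (comm_d rfl), hl _ hy]
    exact hab (congrArg Prod.snd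
      (commute_of_fix g hp D.px_sq (hmem (1, a)) (hmem (1, b)) (hfix a ha) (hfix b hb)))
  obtain ⟨hcpx, hc1⟩ := hcp
  have hcu : g.act c u0 = u0 := by
    have hmem0 : g.act c u0 ∈ D.U ⊓ (dif g s (hmem s)).ker :=
      ⟨D.U_cent hcom16 c (hmem c) hcpx u0 hu0.1, (mem_ker g _).mpr (by
        rw [← act_comm g (hmem c) (hmem s) hcs, hu0s])⟩
    by_contra hne
    have hne0 : g.act c u0 ≠ 0 := fun e =>
      hu0' (act_injective g (hmem c) (e.trans (act_zero g (hmem c)).symm))
    have hsub : (({0, u0, g.act c u0} : Finset V) : Set V) ⊆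
        ((D.U ⊓ (dif g s (hmem s)).ker : AddSubgroup V) : Set V) := by
      intro x hx
      simp only [Finset.coe_insert, Finset.coe_singleton, Set.mem_insert_iff,
        Set.mem_singleton_iff] at hx
      rcases hx with rfl | rfl | rfl
      exacts [zero_mem _, hu0, hmem0]
    have := Set.ncard_le_ncard hsub (Set.toFinite _)
    rw [Set.ncard_coe_finset, ← Nat.card_coe_set_eq, SetLike.coe_sort_coe, hU2] at this
    have h3 : ({0, u0, g.act c u0} : Finset V).card = 3 := by
      simp [hu0', Ne.symm hu0', hne0.symm, Ne.symm hne]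
    omega
  have hl0 : l ≠ 0 := fun e => hcl (by rw [e, act_zero g (hmem c)])
  have hlu : l ≠ u0 := fun e => hcl (by rw [e, hcu])
  have hgl : g.act c l = l + u0 := by
    have hcL : g.act c l ∈ L := ⟨hWc c hcpx l hl.1, (mem_ker g _).mpr (by
      rw [← act_comm g (hmem c) (hmem s) hcs, (mem_ker g _).mp hl.2])⟩
    have huL : u0 ∈ L := ⟨hUW hu0.1, hu0.2⟩
    by_contra hne
    have a0 : g.act c l ≠ 0 := fun e =>
      hl0 (act_injective g (hmem c) (e.trans (act_zero g (hmem c)).symm))
    have a1 : g.act c l ≠ u0 := fun e => hlu (act_injective g (hmem c) (e.trans hcu.symm))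
    have a2 : l + u0 ≠ 0 := fun e => hlu ((add_eq_zero_iff g).mp e)
    have hsub : (({0, u0, l, l + u0, g.act c l} : Finset V) : Set V) ⊆ (L : Set V) := by
      intro x hx
      simp only [Finset.coe_insert, Finset.coe_singleton, Set.mem_insert_iff,
        Set.mem_singleton_iff] at hx
      rcases hx with rfl | rfl | rfl | rfl | rfl
      exacts [zero_mem _, huL, hl, add_mem hl huL, hcL]
    have := Set.ncard_le_ncard hsub (Set.toFinite _)
    rw [Set.ncard_coe_finset, ← Nat.card_coe_set_eq, SetLike.coe_sort_coe, hL4] at this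
    have h5 : ({0, u0, l, l + u0, g.act c l} : Finset V).card = 5 := by
      simp [hu0', Ne.symm hu0', hl0.symm, Ne.symm hlu, a2.symm, a0.symm, a1.symm, Ne.symm hcl,
        Ne.symm hne, hl0]
    omega
  -- preimages fixed by `s`
  have pre : ∀ w ∈ L, ∃ v, g.act s v = v ∧ g.act D.px v + v = w := by
    intro w hw
    obtain ⟨v, hv⟩ := hw.1
    have hv' : g.act D.px v + v = w := hv
    refine ⟨g.act s (g.act dEl v) + g.act dEl v, ?_, ?_⟩
    · rw [g.act_add _ (hmem s), ← g.act_mul s (hmem s) s (hmem s), s2, g.act_one, add_comm]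
    · rw [← dif_apply g D.px hp, map_add, dif_apply, dif_apply,
        act_comm g hp (hmem s) hsp.symm, act_comm g hp (dR g) (comm_d p1),
        ← g.act_add _ (hmem s), ← g.act_add _ (dR g), hv',
        d_split hT (hmem s) hs ((mem_ker g _).mp hw.2)]
  obtain ⟨v0, hv0s, hv0⟩ := pre u0 ⟨hUW hu0.1, hu0.2⟩
  obtain ⟨vl, hvls, hvl⟩ := pre l hl
  have hne : g.act dEl u0 ≠ u0 := fun e => hu0' (hT u0 e)
  have hne0 : g.act dEl u0 ≠ 0 := fun e =>
    hu0' (act_injective g (dR g) (e.trans (act_zero g (dR g)).symm))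
  have hone : g.b v0 (g.act dEl u0) = 1 :=
    D.U_beta u0 hu0.1 _ (hUd _ hu0.1) hu0' hne0 hne.symm (hUW (hUd _ hu0.1)) v0 hv0
  have hc_ker : g.act c vl + vl + v0 ∈ (dif g D.px hp).ker := by
    rw [AddMonoidHom.mem_ker, map_add, map_add, dif_apply, dif_apply, dif_apply,
      ← act_comm g (hmem c) hp hcpx, ← g.act_add _ (hmem c), hvl, hv0, hgl, add_assoc, g.two]
  have hzero : g.b (g.act c vl + vl + v0) (g.act dEl (l + u0)) = 0 :=
    b_fix_com g hp D.px_sq hc_ker (hWd _ (add_mem hl.1 (hUW hu0.1)))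
  have hinvar : g.b (g.act c vl) (g.act dEl (l + u0)) = g.b vl (g.act dEl l) := by
    rw [← hgl, ← act_comm g (hmem c) (dR g) (comm_d hc1), b_act g (hmem c)]
  have hsym : g.b v0 (g.act dEl l) = g.b vl (g.act dEl u0) := by
    have e : g.act dEl l = g.act D.px (g.act dEl vl) + g.act dEl vl := by
      rw [act_comm g hp (dR g) (comm_d p1), ← g.act_add _ (dR g), hvl]
    have hu : g.b u0 (g.act dEl vl) = g.b (g.act dEl (g.act dEl u0)) vl := by
      rw [← b_act g (dR g) (g.act dEl (g.act dEl u0)) vl, act_d3]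
    rw [e, ← b_dif g hp D.px_sq, hv0, hu, ← (add_eq_zero_iff g).mp (sum_d hT u0), g.b_add,
      b_fix_fix hT (hmem s) hs s2 hu0s hvls, zero_add, g.b_symm]
  rw [g.b_add, g.b_add, hinvar, g.act_add _ (dR g), b_add_right g, b_add_right g, hsym, hone]
    at hzero
  revert hzero
  generalize g.b vl (g.act dEl l) = A
  generalize g.b vl (g.act dEl u0) = B
  revert A B
  decide

end NoWeak

open NoWeak in
/-- The weakly closed case is impossible. -/
theorem no_weak.{v} (F : P36Facts) (T : StmtTypes.{v}) : StmtNoWeak.{v} := by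
  intro V _ R g S hne hpair himp
  have hty := T V R g
  have h8 : ∀ D ∈ S, 8 ≤ Nat.card (g.Com D.px) := fun D hD => by
    obtain ⟨D', -, hP⟩ := hpair D hD
    exact eight_le F hty hP
  by_cases hall : ∀ D ∈ S, Inv3 D.px
  · obtain ⟨D, hD⟩ := hne
    exact absurd (himp hall D hD) (by have := h8 D hD; omega)
  · obtain ⟨D, hD, hi⟩ : ∃ D ∈ S, ¬ Inv3 D.px := by simpa using hall
    obtain ⟨D', hD', hP⟩ := hpair D hD
    have p1 := fst_one D.px_sq hi
    rcases hty with hT | hII
    · exact no_cent_T F hT hP p1 (h8 D hD) (h8 D' hD')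
    · exact no_cent_II F hII hP p1 (h8 D hD)

end CfsgLib.NoSixCent
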