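import Cfsg.Agent.Lib.NoSixCent.Basic

/-!
The element of order three generating the normal subgroup of order three has either no non-zero
fixed vector or exactly 64 fixed vectors.
-/

set_option autoImplicit false

namespace CfsgLib.NoSixCent

universe u

namespace Geo

variable {V : Type u} [AddCommGroup V] {R : Subgroup P36} (g : Geo V R)
include g

/-- Non-degenerate subgroup. -/
private def NDeg (U : AddSubgroup V) : Prop :=
  let _ := g
  ∀ u ∈ U, (∀ w ∈ U, g.b u w = 0) → u = 0

/-- Invariant subgroup. -/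
private def Inv' (h : P36) (U : AddSubgroup V) : Prop :=
  let _ := g
  ∀ u ∈ U, g.act h u ∈ U

private theorem act_pow {h : P36} (hh : h ∈ R) :
    ∀ (k : ℕ) (v : V), g.act (h ^ k) v = (g.act h)^[k] v := by
  intro k
  induction k with
  | zero => intro v; rw [pow_zero, g.act_one]; rfl
  | succ k ih =>
    intro v
    rw [pow_succ, g.act_mul _ (R.pow_mem hh k) _ hh, ih, Function.iterate_succ_apply]

/-- Counting fixed points modulo the order. -/
private theorem fixed_modEq {h : P36} (hh : h ∈ R) {p : ℕ} [Fact p.Prime] (hp : h ^ p = 1)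
    {U : AddSubgroup V} (hU : g.Inv' h U) :
    Nat.card U ≡ Nat.card (U ⊓ g.fixSub hh : AddSubgroup V) [MOD p] := by
  classical
  haveI := g.finiteV
  haveI : Fintype U := Fintype.ofFinite _
  let f : Function.End U := fun u => ⟨g.act h u.1, hU u.1 u.2⟩
  have hf : ∀ (k : ℕ) (u : U), (((f ^ k : Function.End U) u) : U).1 = g.act (h ^ k) u.1 := by
    intro k
    induction k with
    | zero => intro u; rw [pow_zero, pow_zero, g.act_one]; rfl
    | succ k ih =>
      intro u
      rw [pow_succ, pow_succ, g.act_mul _ (R.pow_mem hh k) _ hh]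
      exact ih (f u)
  have hf1 : f ^ p ^ 1 = 1 := by
    funext u
    apply Subtype.ext
    rw [hf, pow_one, hp, g.act_one]
    rfl
  have h1 := Equiv.Perm.card_fixedPoints_modEq hf1
  rw [← Nat.card_eq_fintype_card, ← Nat.card_eq_fintype_card] at h1
  have h2 : Nat.card (Function.fixedPoints f) = Nat.card (U ⊓ g.fixSub hh : AddSubgroup V) :=
    Nat.card_congr
    ⟨fun u => ⟨u.1.1, ⟨u.1.2, congrArg Subtype.val u.2⟩⟩,
      fun v => ⟨⟨v.1, v.2.1⟩, Subtype.ext v.2.2⟩, fun _ => rfl, fun _ => rfl⟩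
  rwa [h2] at h1

/-- Decomposition of an invariant subgroup into fixed and commutator part. -/
private theorem split {h : P36} (hh : h ∈ R) {m : ℕ} (hm : h ^ (2 * m + 1) = 1)
    {U : AddSubgroup V} (hU : g.Inv' h U) :
    U.map (g.comHom hh) ≤ U ∧
    (∀ w ∈ U.map (g.comHom hh), g.act h w = w → w = 0) ∧
    (∀ a ∈ g.fixSub hh, ∀ w ∈ U.map (g.comHom hh), g.b a w = 0) ∧
    Nat.card (U ⊓ g.fixSub hh : AddSubgroup V) * Nat.card (U.map (g.comHom hh)) = Nat.card U ∧
    (∀ w ∈ U, ∃ a ∈ U ⊓ g.fixSub hh, ∃ c ∈ U.map (g.comHom hh), a + c = w) := by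
  classical
  haveI := g.finiteV
  have hle : U.map (g.comHom hh) ≤ U := by
    rintro _ ⟨v, hv, rfl⟩
    exact U.add_mem (hU v hv) hv
  have hfree : ∀ w ∈ U.map (g.comHom hh), g.act h w = w → w = 0 := by
    rintro _ ⟨v, -, rfl⟩ hw
    rw [comHom_apply] at hw ⊢
    set w := g.act h v + v with hwdef
    have h1 : g.act h v = v + w := by
      rw [hwdef, add_comm (g.act h v) v, ← add_assoc, g.two, zero_add]
    have hk : ∀ k, g.act (h ^ (2 * k)) v = v ∧ g.act (h ^ (2 * k + 1)) v = v + w := by
      intro k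
      induction k with
      | zero => simp [g.act_one, h1]
      | succ k ih =>
        have e : g.act (h ^ (2 * (k + 1))) v = v := by
          rw [show 2 * (k + 1) = (2 * k + 1) + 1 from by ring, pow_succ',
            g.act_mul _ hh _ (R.pow_mem hh _), ih.2, g.act_add h hh, hw, h1, g.add_add_cancel]
        refine ⟨e, ?_⟩
        rw [pow_succ', g.act_mul _ hh _ (R.pow_mem hh _), e, h1]
    have := (hk m).2
    rw [hm, g.act_one] at this
    simpa using this
  have horth : ∀ a ∈ g.fixSub hh, ∀ w ∈ U.map (g.comHom hh), g.b a w = 0 := by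
    rintro a (ha : g.act h a = a) _ ⟨v, -, rfl⟩
    rw [comHom_apply, g.b_add_right]
    conv_lhs => arg 1; rw [← ha]
    rw [g.b_act hh, zmod2_add_self]
  have hcard : Nat.card (U ⊓ g.fixSub hh : AddSubgroup V) * Nat.card (U.map (g.comHom hh)) =
      Nat.card U := by
    set F := (g.comHom hh).comp U.subtype
    have hr : F.range = U.map (g.comHom hh) := by
      rw [AddMonoidHom.range_comp, AddSubgroup.range_subtype]
    have hk : Nat.card F.ker = Nat.card (U ⊓ g.fixSub hh : AddSubgroup V) := by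
      refine Nat.card_congr ⟨fun u => ⟨u.1.1, u.1.2, ?_⟩, fun v => ⟨⟨v.1, v.2.1⟩, ?_⟩,
        fun _ => rfl, fun _ => rfl⟩
      · exact g.add_eq_zero_iff.1 (AddMonoidHom.mem_ker.1 u.2)
      · exact AddMonoidHom.mem_ker.2 (g.add_eq_zero_iff.2 v.2.2)
    rw [← hr, ← hk, AddSubgroup.card_eq_card_quotient_mul_card_addSubgroup F.ker, mul_comm]
    congr 1
    exact (Nat.card_congr (QuotientAddGroup.quotientKerEquivRange F).toEquiv).symm
  refine ⟨hle, hfree, horth, hcard, ?_⟩
  let P : (U ⊓ g.fixSub hh : AddSubgroup V) × U.map (g.comHom hh) → U := fun x =>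
    ⟨x.1.1 + x.2.1, U.add_mem x.1.2.1 (hle x.2.2)⟩
  have hinj : Function.Injective P := by
    intro x y e
    have e' : x.1.1 + x.2.1 = y.1.1 + y.2.1 := congrArg Subtype.val e
    have e2 : (x.2.1 + y.2.1) = x.1.1 + y.1.1 := by
      rw [← g.add_eq_zero_iff] at e' ⊢
      rw [← e']; abel
    have h0 : x.2.1 + y.2.1 = 0 := by
      refine hfree _ (AddSubgroup.add_mem _ x.2.2 y.2.2) ?_
      rw [e2]
      exact (g.fixSub hh).add_mem x.1.2.2 y.1.2.2
    rw [h0, eq_comm] at e2
    exact Prod.ext (Subtype.ext (g.add_eq_zero_iff.1 e2)) (Subtype.ext (g.add_eq_zero_iff.1 h0))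
  have hbij : Function.Bijective P := (Nat.bijective_iff_injective_and_card P).2
    ⟨hinj, by rw [Nat.card_prod, hcard]⟩
  intro w hw
  obtain ⟨x, hx⟩ := hbij.2 ⟨w, hw⟩
  exact ⟨x.1.1, x.1.2, x.2.1, x.2.2, congrArg Subtype.val hx⟩

private theorem ndeg_parts {h : P36} (hh : h ∈ R) {m : ℕ} (hm : h ^ (2 * m + 1) = 1)
    {U : AddSubgroup V} (hU : g.Inv' h U) (hn : g.NDeg U) :
    g.NDeg (U ⊓ g.fixSub hh) ∧ g.NDeg (U.map (g.comHom hh)) := by
  obtain ⟨hle, -, horth, -, hsum⟩ := g.split hh hm hU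
  refine ⟨fun u hu h0 => hn u hu.1 fun w hw => ?_, fun u hu h0 => hn u (hle hu) fun w hw => ?_⟩
  · obtain ⟨a, ha, c, hc, rfl⟩ := hsum w hw
    rw [g.b_add_right, h0 a ha, horth u hu.2 c hc, add_zero]
  · obtain ⟨a, ha, c, hc, rfl⟩ := hsum w hw
    rw [g.b_add_right, h0 c hc, g.b_symm, horth a ha.2 u hu, add_zero]

private theorem inv_parts {h k : P36} (hh : h ∈ R) (hk : k ∈ R) (e : k * h = h * k)
    {U : AddSubgroup V} (hU : g.Inv' k U) :
    g.Inv' k (U ⊓ g.fixSub hh) ∧ g.Inv' k (U.map (g.comHom hh)) := by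
  refine ⟨fun u hu => ⟨hU u hu.1, g.act_fix hh hk e hu.2⟩, ?_⟩
  rintro _ ⟨v, hv, rfl⟩
  exact ⟨g.act k v, hU v hv, by
    rw [comHom_apply, comHom_apply, g.act_add k hk, g.act_comm hk hh e]⟩

/-- No non-degenerate subgroup of order 16 has both a fixed point free element of order three and
one of order five commuting with it. -/
private theorem not_fifteen {d e : P36} (hd : d ∈ R) (he : e ∈ R) (hde : d * e = e * d)
    (d3 : d ^ 3 = 1) (e5 : e ^ 5 = 1) {U : AddSubgroup V} (hU : Nat.card U = 16)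
    (hdU : g.Inv' d U) (heU : g.Inv' e U) (hn : g.NDeg U)
    (hd0 : ∀ u ∈ U, g.act d u = u → u = 0) (he0 : ∀ u ∈ U, g.act e u = u → u = 0) : False := by
  classical
  haveI := g.finiteV
  haveI : Fintype U := Fintype.ofFinite _
  set h := d * e with hhdef
  have hh : h ∈ R := R.mul_mem hd he
  have hhU : ∀ u ∈ U, g.act h u ∈ U := fun u hu => by
    rw [hhdef, g.act_mul d hd e he]
    exact hdU _ (heU u hu)
  obtain ⟨u, hu, hu0⟩ : ∃ u ∈ U, u ≠ 0 := by
    by_contra hc
    push_neg at hc
    have : U = ⊥ := (AddSubgroup.eq_bot_iff_forall U).2 hc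
    rw [this] at hU
    simp at hU
  have h15 : h ^ 15 = 1 := by
    rw [hhdef, Commute.mul_pow hde, show (15 : ℕ) = 3 * 5 from rfl, pow_mul, d3, one_pow, one_mul,
      show 3 * 5 = 5 * 3 from rfl, pow_mul, e5, one_pow]
  have hper : ∀ k, g.act (h ^ k) u = u → 15 ∣ k := by
    intro k hk
    have h1 : Function.IsPeriodicPt (g.act h) k u := by
      rw [Function.IsPeriodicPt, Function.IsFixedPt, ← g.act_pow hh]; exact hk
    have h2 : Function.IsPeriodicPt (g.act h) 15 u := by
      rw [Function.IsPeriodicPt, Function.IsFixedPt, ← g.act_pow hh, h15, g.act_one]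
    refine dvd_trans ?_ h1.minimalPeriod_dvd
    set m := Function.minimalPeriod (g.act h) u
    have hm : Function.IsPeriodicPt (g.act h) m u := Function.isPeriodicPt_minimalPeriod _ _
    have h3 : ∀ a, m ∣ a → g.act (h ^ a) u = u := fun a ha => by
      rw [g.act_pow hh]; exact hm.trans_dvd ha
    have hm15 : m ∣ 15 := h2.minimalPeriod_dvd
    have : m ∈ Nat.divisors 15 := Nat.mem_divisors.2 ⟨hm15, by norm_num⟩
    rw [show Nat.divisors 15 = {1, 3, 5, 15} by decide] at this
    simp only [Finset.mem_insert, Finset.mem_singleton] at this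
    have hA : ¬ m ∣ 3 := fun ha => by
      have := h3 3 ha
      rw [hhdef, Commute.mul_pow hde, d3, one_mul] at this
      have h9 : g.act (e ^ 3) (g.act (e ^ 3) u) = u := by rw [this, this]
      rw [← g.act_mul _ (R.pow_mem he 3) _ (R.pow_mem he 3), ← pow_add,
        show 3 + 3 = 5 + 1 from rfl, pow_succ, e5, one_mul] at h9
      exact hu0 (he0 u hu h9)
    have hB : ¬ m ∣ 5 := fun ha => by
      have := h3 5 ha
      rw [hhdef, Commute.mul_pow hde, e5, mul_one] at this
      have h9 : g.act (d ^ 5) (g.act (d ^ 5) u) = u := by rw [this, this]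
      rw [← g.act_mul _ (R.pow_mem hd 5) _ (R.pow_mem hd 5), ← pow_add,
        show 5 + 5 = 3 * 3 + 1 from rfl, pow_succ, pow_mul, d3, one_pow, one_mul] at h9
      exact hu0 (hd0 u hu h9)
    rcases this with e' | e' | e' | e'
    · exact absurd (e' ▸ one_dvd 3) hA
    · exact absurd (by rw [e']) hA
    · exact absurd (by rw [e']) hB
    · rw [e']
  have hmem : ∀ i, g.act (h ^ i) u ∈ U := fun i => by
    induction i with
    | zero => rwa [pow_zero, g.act_one]
    | succ i ih => rw [pow_succ', g.act_mul _ hh _ (R.pow_mem hh i)]; exact hhU _ ih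
  have hne : ∀ i, g.act (h ^ i) u ≠ 0 := fun i hi => hu0 (g.act_injective (R.pow_mem hh i)
    (hi.trans (g.act_zero (R.pow_mem hh i)).symm))
  let f : Fin 15 → {x : U // x.1 ≠ 0} := fun i => ⟨⟨_, hmem i⟩, hne i⟩
  have key : ∀ i j : Fin 15, i.1 ≤ j.1 → f i = f j → i = j := by
    intro i j hij e'
    have e'' : g.act (h ^ i.1) u = g.act (h ^ j.1) u := congrArg (fun x => x.1.1) e'
    rw [← Nat.add_sub_cancel' hij, pow_add, g.act_mul _ (R.pow_mem hh _) _ (R.pow_mem hh _)] at e''
    have := hper _ (g.act_injective (R.pow_mem hh _) e'').symm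
    obtain ⟨c, hc⟩ := this
    exact Fin.ext (by omega)
  have finj : Function.Injective f := fun i j e' => (le_total i.1 j.1).elim
    (fun hij => key i j hij e') (fun hij => (key j i hij e'.symm).symm)
  have hcard : Nat.card {x : U // x.1 ≠ 0} = 15 := by
    rw [Nat.card_eq_fintype_card, Fintype.card_subtype_compl, ← Nat.card_eq_fintype_card, hU]
    have : Fintype.card {x : U // x.1 = 0} = 1 :=
      Fintype.card_eq_one_iff.2 ⟨⟨0, rfl⟩, fun x => Subtype.ext (Subtype.ext x.2)⟩
    omega
  have fsurj := ((Nat.bijective_iff_injective_and_card f).2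
    ⟨finj, by rw [hcard, Nat.card_fin]⟩).2
  have hq : ∀ x ∈ U, x ≠ 0 → g.q x = g.q u := fun x hx hx0 => by
    obtain ⟨i, hi⟩ := fsurj ⟨⟨x, hx⟩, hx0⟩
    have hi' : g.act (h ^ i.1) u = x := congrArg (fun y : {x : U // x.1 ≠ 0} => y.1.1) hi
    rw [← hi']
    exact g.q_act _ (R.pow_mem hh _) u
  have hb : ∀ x ∈ U, ∀ y ∈ U, x ≠ 0 → y ≠ 0 → x ≠ y → g.b x y = g.q u := by
    intro x hx y hy hx0 hy0 hxy
    have := g.q_add x y
    rw [hq _ (U.add_mem hx hy) (fun h' => hxy (g.add_eq_zero_iff.1 h')), hq x hx hx0, hq y hy hy0,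
      zmod2_add_self, zero_add] at this
    exact this.symm
  -- three independent elements
  set v := g.act h u
  have hv : v ∈ U := hhU u hu
  have hv0 : v ≠ 0 := by have := hne 1; rwa [pow_one] at this
  have huv : u ≠ v := fun h' => by
    have := hper 1 (by rw [pow_one]; exact h'.symm)
    norm_num at this
  obtain ⟨w, hw, hw1⟩ : ∃ w ∈ U, w ∉ ({0, u, v, u + v} : Finset V) := by
    by_contra hc
    push_neg at hc
    have : Nat.card U ≤ 4 := by
      calc Nat.card U ≤ Nat.card ({0, u, v, u + v} : Finset V) :=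
            Nat.card_le_card_of_injective (fun x => ⟨x.1, hc x.1 x.2⟩)
              (fun a b e' => Subtype.ext (congrArg Subtype.val e' :))
        _ ≤ 4 := by
            rw [Nat.card_eq_fintype_card, Fintype.card_coe]; exact Finset.card_le_four
    omega
  simp only [Finset.mem_insert, Finset.mem_singleton, not_or] at hw1
  have hc0 : g.q u = 0 := by
    have := g.b_add u v w
    rw [hb _ (U.add_mem hu hv) w hw (fun h' => huv (g.add_eq_zero_iff.1 h')) hw1.1
      (fun h' => hw1.2.2.2 h'.symm), hb u hu w hw hu0 hw1.1 (fun h' => hw1.2.1 h'.symm),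
      hb v hv w hw hv0 hw1.1 (fun h' => hw1.2.2.1 h'.symm), zmod2_add_self] at this
    exact this
  refine hu0 (hn u hu fun y hy => ?_)
  by_cases hy0 : y = 0
  · rw [hy0, g.b_zero_right]
  by_cases hyu : u = y
  · rw [← hyu, g.b_self]
  rw [hb u hu y hy hu0 hy0 hyu, hc0]

/-- The number of singular vectors of a non-degenerate subgroup of order 16. -/
private theorem singular_card {U : AddSubgroup V} (hU : Nat.card U = 16) (hn : g.NDeg U) :
    Nat.card {x : U // g.q x.1 = 0} = 6 ∨ Nat.card {x : U // g.q x.1 = 0} = 10 := by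
  classical
  haveI := g.finiteV
  haveI : Fintype U := Fintype.ofFinite _
  let s : ZMod 2 → ℤ := fun c => if c = 0 then 1 else -1
  have sadd : ∀ a c, s (a + c) = s a * s c := by
    intro a c
    rcases zmod2_cases a with rfl | rfl <;> rcases zmod2_cases c with rfl | rfl <;>
      simp [s, zmod2_add_self]
  have hchar : ∀ v : U, v ≠ 0 → ∑ x : U, s (g.b x.1 v.1) = 0 := by
    intro v hv
    obtain ⟨w, hw, hw1⟩ : ∃ w ∈ U, g.b w v.1 ≠ 0 := by
      by_contra hc
      push_neg at hc
      exact hv (Subtype.ext (hn v.1 v.2 fun w hw => by rw [g.b_symm]; exact hc w hw))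
    have h1 : ∑ x : U, s (g.b x.1 v.1) = ∑ x : U, s (g.b (x + ⟨w, hw⟩ : U).1 v.1) :=
      (Equiv.sum_comp (Equiv.addRight (⟨w, hw⟩ : U)) fun x : U => s (g.b x.1 v.1)).symm
    rw [show (fun x : U => s (g.b (x + ⟨w, hw⟩ : U).1 v.1)) = fun x : U => -s (g.b x.1 v.1) from
      funext fun x => by
        rw [AddSubgroup.coe_add, g.b_add, sadd, (zmod2_cases _).resolve_left hw1]
        simp [s], Finset.sum_neg_distrib] at h1
    omega
  set S := ∑ x : U, s (g.q x.1) with hS
  have hsq : S * S = 16 := by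
    rw [hS, Finset.sum_mul_sum]
    calc ∑ x : U, ∑ y : U, s (g.q x.1) * s (g.q y.1)
        = ∑ x : U, ∑ y : U, s (g.q x.1) * s (g.q (x + y : U).1) := by
          refine Finset.sum_congr rfl fun x _ => ?_
          exact (Equiv.sum_comp (Equiv.addLeft x) fun y : U => s (g.q x.1) * s (g.q y.1)).symm
      _ = ∑ x : U, ∑ y : U, s (g.q y.1) * s (g.b x.1 y.1) := by
          refine Finset.sum_congr rfl fun x _ => Finset.sum_congr rfl fun y _ => ?_
          rw [← sadd, ← sadd, AddSubgroup.coe_add, g.q_add]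
          congr 1
          rw [← add_assoc, ← add_assoc, zmod2_add_self, zero_add]
      _ = ∑ y : U, s (g.q y.1) * ∑ x : U, s (g.b x.1 y.1) := by
          rw [Finset.sum_comm]; simp only [Finset.mul_sum]
      _ = 16 := by
          rw [Finset.sum_eq_single (0 : U) (fun y _ hy => by rw [hchar y hy, mul_zero])
            (fun h' => absurd (Finset.mem_univ _) h')]
          simp only [AddSubgroup.coe_zero, g.q_zero, g.b_zero_right]
          rw [show s 0 = 1 from rfl, one_mul, Finset.sum_const, Finset.card_univ,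
            ← Nat.card_eq_fintype_card, hU]
          norm_num
  have hN : S = 2 * (Nat.card {x : U // g.q x.1 = 0} : ℤ) - 16 := by
    rw [Nat.card_eq_fintype_card, Fintype.card_subtype, hS]
    have : ∀ x : U, s (g.q x.1) = 2 * (if g.q x.1 = 0 then 1 else 0) - 1 := fun x => by
      by_cases hx : g.q x.1 = 0 <;> simp [s, hx]
    rw [Finset.sum_congr rfl fun x _ => this x, Finset.sum_sub_distrib, ← Finset.mul_sum,
      Finset.sum_boole, Finset.sum_const, Finset.card_univ, ← Nat.card_eq_fintype_card, hU]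
    norm_num
  rcases mul_self_eq_mul_self_iff.1 (show S * S = 4 * 4 by rw [hsq]; norm_num) with h4 | h4 <;>
    omega

/-- The action of the alternating part on an invariant set. -/
private def altPerm (s : Set V)
    (hs : ∀ π : alternatingGroup (Fin 6), ∀ v ∈ s, g.act ((1, (π : Equiv.Perm _)) : P36) v ∈ s) :
    alternatingGroup (Fin 6) →* Equiv.Perm s :=
  MonoidHom.toHomPerm
    { toFun := fun π x => (⟨_, hs π x.1 x.2⟩ : s)
      map_one' := funext fun x => Subtype.ext (g.act_one x.1)
      map_mul' := fun π ρ => funext fun x => Subtype.ext (by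
        show g.act _ x.1 = g.act _ (g.act _ x.1)
        rw [← g.act_mul _ (g.one_snd_mem π.2) _ (g.one_snd_mem ρ.2)]
        simp [Prod.mk_mul_mk]) }

end Geo

open Geo in
/-- The two types. -/
theorem types : StmtTypes.{u} := by
  intro V _ R g
  classical
  haveI := g.finiteV
  haveI : Fact (Nat.Prime 3) := ⟨Nat.prime_three⟩
  haveI : Fact (Nat.Prime 5) := ⟨by norm_num⟩
  let σ : Equiv.Perm (Fin 6) := Equiv.swap 0 1 * Equiv.swap 1 2 * Equiv.swap 2 3 * Equiv.swap 3 4
  have hσ : Equiv.Perm.sign σ = 1 := by decide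
  set e : P36 := (1, σ) with hedef
  have he : e ∈ R := g.one_snd_mem hσ
  have hd : dEl ∈ R := g.dEl_mem
  have d3 : dEl ^ 3 = 1 := by decide
  have e5 : e ^ 5 = 1 := by rw [hedef]; decide +kernel
  have hde : ∀ π : Equiv.Perm (Fin 6), ((1, π) : P36) * dEl = dEl * ((1, π) : P36) := fun π => by
    simp [dEl]
  haveI : IsSimpleGroup (alternatingGroup (Fin 6)) :=
    alternatingGroup.isSimpleGroup (by simp)
  -- the two summands
  have hT : ∀ h, g.Inv' h (⊤ : AddSubgroup V) := fun h u _ => trivial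
  have hnT : g.NDeg (⊤ : AddSubgroup V) := fun u _ h0 => g.nondeg u fun w => h0 w trivial
  set F := (⊤ : AddSubgroup V) ⊓ g.fixSub hd with hF
  set W := (⊤ : AddSubgroup V).map (g.comHom hd) with hW
  obtain ⟨-, hWfree, -, hcard, hsum⟩ := g.split hd (m := 1) d3 (hT dEl)
  obtain ⟨hnF, hnW⟩ := g.ndeg_parts hd (m := 1) d3 (hT dEl) hnT
  rw [show Nat.card (⊤ : AddSubgroup V) = 256 by
    rw [AddSubgroup.card_top]; exact g.card, ← hF, ← hW] at hcard
  have hiF : ∀ π : Equiv.Perm (Fin 6), Equiv.Perm.sign π = 1 → g.Inv' ((1, π) : P36) F :=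
    fun π hπ => (g.inv_parts hd (g.one_snd_mem hπ) (hde π) (hT _)).1
  have hiW : ∀ π : Equiv.Perm (Fin 6), Equiv.Perm.sign π = 1 → g.Inv' ((1, π) : P36) W :=
    fun π hπ => (g.inv_parts hd (g.one_snd_mem hπ) (hde π) (hT _)).2
  have hdW : g.Inv' dEl W := (g.inv_parts hd hd rfl (hT _)).2
  have hF' : F = g.fixSub hd := top_inf_eq _
  have hFcard : Nat.card (g.Fix dEl) = Nat.card F := by rw [hF']; rfl
  -- the order of the commutator part
  have hW3 : Nat.card W % 3 = 1 := by
    have h1 := g.fixed_modEq hd (p := 3) d3 hdW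
    have h2 : W ⊓ g.fixSub hd = ⊥ :=
      (AddSubgroup.eq_bot_iff_forall _).2 fun w hw => hWfree w hw.1 hw.2
    rw [h2, AddSubgroup.card_bot] at h1
    exact h1
  have hWdvd : Nat.card W ∣ 2 ^ 8 := ⟨Nat.card F, by rw [mul_comm, hcard]; norm_num⟩
  obtain ⟨j, hj, hWj⟩ := (Nat.dvd_prime_pow Nat.prime_two).1 hWdvd
  -- `e` is trivial or fixed point free on each invariant part
  have efix : ∀ U : AddSubgroup V, g.Inv' e U →
      Nat.card U % 5 = Nat.card (U ⊓ g.fixSub he : AddSubgroup V) % 5 ∧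
        Nat.card (U ⊓ g.fixSub he : AddSubgroup V) ∣ Nat.card U := fun U hU =>
    ⟨g.fixed_modEq he e5 hU, AddSubgroup.card_dvd_of_le inf_le_left⟩
  have efull : ∀ U : AddSubgroup V, Nat.card (U ⊓ g.fixSub he : AddSubgroup V) = Nat.card U →
      ∀ u ∈ U, g.act e u = u := fun U hU u hu => by
    have := AddSubgroup.eq_of_le_of_card_ge (inf_le_left : U ⊓ g.fixSub he ≤ U) hU.ge
    rw [← this] at hu
    exact hu.2
  have efree : ∀ U : AddSubgroup V, Nat.card (U ⊓ g.fixSub he : AddSubgroup V) = 1 →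
      ∀ u ∈ U, g.act e u = u → u = 0 := fun U hU u hu hue => by
    have := AddSubgroup.card_eq_one.1 hU
    exact (AddSubgroup.eq_bot_iff_forall _).1 this u ⟨hu, hue⟩
  have enot : ¬ ∀ v, g.act e v = v := fun h' => by
    have := g.faithful e he h'
    rw [hedef] at this
    exact absurd (congrArg Prod.snd this) (by decide +kernel)
  have esum : (∀ u ∈ F, g.act e u = u) → (∀ u ∈ W, g.act e u = u) → False := fun h1 h2 =>
    enot fun v => by
      obtain ⟨a, ha, c, hc, rfl⟩ := hsum v trivial
      rw [g.act_add e he, h1 a ha, h2 c hc]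
  have hej : ∀ U : AddSubgroup V, g.Inv' e U → Nat.card U = 16 →
      (∀ u ∈ U, g.act e u = u) ∨ (∀ u ∈ U, g.act e u = u → u = 0) := by
    intro U hU h16
    obtain ⟨h1, h2⟩ := efix U hU
    rw [h16] at h1 h2
    obtain ⟨i, hi, hi'⟩ := (Nat.dvd_prime_pow (m := 4) Nat.prime_two).1 h2
    rw [hi'] at h1
    interval_cases i
    · exact Or.inr (efree U hi')
    all_goals try (norm_num at h1; done)
    exact Or.inl (efull U (by rw [hi', h16]; norm_num))
  interval_cases j
  all_goals simp only [Nat.reducePow, pow_zero, pow_one] at hWj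
  all_goals rw [hWj] at hW3 hcard
  all_goals try (norm_num at hW3; done)
  · -- the element is trivial
    exfalso
    have hd1 := g.faithful dEl hd fun v => by
      obtain ⟨a, ha, c, hc, rfl⟩ := hsum v trivial
      have hc : c ∈ W := hc
      rw [AddSubgroup.card_eq_one.1 hWj, AddSubgroup.mem_bot] at hc
      rw [hc, add_zero]
      exact ha.2
    exact absurd hd1 dEl_ne_one
  · right
    show Nat.card (g.Fix dEl) = 64
    omega
  · -- two summands of dimension four
    exfalso
    have hFc : Nat.card F = 16 := by omega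
    have hWe : ∀ u ∈ W, g.act e u = u := by
      rcases hej W (hiW σ hσ) hWj with h1 | h1
      · exact h1
      · exact (g.not_fifteen hd he (hde σ).symm d3 e5 hWj hdW (hiW σ hσ) hnW hWfree h1).elim
    rcases hej F (hiF σ hσ) hFc with h1 | h1
    · exact esum h1 hWe
    have hsing := g.singular_card hFc hnF
    -- the singular non-zero vectors
    set s : Set V := {v | v ∈ F ∧ v ≠ 0 ∧ g.q v = 0} with hsdef
    have hs : ∀ π : alternatingGroup (Fin 6), ∀ v ∈ s,
        g.act ((1, (π : Equiv.Perm _)) : P36) v ∈ s := fun π v hv => by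
      have hm := g.one_snd_mem π.2
      exact ⟨hiF _ π.2 v hv.1, fun h' => hv.2.1 (g.act_injective hm (h'.trans (g.act_zero hm).symm)),
        by rw [g.q_act _ hm]; exact hv.2.2⟩
    have hcs : Nat.card s + 1 = Nat.card {x : F // g.q x.1 = 0} := by
      have e1 : ({x : F // g.q x.1 = 0}) ≃ ↥(insert (0 : V) s) :=
        ⟨fun x => ⟨x.1.1, (em (x.1.1 = 0)).elim Or.inl fun h' => Or.inr ⟨x.1.2, h', x.2⟩⟩,
          fun y => ⟨⟨y.1, y.2.elim (fun h' => h'.symm ▸ F.zero_mem) fun h' => h'.1⟩,
            y.2.elim (fun h' => by rw [h']; exact g.q_zero) fun h' => h'.2.2⟩,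
          fun _ => rfl, fun _ => rfl⟩
      rw [Nat.card_congr e1, Nat.card_coe_set_eq, Nat.card_coe_set_eq,
        Set.ncard_insert_of_notMem (fun h' => h'.2.1 rfl) (Set.toFinite _)]
    set ρ := g.altPerm s hs
    -- fixed points of `e` on the singular vectors: none
    have hnofix : ∀ v ∈ s, g.act e v ≠ v := fun v hv h' => hv.2.1 (h1 v hv.1 h')
    have hfive : Nat.card s = 5 := by
      haveI : Fintype s := Fintype.ofFinite _
      let f : Function.End s := fun x => ⟨g.act e x.1, hs ⟨σ, hσ⟩ x.1 x.2⟩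
      have hf : ∀ (k : ℕ) (x : s), ((f ^ k : Function.End s) x).1 = g.act (e ^ k) x.1 := by
        intro k
        induction k with
        | zero => intro x; rw [pow_zero, pow_zero, g.act_one]; rfl
        | succ k ih =>
          intro x
          rw [pow_succ, pow_succ, g.act_mul _ (R.pow_mem he k) _ he]
          exact ih (f x)
      have hf1 : f ^ 5 ^ 1 = 1 := by
        funext x
        apply Subtype.ext
        rw [hf, pow_one, e5, g.act_one]
        rfl
      have h2 := Equiv.Perm.card_fixedPoints_modEq hf1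
      have h3 : Fintype.card (Function.fixedPoints f) = 0 :=
        Fintype.card_eq_zero_iff.2 ⟨fun x => hnofix x.1.1 x.1.2 (congrArg Subtype.val x.2)⟩
      rw [h3, ← Nat.card_eq_fintype_card] at h2
      unfold Nat.ModEq at h2
      omega
    have hker : ρ.ker = ⊤ := by
      rcases (MonoidHom.normal_ker ρ).eq_bot_or_eq_top with h' | h'
      · have := Nat.card_le_card_of_injective _ ((MonoidHom.ker_eq_bot_iff ρ).1 h')
        rw [Nat.card_perm, hfive, nat_card_alternatingGroup] at this
        norm_num [Nat.factorial] at this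
      · exact h'
    obtain ⟨v, hv⟩ : s.Nonempty := by
      rw [← Set.ncard_pos (Set.toFinite _), ← Nat.card_coe_set_eq, hfive]; norm_num
    have := (MonoidHom.mem_ker (f := ρ)).1 (hker ▸ Subgroup.mem_top (⟨σ, hσ⟩ : alternatingGroup (Fin 6)))
    exact hnofix v hv (congrArg Subtype.val (Equiv.congr_fun this ⟨v, hv⟩))
  · -- a fixed line
    exfalso
    have hFe : ∀ u ∈ F, g.act e u = u := by
      obtain ⟨h1, h2⟩ := efix F (hiF σ hσ)
      have hFc : Nat.card F = 4 := by omega
      rw [hFc] at h1 h2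
      refine efull F ?_
      rw [hFc]
      have := Nat.le_of_dvd (by norm_num) h2
      omega
    obtain ⟨h1, h2⟩ := efix W (hiW σ hσ)
    obtain ⟨hle, hfree, -, hc, -⟩ := g.split he (m := 2) e5 (hiW σ hσ)
    rw [hWj] at h1 h2 hc
    obtain ⟨i, hi, hi'⟩ := (Nat.dvd_prime_pow (m := 6) Nat.prime_two).1 h2
    rw [hi'] at h1 hc
    interval_cases i
    all_goals try (norm_num at h1; done)
    · have hX : Nat.card (W.map (g.comHom he)) = 16 := by simp only [pow_zero, pow_one, Nat.reducePow] at hc; omega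
      exact g.not_fifteen hd he (hde σ).symm d3 e5 hX
        (g.inv_parts he hd (hde σ).symm hdW).2 (g.inv_parts he he rfl (hiW σ hσ)).2
        (g.ndeg_parts he (m := 2) e5 (hiW σ hσ) hnW).2
        (fun u hu => hWfree u (hle hu)) hfree
    · exact esum hFe (efull W (by rw [hi', hWj]; norm_num))
  · left
    intro v hv
    have hFc : Nat.card F = 1 := by omega
    have := AddSubgroup.card_eq_one.1 hFc
    rw [hF'] at this
    exact (AddSubgroup.eq_bot_iff_forall _).1 this v hv

end CfsgLib.NoSixCent
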