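import Cfsg.Agent.Lib.NoSixCent.Interface
import Cfsg.Agent.Lib.Involutions.ZStar.Main

/-!
The group side of the weakly closed case: the data of the conjugates of `z` in `C \ Q`.
-/

set_option autoImplicit false
set_option linter.unusedSectionVars false
set_option maxHeartbeats 1000000

namespace CfsgLib.NoSixCent

open CfsgLib.ThreeTransp

universe u

namespace Weak

section pure

variable {V : Type u} [AddCommGroup V] {R : Subgroup P36} (g : Geo V R)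

theorem zm : ∀ a : ZMod 2, a = 0 ∨ a = 1 := by decide

theorem b_eq (v w : V) : g.b v w = g.q (v + w) + g.q v + g.q w := by
  have h := g.q_add v w
  revert h
  generalize g.q (v + w) = A, g.q v = B, g.q w = C, g.b v w = D
  revert A B C D
  decide

theorem b_act {h : P36} (hh : h ∈ R) (v w : V) : g.b (g.act h v) (g.act h w) = g.b v w := by
  rw [b_eq, b_eq, ← g.act_add h hh, g.q_act h hh, g.q_act h hh, g.q_act h hh]

theorem act_zero {h : P36} (hh : h ∈ R) : g.act h 0 = 0 := by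
  have := g.act_add h hh 0 0
  rw [add_zero] at this
  simpa using this

theorem neg_eq (g : Geo V R) (v : V) : -v = v := neg_eq_of_add_eq_zero_left (g.two v)

theorem add_eq_zero (g : Geo V R) {v w : V} : v + w = 0 ↔ v = w := by
  rw [add_eq_zero_iff_eq_neg, neg_eq g]

/-- `v ↦ [v, h]` -/
def delta {h : P36} (hh : h ∈ R) : V →+ V where
  toFun v := g.act h v + v
  map_zero' := by rw [act_zero g hh, add_zero]
  map_add' v w := by rw [g.act_add h hh]; abel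

theorem delta_range {h : P36} (hh : h ∈ R) : ((delta g hh).range : Set V) = g.Com h := by
  ext w; rfl

theorem delta_ker {h : P36} (hh : h ∈ R) : ((delta g hh).ker : Set V) = g.Fix h := by
  ext v
  show g.act h v + v = 0 ↔ g.act h v = v
  exact add_eq_zero g

theorem card_com_fix {h : P36} (hh : h ∈ R) :
    Nat.card (g.Com h) * Nat.card (g.Fix h) = 256 := by
  rw [← delta_range g hh, ← delta_ker g hh, ← g.card,
    ← AddSubgroup.card_mul_index (delta g hh).ker, AddSubgroup.index_ker]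
  exact mul_comm _ _

theorem com_fix {h : P36} (hh : h ∈ R) (h2 : h * h = 1) {w : V} (hw : w ∈ g.Com h) :
    g.act h w = w := by
  obtain ⟨v, rfl⟩ := hw
  rw [g.act_add h hh, ← g.act_mul h hh h hh, h2, g.act_one]
  abel

theorem com_iso {h : P36} (hh : h ∈ R) (h2 : h * h = 1) {w₁ w₂ : V} (h₁ : w₁ ∈ g.Com h)
    (h₂ : w₂ ∈ g.Com h) : g.b w₁ w₂ = 0 := by
  obtain ⟨v₁, rfl⟩ := h₁
  obtain ⟨v₂, rfl⟩ := h₂
  have hb : ∀ u v w, g.b u (v + w) = g.b u v + g.b u w := fun u v w => by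
    rw [g.b_symm u, g.b_add, g.b_symm v u, g.b_symm w u]
  have e1 : g.b (g.act h v₁) v₂ = g.b v₁ (g.act h v₂) := by
    have := b_act g hh v₁ (g.act h v₂)
    rwa [← g.act_mul h hh h hh, h2, g.act_one] at this
  rw [g.b_add, hb, hb, b_act g hh, e1]
  rcases zm (g.b v₁ v₂) with h0 | h0 <;> rcases zm (g.b v₁ (g.act h v₂)) with h3 | h3 <;>
    rw [h0, h3] <;> decide

end pure

variable {G : Type u} [Group G] [Finite G] {z : G} {Q : Subgroup G} {φ : ↥(Cz z) →* P36}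
  {V : Type u} [AddCommGroup V] {g : Geo V φ.range} {π : ↥Q → V}

theorem mem_Cz {a y : G} : a ∈ Cz y ↔ a * y = y * a := Subgroup.mem_centralizer_singleton_iff

/-- `π` extended by zero -/
noncomputable def pv (π : ↥Q → V) (n : G) : V := by
  classical exact if h : n ∈ Q then π ⟨n, h⟩ else 0

theorem pv_mk {n : G} (h : n ∈ Q) : pv π n = π ⟨n, h⟩ := by rw [pv, dif_pos h]

/-- `φ` extended by one -/
noncomputable def fz (φ : ↥(Cz z) →* P36) (m : G) : P36 := by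
  classical exact if h : m ∈ Cz z then φ ⟨m, h⟩ else 1

theorem fz_mk {m : G} (h : m ∈ Cz z) : fz φ m = φ ⟨m, h⟩ := by rw [fz, dif_pos h]

theorem fz_range (φ : ↥(Cz z) →* P36) (m : G) : fz φ m ∈ φ.range := by
  by_cases h : m ∈ Cz z
  · rw [fz_mk h]; exact ⟨_, rfl⟩
  · rw [fz, dif_neg h]; exact one_mem _

theorem fz_mul {m n : G} (hm : m ∈ Cz z) (hn : n ∈ Cz z) :
    fz φ (m * n) = fz φ m * fz φ n := by
  rw [fz_mk hm, fz_mk hn, fz_mk (mul_mem hm hn), ← map_mul]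
  rfl

theorem fz_one : fz φ (1 : G) = 1 := by
  rw [fz_mk (one_mem _)]
  exact map_one φ

/-- a conjugate of `Q` -/
abbrev Qc (Q : Subgroup G) (a : G) : Subgroup G := Q.map (MulAut.conj a).toMonoidHom

theorem mem_Qc {a y : G} : y ∈ Qc Q a ↔ a⁻¹ * y * a ∈ Q := by
  rw [Subgroup.mem_map_equiv, MulAut.conj_symm_apply]

/-- `C_Q(x)` for `x = a z a⁻¹` -/
def Pp (Q : Subgroup G) (z a : G) : Subgroup G := Q ⊓ Cz (a * z * a⁻¹)

/-- `C_{Q_x}(z)` for `x = a z a⁻¹` -/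
def Pp' (Q : Subgroup G) (z a : G) : Subgroup G := Qc Q a ⊓ Cz z

/-- `Q ∩ Q_x` for `x = a z a⁻¹` -/
def Dd (Q : Subgroup G) (a : G) : Subgroup G := Q ⊓ Qc Q a

theorem mem_Pp' {a y : G} : y ∈ Pp' Q z a ↔ a⁻¹ * y * a ∈ Pp Q z a⁻¹ := by
  have hc : y ∈ Cz z ↔ a⁻¹ * y * a ∈ Cz (a⁻¹ * z * a⁻¹⁻¹) := by
    rw [mem_Cz, mem_Cz, inv_inv]
    constructor
    · intro h
      calc a⁻¹ * y * a * (a⁻¹ * z * a) = a⁻¹ * (y * z) * a := by group
        _ = a⁻¹ * (z * y) * a := by rw [h]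
        _ = _ := by group
    · intro h
      calc y * z = a * (a⁻¹ * y * a * (a⁻¹ * z * a)) * a⁻¹ := by group
        _ = a * (a⁻¹ * z * a * (a⁻¹ * y * a)) * a⁻¹ := by rw [h]
        _ = _ := by group
  simp only [Pp', Pp, Subgroup.mem_inf, mem_Qc, hc]

theorem mem_Dd {a y : G} : y ∈ Dd Q a ↔ a⁻¹ * y * a ∈ Dd Q a⁻¹ := by
  simp only [Dd, Subgroup.mem_inf, mem_Qc, inv_inv]
  rw [show a * (a⁻¹ * y * a) * a⁻¹ = y by group]
  exact and_comm

theorem map_Pp' (Q : Subgroup G) (z a : G) :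
    (Pp Q z a⁻¹).map (MulAut.conj a).toMonoidHom = Pp' Q z a := by
  ext y
  rw [Subgroup.mem_map_equiv, MulAut.conj_symm_apply]
  exact mem_Pp'.symm

theorem map_Dd (Q : Subgroup G) (a : G) :
    (Dd Q a⁻¹).map (MulAut.conj a).toMonoidHom = Dd Q a := by
  ext y
  rw [Subgroup.mem_map_equiv, MulAut.conj_symm_apply]
  exact mem_Dd.symm

/-- commutator -/
def cm (x n : G) : G := x * n * x⁻¹ * n⁻¹

/-- the hypotheses -/
structure Ctx (z : G) (Q : Subgroup G) (φ : ↥(Cz z) →* P36) (g : Geo V φ.range) (π : ↥Q → V) :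
    Prop where
  hS : Setting z Q φ
  hL : Link z Q φ g π
  hw : ∀ a : G, a * z * a⁻¹ ∈ Q → a * z * a⁻¹ = z

/-- `a z a⁻¹` commutes with `z` and differs from it -/
structure Good (z a : G) : Prop where
  comm : a * z * a⁻¹ * z = z * (a * z * a⁻¹)
  ne : a * z * a⁻¹ ≠ z

theorem Good.inv {a : G} (h : Good z a) : Good z a⁻¹ := by
  refine ⟨?_, fun e => h.ne ?_⟩
  · calc a⁻¹ * z * a⁻¹⁻¹ * z = a⁻¹ * (z * (a * z * a⁻¹)) * a := by group
      _ = a⁻¹ * (a * z * a⁻¹ * z) * a := by rw [h.comm]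
      _ = _ := by group
  · calc a * z * a⁻¹ = a * (a⁻¹ * z * a⁻¹⁻¹) * a⁻¹ := by rw [e]
      _ = z := by group

namespace Ctx

variable (C : Ctx z Q φ g π)
include C

theorem zQ : z ∈ Q := C.hS.hX.mem

theorem zz : z * z = 1 := C.hS.hX.inv

theorem zinv : z⁻¹ = z := inv_eq_of_mul_eq_one_right C.zz

theorem Q_le {n : G} (hn : n ∈ Q) : n ∈ Cz z := mem_Cz.2 (C.hS.hX.comm n hn)

theorem pv_mul {n m : G} (hn : n ∈ Q) (hm : m ∈ Q) : pv π (n * m) = pv π n + pv π m := by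
  rw [pv_mk hn, pv_mk hm, pv_mk (mul_mem hn hm), ← C.hL.map_mul]
  rfl

theorem pv_one : pv π (1 : G) = 0 := by
  have h := C.pv_mul (one_mem Q) (one_mem Q)
  rw [one_mul] at h
  exact left_eq_add.1 h

theorem pv_inv {n : G} (hn : n ∈ Q) : pv π n⁻¹ = pv π n := by
  have h := C.pv_mul (inv_mem hn) hn
  rw [inv_mul_cancel, C.pv_one] at h
  exact (add_eq_zero g).1 h.symm

theorem pv_eq {n m : G} (hn : n ∈ Q) (hm : m ∈ Q) : pv π n = pv π m ↔ n = m ∨ n = z * m := by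
  rw [pv_mk hn, pv_mk hm]
  exact C.hL.eq_iff _ _

theorem pv_z : pv π z = 0 := by
  rw [← C.pv_one]
  exact (C.pv_eq C.zQ (one_mem Q)).2 (Or.inr (mul_one z).symm)

theorem pv_zmul {n : G} (hn : n ∈ Q) : pv π (z * n) = pv π n := by
  rw [C.pv_mul C.zQ hn, C.pv_z, zero_add]

theorem pv_zero_iff {n : G} (hn : n ∈ Q) : pv π n = 0 ↔ n = 1 ∨ n = z := by
  rw [← C.pv_one, C.pv_eq hn (one_mem Q), mul_one]

theorem pv_comm {n m : G} (hn : n ∈ Q) (hm : m ∈ Q) :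
    g.b (pv π n) (pv π m) = 0 ↔ n * m = m * n := by
  rw [pv_mk hn, pv_mk hm]
  exact C.hL.comm_iff _ _

theorem pv_sq {n : G} (hn : n ∈ Q) : g.q (pv π n) = 0 ↔ n * n = 1 := by
  rw [pv_mk hn]
  exact C.hL.sq_iff _

theorem pv_surj (v : V) : ∃ n ∈ Q, pv π n = v := by
  obtain ⟨n, rfl⟩ := C.hL.surj v
  exact ⟨n, n.2, pv_mk n.2⟩

theorem pv_act {m n : G} (hm : m ∈ Cz z) (hn : n ∈ Q) :
    g.act (fz φ m) (pv π n) = pv π (m * n * m⁻¹) := by
  have h' := C.hS.hX.norm m (mem_Cz.1 hm) n hn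
  rw [fz_mk hm, pv_mk hn, pv_mk h']
  exact C.hL.act_eq ⟨m, hm⟩ ⟨n, hn⟩ ⟨_, h'⟩ rfl

theorem fz_eq_one {m : G} (hm : m ∈ Cz z) : fz φ m = 1 ↔ m ∈ Q := by
  rw [fz_mk hm]
  exact C.hS.ker ⟨m, hm⟩

theorem zcomm {n : G} (hn : n ∈ Q) : z * n = n * z := (C.hS.hX.comm n hn).symm

/-- every element of `C` modulo `Q` -/
theorem fz_surj {h : P36} (hh : h ∈ φ.range) : ∃ m ∈ Cz z, fz φ m = h := by
  obtain ⟨m, rfl⟩ := hh
  exact ⟨m, m.2, fz_mk m.2⟩

/-- the image in `V` of a subgroup of `Q` -/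
noncomputable def img (S : Subgroup G) (hS : S ≤ Q) : AddSubgroup V where
  carrier := pv π '' (S : Set G)
  zero_mem' := ⟨1, one_mem S, C.pv_one⟩
  add_mem' := by
    rintro _ _ ⟨n, hn, rfl⟩ ⟨m, hm, rfl⟩
    exact ⟨n * m, mul_mem hn hm, C.pv_mul (hS hn) (hS hm)⟩
  neg_mem' := by
    rintro _ ⟨n, hn, rfl⟩
    exact ⟨n, hn, (neg_eq g _).symm⟩

theorem card_img_two {S : Subgroup G} (hS : S ≤ Q) (hz : z ∈ S) :
    Nat.card S = 2 * Nat.card (C.img S hS) := by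
  let ψ : S →* Multiplicative V :=
    MonoidHom.mk' (fun n => Multiplicative.ofAdd (pv π (n : G))) fun a b => by
      show Multiplicative.ofAdd (pv π ((a : G) * b)) = _
      rw [C.pv_mul (hS a.2) (hS b.2), ofAdd_add]
  have hker : ψ.ker.map S.subtype = Subgroup.zpowers z := by
    apply SetLike.ext'
    refine Set.Subset.antisymm ?_ ?_
    · rintro _ ⟨n, hn, rfl⟩
      have h0 : pv π (n : G) = 0 := Multiplicative.ofAdd.injective ((MonoidHom.mem_ker).1 hn)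
      rcases (C.pv_zero_iff (hS n.2)).1 h0 with h | h
      · show (n : G) ∈ Subgroup.zpowers z
        rw [h]; exact one_mem _
      · show (n : G) ∈ Subgroup.zpowers z
        rw [h]; exact Subgroup.mem_zpowers z
    · have : Subgroup.zpowers z ≤ ψ.ker.map S.subtype :=
        Subgroup.zpowers_le.2 ⟨⟨z, hz⟩, by
          show Multiplicative.ofAdd (pv π z) = 1
          rw [C.pv_z, ofAdd_zero], rfl⟩
      exact this
  have hk2 : Nat.card ψ.ker = 2 := by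
    have h := Subgroup.card_map_of_injective (K := ψ.ker) (f := S.subtype) (Subgroup.subtype_injective S)
    rw [hker, Nat.card_zpowers, orderOf_eq_prime (by rw [pow_two, C.zz]) C.hS.hX.ne_one] at h
    exact h.symm
  have hr : Nat.card ψ.range = Nat.card (C.img S hS) :=
    Nat.card_congr
      { toFun := fun v => ⟨Multiplicative.toAdd v.1, by
          obtain ⟨n, hn⟩ := v.2; exact ⟨n, n.2, by rw [← hn]; rfl⟩⟩
        invFun := fun v => ⟨Multiplicative.ofAdd v.1, by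
          obtain ⟨n, hn, e⟩ := v.2; exact ⟨⟨n, hn⟩, by rw [← e]; rfl⟩⟩
        left_inv := fun v => rfl
        right_inv := fun v => rfl }
  rw [← Subgroup.card_mul_index ψ.ker, hk2, Subgroup.index_ker, hr]

variable {a : G}

theorem x_inv (a : G) : (a * z * a⁻¹) * (a * z * a⁻¹) = 1 := by
  rw [conj_mul, C.zz, mul_one, mul_inv_cancel]

theorem hX' (a : G) : XCent (Qc Q a) (a * z * a⁻¹) := C.hS.hX.conj a

theorem x_mem (ha : Good z a) : a * z * a⁻¹ ∈ Cz z := mem_Cz.2 ha.comm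

theorem x_notin (ha : Good z a) : a * z * a⁻¹ ∉ Q := fun h => ha.ne (C.hw a h)

theorem z_notin (ha : Good z a) : z ∉ Qc Q a := fun h => by
  rw [mem_Qc] at h
  have := C.hw a⁻¹ (by rwa [inv_inv])
  exact ha.inv.ne this

/-- conjugates of `z` in `Q_x` equal `x` -/
theorem conj_in_Qc {b : G} (h : b * z * b⁻¹ ∈ Qc Q a) : b * z * b⁻¹ = a * z * a⁻¹ := by
  rw [mem_Qc] at h
  have e : a⁻¹ * (b * z * b⁻¹) * a = (a⁻¹ * b) * z * (a⁻¹ * b)⁻¹ := by group
  rw [e] at h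
  have := C.hw _ h
  rw [← e] at this
  calc b * z * b⁻¹ = a * (a⁻¹ * (b * z * b⁻¹) * a) * a⁻¹ := by group
    _ = _ := by rw [this]

theorem Pp_le (a : G) : Pp Q z a ≤ Q := inf_le_left

theorem Dd_le (a : G) : Dd Q a ≤ Q := inf_le_left

theorem Dd_le_Pp (a : G) : Dd Q a ≤ Pp Q z a := fun d hd =>
  ⟨hd.1, mem_Cz.2 ((C.hX' a).comm d hd.2)⟩

theorem Pp'_le (a : G) : Pp' Q z a ≤ Cz z := inf_le_right

theorem z_Pp (ha : Good z a) : z ∈ Pp Q z a := ⟨C.zQ, mem_Cz.2 ha.comm.symm⟩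

theorem x_Pp' (ha : Good z a) : a * z * a⁻¹ ∈ Pp' Q z a := ⟨(C.hX' a).mem, C.x_mem ha⟩

theorem Dd_sq (ha : Good z a) {d : G} (hd : d ∈ Dd Q a) : d * d = 1 := by
  rcases C.hS.hX.sq d hd.1 with h | h
  · exact h
  · exact absurd (h ▸ mul_mem hd.2 hd.2) (C.z_notin ha)

theorem Pp_Dd_comm (ha : Good z a) {p d : G} (hp : p ∈ Pp Q z a) (hd : d ∈ Dd Q a) :
    p * d = d * p := by
  rcases C.hS.hX.commEl p hp.1 d hd.1 with h | h
  · exact mul_inv_eq_iff_eq_mul.1 h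
  · exfalso
    have h' := (C.hX' a).norm p (mem_Cz.1 hp.2) d hd.2
    rw [h] at h'
    exact C.z_notin ha (by simpa using mul_mem h' (inv_mem hd.2))

theorem Pp'_Dd_comm (ha : Good z a) {k d : G} (hk : k ∈ Pp' Q z a) (hd : d ∈ Dd Q a) :
    k * d = d * k := by
  rcases (C.hX' a).commEl k hk.1 d hd.2 with h | h
  · exact mul_inv_eq_iff_eq_mul.1 h
  · exfalso
    have h' := C.hS.hX.norm k (mem_Cz.1 hk.2) d hd.1
    rw [h] at h'
    exact C.x_notin ha (by simpa using mul_mem h' (inv_mem hd.1))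

theorem pv_injOn (ha : Good z a) : Set.InjOn (pv π) (Dd Q a : Set G) := fun d hd d' hd' h => by
  rcases (C.pv_eq hd.1 hd'.1).1 h with e | e
  · exact e
  · exact absurd (show z ∈ Qc Q a by
      have := mul_mem (Subgroup.mem_inf.1 hd).2 (inv_mem (Subgroup.mem_inf.1 hd').2)
      rwa [e, mul_inv_cancel_right] at this) (C.z_notin ha)

theorem card_U (ha : Good z a) : Nat.card (C.img (Dd Q a) (C.Dd_le a)) = Nat.card (Dd Q a) := by
  rw [← SetLike.coe_sort_coe (C.img (Dd Q a) (C.Dd_le a)), Nat.card_coe_set_eq,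
    ← SetLike.coe_sort_coe (Dd Q a), Nat.card_coe_set_eq]
  exact Set.ncard_image_of_injOn (C.pv_injOn ha)

/-- the image of `C_{Q_x}(z)` in `C/Q` -/
def Kp (a : G) : Subgroup P36 := (φ.comp (Subgroup.inclusion (C.Pp'_le a))).range

theorem mem_Kp {k : P36} : k ∈ C.Kp a ↔ ∃ m ∈ Pp' Q z a, fz φ m = k :=
  ⟨fun ⟨m, e⟩ => ⟨m, m.2, (fz_mk (C.Pp'_le a m.2)).trans e⟩,
    fun ⟨m, hm, e⟩ => ⟨⟨m, hm⟩, (fz_mk (C.Pp'_le a hm)).symm.trans e⟩⟩

theorem card_K (a : G) : Nat.card (Pp' Q z a) = Nat.card (C.Kp a) * Nat.card (Dd Q a) := by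
  let f := φ.comp (Subgroup.inclusion (C.Pp'_le a))
  have hker : f.ker.map (Pp' Q z a).subtype = Dd Q a := by
    ext y
    constructor
    · rintro ⟨n, hn, rfl⟩
      exact ⟨(C.hS.ker _).1 ((MonoidHom.mem_ker).1 hn), n.2.1⟩
    · intro hy
      refine ⟨⟨y, hy.2, C.Q_le hy.1⟩, MonoidHom.mem_ker.2 ((C.hS.ker _).2 hy.1), rfl⟩
  have h := Subgroup.card_map_of_injective (K := f.ker) (f := (Pp' Q z a).subtype)
    (Subgroup.subtype_injective (Pp' Q z a))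
  rw [hker] at h
  rw [← Subgroup.card_mul_index f.ker, ← h, Subgroup.index_ker, mul_comm]
  rfl

theorem cm_mem {x : G} (hx : x ∈ Cz z) {n : G} (hn : n ∈ Q) : cm x n ∈ Q :=
  mul_mem (C.hS.hX.norm x (mem_Cz.1 hx) n hn) (inv_mem hn)

theorem pv_cm {x : G} (hx : x ∈ Cz z) {n : G} (hn : n ∈ Q) :
    pv π (cm x n) = g.act (fz φ x) (pv π n) + pv π n := by
  rw [cm, C.pv_mul (C.hS.hX.norm x (mem_Cz.1 hx) n hn) (inv_mem hn), C.pv_inv hn,
    C.pv_act hx hn]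

/-- `x · [x, n]` is the conjugate of `x` by `n` -/
theorem x_cm {x : G} (hx : x * x = 1) (n : G) : x * cm x n = n * x * n⁻¹ := by
  have hxi : x⁻¹ = x := inv_eq_of_mul_eq_one_right hx
  rw [cm, hxi]
  calc x * (x * n * x * n⁻¹) = (x * x) * n * x * n⁻¹ := by group
    _ = _ := by rw [hx, one_mul]

theorem cm_swap {x : G} (hx : x * x = 1) (n : G) : x * cm x n * x⁻¹ = (cm x n)⁻¹ := by
  rw [x_cm C hx]
  have hxi : x⁻¹ = x := inv_eq_of_mul_eq_one_right hx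
  simp only [cm, mul_inv_rev, inv_inv, hxi, mul_assoc]

theorem cm_mul {x n m : G} (hn : n ∈ Q) (hx : x ∈ Cz z) (hm : m ∈ Q) :
    cm x (n * m) = cm x n * (n * cm x m * n⁻¹) := by
  simp only [cm]
  group

/-- a commutator equal to an element of `D` is trivial -/
theorem cm_eq_Dd (ha : Good z a) {d n : G} (hd : d ∈ Dd Q a) (hn : n ∈ Q)
    (h : cm (a * z * a⁻¹) n = d) : d = 1 := by
  have e := x_cm C (C.x_inv a) n
  rw [h, show n * (a * z * a⁻¹) * n⁻¹ = (n * a) * z * (n * a)⁻¹ by group] at e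
  have := C.conj_in_Qc (a := a) (b := n * a) (e ▸ mul_mem (C.hX' a).mem hd.2)
  rw [← e] at this
  exact mul_eq_left.1 this

theorem fixed_iff {x : G} (hx : x ∈ Cz z) {n : G} (hn : n ∈ Q) :
    g.act (fz φ x) (pv π n) = pv π n ↔ cm x n = 1 ∨ cm x n = z := by
  rw [← C.pv_zero_iff (C.cm_mem hx hn), C.pv_cm hx hn, add_eq_zero g]

theorem cm_one_iff {x n : G} : cm x n = 1 ↔ x * n = n * x := by
  rw [cm, mul_inv_eq_one, mul_inv_eq_iff_eq_mul]

theorem px_sq (ha : Good z a) : fz φ (a * z * a⁻¹) * fz φ (a * z * a⁻¹) = 1 := by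
  rw [← fz_mul (C.x_mem ha) (C.x_mem ha), C.x_inv, fz_one]

/-- the data of `x = a z a⁻¹` -/
noncomputable def data (ha : Good z a) : WData g where
  px := fz φ (a * z * a⁻¹)
  C0 := C.img (Pp Q z a) (C.Pp_le a)
  U := C.img (Dd Q a) (C.Dd_le a)
  K := C.Kp a
  px_ne := fun h => C.x_notin ha ((C.fz_eq_one (C.x_mem ha)).1 h)
  px_sq := C.px_sq ha
  px_K := C.mem_Kp.2 ⟨_, C.x_Pp' ha, rfl⟩
  K_le := fun k hk => by
    obtain ⟨m, -, rfl⟩ := C.mem_Kp.1 hk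
    exact fz_range φ m
  K_two := by
    have h : IsPGroup 2 (Pp' Q z a) := (C.hS.hp.map _).to_le inf_le_left
    exact h.of_surjective _ (MonoidHom.rangeRestrict_surjective _)
  K_px := fun k hk => by
    obtain ⟨m, hm, rfl⟩ := C.mem_Kp.1 hk
    rw [← fz_mul hm.2 (C.x_mem ha), ← fz_mul (C.x_mem ha) hm.2, (C.hX' a).comm m hm.1]
  K_sq := fun k hk => by
    obtain ⟨m, hm, rfl⟩ := C.mem_Kp.1 hk
    rw [← fz_mul hm.2 hm.2]
    rcases (C.hX' a).sq m hm.1 with h | h <;> rw [h]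
    · exact Or.inl fz_one
    · exact Or.inr rfl
  K_comm := fun k hk l hl => by
    obtain ⟨m, hm, rfl⟩ := C.mem_Kp.1 hk
    obtain ⟨n, hn, rfl⟩ := C.mem_Kp.1 hl
    rw [← fz_mul hm.2 hn.2, ← fz_mul hn.2 hm.2, ← fz_mul (C.x_mem ha) (mul_mem hn.2 hm.2)]
    rcases (C.hX' a).commEl m hm.1 n hn.1 with h | h <;> rw [mul_inv_eq_iff_eq_mul] at h
    · exact Or.inl (by rw [h])
    · exact Or.inr (by rw [h, mul_assoc])
  C0_fix := by
    rintro _ ⟨n, hn, rfl⟩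
    refine (C.fixed_iff (C.x_mem ha) hn.1).2 (Or.inl ?_)
    exact C.cm_one_iff.2 (mem_Cz.1 hn.2).symm
  C0_index := fun v w hv hw hv0 hw0 => by
    obtain ⟨n, hn, rfl⟩ := C.pv_surj v
    obtain ⟨m, hm, rfl⟩ := C.pv_surj w
    have key : ∀ n ∈ Q, g.act (fz φ (a * z * a⁻¹)) (pv π n) = pv π n →
        pv π n ∉ C.img (Pp Q z a) (C.Pp_le a) → cm (a * z * a⁻¹) n = z := fun n hn hv hv0 =>
      ((C.fixed_iff (C.x_mem ha) hn).1 hv).resolve_left fun h =>
        hv0 ⟨n, ⟨hn, mem_Cz.2 (C.cm_one_iff.1 h).symm⟩, rfl⟩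
    refine ⟨n * m, ⟨mul_mem hn hm, mem_Cz.2 (C.cm_one_iff.1 ?_).symm⟩, C.pv_mul hn hm⟩
    rw [C.cm_mul hn (C.x_mem ha) hm, key n hn hv hv0, key m hm hw hw0, ← C.zcomm hn,
      mul_inv_cancel_right, C.zz]
  C0_com := by
    rintro _ ⟨v, rfl⟩
    obtain ⟨n, hn, rfl⟩ := C.pv_surj v
    rw [← C.pv_cm (C.x_mem ha) hn]
    have he := C.cm_mem (C.x_mem ha) hn
    rw [C.pv_sq he]
    have hsw := C.cm_swap (C.x_inv a) n
    constructor
    · rintro ⟨m, hm, e⟩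
      have hc : cm (a * z * a⁻¹) n ∈ Cz (a * z * a⁻¹) := by
        rcases (C.pv_eq hm.1 he).1 e with e' | e'
        · exact e' ▸ hm.2
        · have h' : z * (z * cm (a * z * a⁻¹) n) = cm (a * z * a⁻¹) n := by
            rw [← mul_assoc, C.zz, one_mul]
          rw [← h', ← e']
          exact mul_mem (C.z_Pp ha).2 hm.2
      rw [mem_Cz] at hc
      rw [← hc, mul_inv_cancel_right] at hsw
      exact eq_inv_iff_mul_eq_one.1 hsw
    · intro h
      refine ⟨_, ⟨he, mem_Cz.2 ?_⟩, rfl⟩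
      rw [eq_inv_of_mul_eq_one_left h] at hsw ⊢
      rw [inv_inv] at hsw
      have hxi : (a * z * a⁻¹)⁻¹ = a * z * a⁻¹ := inv_eq_of_mul_eq_one_right (C.x_inv a)
      have h2 : (cm (a * z * a⁻¹) n)⁻¹ = cm (a * z * a⁻¹) n := inv_eq_of_mul_eq_one_right h
      rw [h2] at hsw ⊢
      exact (mul_inv_eq_iff_eq_mul.1 hsw).symm
  U_C0 := by
    rintro _ ⟨d, hd, rfl⟩
    exact ⟨d, C.Dd_le_Pp a hd, rfl⟩
  U_q := by
    rintro _ ⟨d, hd, rfl⟩
    exact (C.pv_sq hd.1).2 (C.Dd_sq ha hd)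
  U_perp := by
    rintro _ ⟨d, hd, rfl⟩ _ ⟨p, hp, rfl⟩
    exact (C.pv_comm hd.1 hp.1).2 (C.Pp_Dd_comm ha hp hd).symm
  K_act := by
    intro k hk _ hc
    obtain ⟨m, hm, rfl⟩ := C.mem_Kp.1 hk
    obtain ⟨p, hp, rfl⟩ := hc
    refine ⟨cm m p, ⟨C.cm_mem hm.2 hp.1, ?_⟩, C.pv_cm hm.2 hp.1⟩
    rw [cm, show m * p * m⁻¹ * p⁻¹ = m * (p * m⁻¹ * p⁻¹) by group]
    exact mul_mem hm.1 ((C.hX' a).norm p (mem_Cz.1 hp.2) m⁻¹ (inv_mem hm.1))
  K_fix_U := by
    intro k hk _ hu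
    obtain ⟨m, hm, rfl⟩ := C.mem_Kp.1 hk
    obtain ⟨d, hd, rfl⟩ := hu
    rw [C.pv_act hm.2 hd.1, C.Pp'_Dd_comm ha hm hd, mul_inv_cancel_right]
  U_com := by
    rintro ⟨v, hv, hv0⟩ _ ⟨d, hd, rfl⟩ ⟨w, hw⟩
    obtain ⟨n, hn, rfl⟩ := C.pv_surj v
    obtain ⟨m, hm, rfl⟩ := C.pv_surj w
    have hnz : cm (a * z * a⁻¹) n = z :=
      ((C.fixed_iff (C.x_mem ha) hn).1 hv).resolve_left fun h =>
        hv0 ⟨n, ⟨hn, mem_Cz.2 (C.cm_one_iff.1 h).symm⟩, rfl⟩
    rw [← C.pv_cm (C.x_mem ha) hm, C.pv_eq (C.cm_mem (C.x_mem ha) hm) hd.1] at hw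
    suffices d = 1 by rw [this]; exact C.pv_one
    rcases hw with hw | hw
    · exact C.cm_eq_Dd ha hd hm hw
    · refine C.cm_eq_Dd ha hd (mul_mem hm hn) ?_
      rw [C.cm_mul hm (C.x_mem ha) hn, hnz, hw, ← C.zcomm hm, mul_inv_cancel_right, mul_assoc,
        ← C.zcomm hd.1, ← mul_assoc, C.zz, one_mul]
  U_beta := by
    intro w₁ hw₁ w₂ hw₂ h₁0 h₂0 hne hcom v hv
    obtain ⟨d₁, hd₁, rfl⟩ := hw₁
    obtain ⟨d₂, hd₂, rfl⟩ := hw₂
    obtain ⟨v₂, hv₂⟩ := hcom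
    obtain ⟨n, hn, rfl⟩ := C.pv_surj v
    obtain ⟨m, hm, rfl⟩ := C.pv_surj v₂
    have hlift : ∀ n d, n ∈ Q → d ∈ Dd Q a → pv π d ≠ 0 →
        g.act (fz φ (a * z * a⁻¹)) (pv π n) + pv π n = pv π d → cm (a * z * a⁻¹) n = z * d := by
      intro n d hn hd h0 h
      rw [← C.pv_cm (C.x_mem ha) hn, C.pv_eq (C.cm_mem (C.x_mem ha) hn) hd.1] at h
      refine h.resolve_left fun h' => h0 ?_
      rw [C.cm_eq_Dd ha hd hn h', C.pv_one]
    have e₁ := hlift n d₁ hn hd₁ h₁0 hv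
    have e₂ := hlift m d₂ hm hd₂ h₂0 hv₂
    refine (zm _).resolve_left fun hb => ?_
    rw [C.pv_comm hn hd₂.1] at hb
    have e := C.cm_mul hn (C.x_mem ha) hm
    rw [e₁, e₂] at e
    have e' : cm (a * z * a⁻¹) (n * m) = d₁ * d₂ := by
      rw [e]
      calc z * d₁ * (n * (z * d₂) * n⁻¹) = z * d₁ * ((n * z) * (d₂ * n⁻¹)) := by group
        _ = z * d₁ * ((z * n) * (d₂ * n⁻¹)) := by rw [C.zcomm hn]
        _ = z * (d₁ * z) * ((n * d₂) * n⁻¹) := by group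
        _ = z * (z * d₁) * ((d₂ * n) * n⁻¹) := by rw [hb, C.zcomm hd₁.1]
        _ = (z * z) * (d₁ * d₂) := by group
        _ = d₁ * d₂ := by rw [C.zz, one_mul]
    have h12 := C.cm_eq_Dd ha (mul_mem hd₁ hd₂) (mul_mem hn hm) e'
    refine hne ((add_eq_zero g).1 ?_)
    rw [← C.pv_mul hd₁.1 hd₂.1, h12, C.pv_one]
  U_cent := by
    intro h16 h hh hc _ hu
    obtain ⟨d, hd, rfl⟩ := hu
    have hx := C.x_mem ha
    have hpr := fz_range φ (a * z * a⁻¹)
    -- the fixed space is the commutator space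
    have hfix : ∀ q ∈ Q, g.act (fz φ (a * z * a⁻¹)) (pv π q) = pv π q →
        ∃ n ∈ Q, cm (a * z * a⁻¹) n = q ∨ cm (a * z * a⁻¹) n = z * q := by
      intro q hq hfq
      have hsub : g.Com (fz φ (a * z * a⁻¹)) ⊆ g.Fix (fz φ (a * z * a⁻¹)) := fun w hw =>
        com_fix g hpr (C.px_sq ha) hw
      have h256 := card_com_fix g hpr
      rw [h16] at h256
      have heq : g.Com (fz φ (a * z * a⁻¹)) = g.Fix (fz φ (a * z * a⁻¹)) := by
        haveI : Finite V := Nat.finite_of_card_ne_zero (by rw [g.card]; norm_num)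
        refine Set.eq_of_subset_of_ncard_le hsub ?_ (Set.toFinite _)
        rw [← Nat.card_coe_set_eq, ← Nat.card_coe_set_eq, h16]
        omega
      obtain ⟨v, hv⟩ : pv π q ∈ g.Com (fz φ (a * z * a⁻¹)) := heq.symm ▸ hfq
      obtain ⟨n, hn, rfl⟩ := C.pv_surj v
      rw [← C.pv_cm hx hn, C.pv_eq (C.cm_mem hx hn) hq] at hv
      exact ⟨n, hn, hv⟩
    rcases eq_or_ne d 1 with rfl | hd1
    · rw [C.pv_one, act_zero g hh]
      exact zero_mem _
    obtain ⟨m, hm, rfl⟩ := C.fz_surj hh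
    -- `m x m⁻¹` is conjugate to `x` under `Q`
    obtain ⟨q, hqdef⟩ : ∃ q, (a * z * a⁻¹)⁻¹ * (m * (a * z * a⁻¹) * m⁻¹) = q := ⟨_, rfl⟩
    have hy : m * (a * z * a⁻¹) * m⁻¹ ∈ Cz z := mul_mem (mul_mem hm hx) (inv_mem hm)
    have hxy : m * (a * z * a⁻¹) * m⁻¹ = a * z * a⁻¹ * q := by rw [← hqdef]; group
    have hq : q ∈ Q := by
      have hqC : q ∈ Cz z := hqdef ▸ mul_mem (inv_mem hx) hy
      refine (C.fz_eq_one hqC).1 ?_
      have e := congrArg (fz φ) hxy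
      rw [fz_mul hx hqC, fz_mul (mul_mem hm hx) (inv_mem hm), fz_mul hm hx, hc, mul_assoc,
        ← fz_mul hm (inv_mem hm), mul_inv_cancel, fz_one, mul_one] at e
      exact left_eq_mul.1 e
    have hfq : g.act (fz φ (a * z * a⁻¹)) (pv π q) = pv π q := by
      have hyy : (a * z * a⁻¹ * q) * (a * z * a⁻¹ * q) = 1 := by
        rw [← hxy, conj_mul, C.x_inv, mul_one, mul_inv_cancel]
      rw [C.pv_act hx hq, inv_eq_of_mul_eq_one_right (C.x_inv a)]
      have : a * z * a⁻¹ * q * (a * z * a⁻¹) = q⁻¹ :=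
        eq_inv_of_mul_eq_one_left (by rw [mul_assoc, hyy])
      rw [this, C.pv_inv hq]
    obtain ⟨n, hn, hcn | hcn⟩ := hfix q hq hfq
    · have hconj : n * (a * z * a⁻¹) * n⁻¹ = m * (a * z * a⁻¹) * m⁻¹ := by
        rw [hxy, ← hcn, C.x_cm (C.x_inv a)]
      have hfix' : (n⁻¹ * m) * (a * z * a⁻¹) = (a * z * a⁻¹) * (n⁻¹ * m) := by
        calc n⁻¹ * m * (a * z * a⁻¹) = n⁻¹ * (m * (a * z * a⁻¹) * m⁻¹) * m := by group
          _ = n⁻¹ * (n * (a * z * a⁻¹) * n⁻¹) * m := by rw [hconj]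
          _ = _ := by group
      have hnm : n⁻¹ * m ∈ Cz z := mul_mem (inv_mem (C.Q_le hn)) hm
      have he : g.act (fz φ m) (pv π d) = pv π ((n⁻¹ * m) * d * (n⁻¹ * m)⁻¹) := by
        rw [← C.pv_act hnm hd.1, fz_mul (inv_mem (C.Q_le hn)) hm,
          (C.fz_eq_one (inv_mem (C.Q_le hn))).2 (inv_mem hn), one_mul]
      rw [he]
      exact ⟨_, ⟨C.hS.hX.norm _ (mem_Cz.1 hnm) d hd.1, (C.hX' a).norm _ hfix' d hd.2⟩, rfl⟩
    · -- then every element of `x Q` with image in the fixed space is conjugate to `z`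
      exfalso
      have hxz : ∃ b : G, b * z * b⁻¹ = a * z * a⁻¹ * z := by
        refine ⟨n⁻¹ * m * a, ?_⟩
        calc n⁻¹ * m * a * z * (n⁻¹ * m * a)⁻¹ = n⁻¹ * (m * (a * z * a⁻¹) * m⁻¹) * n := by group
          _ = n⁻¹ * (a * z * a⁻¹ * (z * cm (a * z * a⁻¹) n)) * n := by
              rw [hxy, hcn, ← mul_assoc z z q, C.zz, one_mul]
          _ = n⁻¹ * ((a * z * a⁻¹) * cm (a * z * a⁻¹) n) * z * n := by
              rw [C.zcomm (C.cm_mem hx hn)]; group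
          _ = n⁻¹ * ((a * z * a⁻¹) * cm (a * z * a⁻¹) n) * (z * n) := by group
          _ = n⁻¹ * (n * (a * z * a⁻¹) * n⁻¹) * (n * z) := by
              rw [C.x_cm (C.x_inv a), C.zcomm hn]
          _ = _ := by group
      obtain ⟨b, hb⟩ := hxz
      have hfd : g.act (fz φ (a * z * a⁻¹)) (pv π d) = pv π d :=
        (C.fixed_iff hx hd.1).2 (Or.inl (C.cm_one_iff.2 ((C.hX' a).comm d hd.2).symm))
      obtain ⟨n₁, hn₁, hc₁ | hc₁⟩ := hfix d hd.1 hfd
      · exact hd1 (C.cm_eq_Dd ha hd hn₁ hc₁)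
      · have hcon : (n₁ * b) * z * (n₁ * b)⁻¹ = a * z * a⁻¹ * d := by
          calc n₁ * b * z * (n₁ * b)⁻¹ = n₁ * (b * z * b⁻¹) * n₁⁻¹ := by group
            _ = n₁ * (a * z * a⁻¹ * z) * n₁⁻¹ := by rw [hb]
            _ = n₁ * (a * z * a⁻¹) * (z * n₁⁻¹) := by group
            _ = n₁ * (a * z * a⁻¹) * (n₁⁻¹ * z) := by rw [C.zcomm (inv_mem hn₁)]
            _ = (n₁ * (a * z * a⁻¹) * n₁⁻¹) * z := by group
            _ = a * z * a⁻¹ * (z * d) * z := by rw [← C.x_cm (C.x_inv a), hc₁]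
            _ = a * z * a⁻¹ * (z * (d * z)) := by group
            _ = a * z * a⁻¹ * d := by rw [← C.zcomm hd.1, ← mul_assoc z z d, C.zz, one_mul]
        have := C.conj_in_Qc (a := a) (b := n₁ * b) (hcon ▸ mul_mem (C.hX' a).mem hd.2)
        rw [hcon] at this
        exact hd1 (mul_eq_left.1 this)

theorem card_C0 (ha : Good z a) : Nat.card (Pp Q z a) = 2 * Nat.card (C.data ha).C0 :=
  C.card_img_two (C.Pp_le a) (C.z_Pp ha)

theorem card_P (a : G) : Nat.card (Pp' Q z a) = Nat.card (Pp Q z a⁻¹) := by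
  rw [← map_Pp' Q z a]
  exact Subgroup.card_map_of_injective (MulAut.conj a).injective

theorem card_D (a : G) : Nat.card (Dd Q a) = Nat.card (Dd Q a⁻¹) := by
  rw [← map_Dd Q a]
  exact Subgroup.card_map_of_injective (MulAut.conj a).injective

theorem pair (ha : Good z a) : WPair (C.data ha) (C.data ha.inv) where
  cardU := by
    show Nat.card (C.img (Dd Q a) (C.Dd_le a)) = Nat.card (C.img (Dd Q a⁻¹) (C.Dd_le a⁻¹))
    rw [C.card_U ha, C.card_U ha.inv, card_D C a]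
  cardK := by
    show Nat.card (C.Kp a) * Nat.card (C.img (Dd Q a) (C.Dd_le a)) = _
    rw [C.card_U ha, ← C.card_K, card_P C, C.card_C0 ha.inv]
  cardK' := by
    show Nat.card (C.Kp a⁻¹) * Nat.card (C.img (Dd Q a) (C.Dd_le a)) = _
    rw [C.card_U ha, card_D C a, ← C.card_K, card_P C, inv_inv, C.card_C0 ha]
  elem := fun h k hk => by
    obtain ⟨m, hm, rfl⟩ := C.mem_Kp.1 hk
    have hp := mem_Pp'.1 hm
    have h0 : g.q (pv π (a⁻¹ * m * a)) = 0 := h _ ⟨_, hp, rfl⟩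
    rw [C.pv_sq hp.1] at h0
    rw [← fz_mul hm.2 hm.2, show m * m = a * (a⁻¹ * m * a * (a⁻¹ * m * a)) * a⁻¹ by group, h0,
      mul_one, mul_inv_cancel, fz_one]
  elemAb := fun h k hk l hl => by
    have hel : ∀ k ∈ (C.data ha).K, k * k = 1 := fun k hk => by
      obtain ⟨m, hm, rfl⟩ := C.mem_Kp.1 hk
      have hp := mem_Pp'.1 hm
      have h0 : g.q (pv π (a⁻¹ * m * a)) = 0 := h _ ⟨_, hp, rfl⟩
      rw [C.pv_sq hp.1] at h0
      rw [← fz_mul hm.2 hm.2, show m * m = a * (a⁻¹ * m * a * (a⁻¹ * m * a)) * a⁻¹ by group, h0,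
        mul_one, mul_inv_cancel, fz_one]
    have e := hel _ (mul_mem hk hl)
    have ek := inv_eq_of_mul_eq_one_right (hel k hk)
    have el := inv_eq_of_mul_eq_one_right (hel l hl)
    calc k * l = (k * l)⁻¹ := (inv_eq_of_mul_eq_one_right e).symm
      _ = l * k := by rw [mul_inv_rev, ek, el]

/-- the sign of the first component of an element of the centraliser of `a z a⁻¹`, read in the
conjugate -/
noncomputable def sg (φ : ↥(Cz z) →* P36) (a y : G) : ℤˣ :=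
  Equiv.Perm.sign (fz φ (a⁻¹ * y * a)).1

theorem com_small (hall : ∀ b : G, Good z b → Inv3 (fz φ (b * z * b⁻¹))) (ha : Good z a) :
    Nat.card (g.Com (fz φ (a * z * a⁻¹))) ≤ 4 := by
  classical
  haveI : Finite V := Nat.finite_of_card_ne_zero (by rw [g.card]; norm_num)
  have hx := C.x_mem ha
  have hmem : ∀ y : G, y ∈ Cz (a * z * a⁻¹) → a⁻¹ * y * a ∈ Cz z := by
    intro y hy
    rw [mem_Cz] at hy ⊢
    calc a⁻¹ * y * a * z = a⁻¹ * (y * (a * z * a⁻¹)) * a := by group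
      _ = a⁻¹ * (a * z * a⁻¹ * y) * a := by rw [hy]
      _ = _ := by group
  have hzC : z ∈ Cz (a * z * a⁻¹) := (C.z_Pp ha).2
  have hxC : a * z * a⁻¹ ∈ Cz (a * z * a⁻¹) := mem_Cz.2 rfl
  have hsg : ∀ y w, y ∈ Cz (a * z * a⁻¹) → w ∈ Cz (a * z * a⁻¹) →
      sg φ a (y * w) = sg φ a y * sg φ a w := by
    intro y w hy hw
    show Equiv.Perm.sign (fz φ (a⁻¹ * (y * w) * a)).1 = _
    rw [show a⁻¹ * (y * w) * a = (a⁻¹ * y * a) * (a⁻¹ * w * a) by group,
      fz_mul (hmem y hy) (hmem w hw), Prod.fst_mul, map_mul]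
    rfl
  have hsz : sg φ a z = -1 := by
    have h := hall a⁻¹ ha.inv
    rw [inv_inv] at h
    exact h
  have hsx : sg φ a (a * z * a⁻¹) = 1 := by
    show Equiv.Perm.sign (fz φ (a⁻¹ * (a * z * a⁻¹) * a)).1 = 1
    rw [show a⁻¹ * (a * z * a⁻¹) * a = z by group, (C.fz_eq_one (C.Q_le C.zQ)).2 C.zQ]
    exact map_one _
  -- a non-trivial commutator centralised by `x`
  have hcomm : ∀ n ∈ Q, cm (a * z * a⁻¹) n * cm (a * z * a⁻¹) n = 1 →
      cm (a * z * a⁻¹) n ∈ Cz (a * z * a⁻¹) ∧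
      (cm (a * z * a⁻¹) n ≠ 1 → sg φ a (cm (a * z * a⁻¹) n) = -1) := by
    intro n hn hsq
    have hsw := C.cm_swap (C.x_inv a) n
    rw [inv_eq_of_mul_eq_one_right hsq] at hsw
    have hcC : cm (a * z * a⁻¹) n ∈ Cz (a * z * a⁻¹) :=
      mem_Cz.2 (mul_inv_eq_iff_eq_mul.1 hsw).symm
    refine ⟨hcC, fun h1 => ?_⟩
    have hy : a * z * a⁻¹ * cm (a * z * a⁻¹) n = n * (a * z * a⁻¹) * n⁻¹ :=
      C.x_cm (C.x_inv a) n
    have hyC : a * z * a⁻¹ * cm (a * z * a⁻¹) n ∈ Cz (a * z * a⁻¹) := mul_mem hxC hcC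
    have hgood : Good z (a⁻¹ * n * a) := by
      have e : a⁻¹ * n * a * z * (a⁻¹ * n * a)⁻¹ =
          a⁻¹ * (a * z * a⁻¹ * cm (a * z * a⁻¹) n) * a := by rw [hy]; group
      refine ⟨?_, fun e1 => h1 ?_⟩
      · rw [e]
        exact mem_Cz.1 (hmem _ hyC)
      · rw [e] at e1
        have e2 := congrArg (fun t => a * t * a⁻¹) e1
        rw [show a * (a⁻¹ * (a * z * a⁻¹ * cm (a * z * a⁻¹) n) * a) * a⁻¹ =
          a * z * a⁻¹ * cm (a * z * a⁻¹) n by group] at e2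
        exact mul_eq_left.1 e2
    have h := hall _ hgood
    rw [show a⁻¹ * n * a * z * (a⁻¹ * n * a)⁻¹ =
      a⁻¹ * (a * z * a⁻¹ * cm (a * z * a⁻¹) n) * a by rw [hy]; group] at h
    have h' : sg φ a (a * z * a⁻¹ * cm (a * z * a⁻¹) n) = -1 := h
    rwa [hsg _ _ hxC hcC, hsx, one_mul] at h'
  have hpr := fz_range φ (a * z * a⁻¹)
  have hrange : ((delta g hpr).range : Set V) = g.Com (fz φ (a * z * a⁻¹)) := delta_range g hpr
  have hcard : Nat.card (g.Com (fz φ (a * z * a⁻¹))) = Nat.card (delta g hpr).range := by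
    rw [← hrange]; rfl
  rw [hcard]
  by_cases hz' : ∃ n₀ ∈ Q, cm (a * z * a⁻¹) n₀ = z
  · obtain ⟨n₀, hn₀, hz₀⟩ := hz'
    -- no singular non-zero commutator
    have hns : ∀ w ∈ (delta g hpr).range, g.q w = 0 → w = 0 := by
      rintro _ ⟨v, rfl⟩ hw
      obtain ⟨n, hn, rfl⟩ := C.pv_surj v
      change g.q (g.act _ (pv π n) + pv π n) = 0 at hw
      show g.act _ (pv π n) + pv π n = 0
      rw [← C.pv_cm hx hn] at hw ⊢
      rw [C.pv_sq (C.cm_mem hx hn)] at hw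
      obtain ⟨hcC, hc1⟩ := hcomm n hn hw
      by_contra h0
      rw [C.pv_zero_iff (C.cm_mem hx hn), not_or] at h0
      have e : cm (a * z * a⁻¹) (n * n₀) = z * cm (a * z * a⁻¹) n := by
        rw [C.cm_mul hn hx hn₀, hz₀, ← C.zcomm hn, mul_inv_cancel_right,
          C.zcomm (C.cm_mem hx hn)]
      have hsq : cm (a * z * a⁻¹) (n * n₀) * cm (a * z * a⁻¹) (n * n₀) = 1 := by
        rw [e]
        calc z * cm (a * z * a⁻¹) n * (z * cm (a * z * a⁻¹) n)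
            = z * (cm (a * z * a⁻¹) n * z) * cm (a * z * a⁻¹) n := by group
          _ = z * (z * cm (a * z * a⁻¹) n) * cm (a * z * a⁻¹) n := by
              rw [C.zcomm (C.cm_mem hx hn)]
          _ = (z * z) * (cm (a * z * a⁻¹) n * cm (a * z * a⁻¹) n) := by group
          _ = 1 := by rw [C.zz, hw, one_mul]
      have h2 := (hcomm _ (mul_mem hn hn₀) hsq).2
      rw [e, hsg _ _ hzC hcC, hsz, hc1 h0.1] at h2
      have hne : z * cm (a * z * a⁻¹) n ≠ 1 := fun h => h0.2 (by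
        rw [← inv_eq_of_mul_eq_one_right h, C.zinv])
      exact absurd (h2 hne) (by decide)
    -- so at most one non-zero commutator
    refine le_trans ?_ (show 2 ≤ 4 by norm_num)
    by_contra hlt
    haveI : Nonempty (delta g hpr).range := ⟨0⟩
    obtain ⟨w₁, hw₁, hw₁0⟩ : ∃ w ∈ (delta g hpr).range, w ≠ 0 := by
      by_contra! hall0
      haveI : Subsingleton (delta g hpr).range :=
        ⟨fun u v => Subtype.ext ((hall0 u u.2).trans (hall0 v v.2).symm)⟩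
      rw [Nat.card_of_subsingleton 0] at hlt
      omega
    obtain ⟨w₂, hw₂, hw₂0, hne⟩ : ∃ w ∈ (delta g hpr).range, w ≠ 0 ∧ w ≠ w₁ := by
      by_contra! hall0
      refine hlt ?_
      have hsub : ((delta g hpr).range : Set V) ⊆ {0, w₁} := fun w hw => by
        rcases eq_or_ne w 0 with h | h
        exacts [Or.inl h, Or.inr (hall0 w hw h)]
      have h1 := Set.ncard_le_ncard hsub (Set.toFinite _)
      have h2 : ({0, w₁} : Set V).ncard ≤ 2 := (Set.ncard_insert_le _ _).trans (by simp)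
      rw [← Nat.card_coe_set_eq] at h1
      exact le_trans h1 h2
    have hq1 : ∀ w ∈ (delta g hpr).range, w ≠ 0 → g.q w = 1 := fun w hw h =>
      (zm _).resolve_left fun h' => h (hns w hw h')
    have hb : g.b w₁ w₂ = 0 := com_iso g hpr (C.px_sq ha)
      (hrange ▸ hw₁) (hrange ▸ hw₂)
    have h12 : w₁ + w₂ ≠ 0 := fun h => hne ((add_eq_zero g).1 h).symm
    have := g.q_add w₁ w₂
    rw [hq1 _ (add_mem hw₁ hw₂) h12, hq1 _ hw₁ hw₁0, hq1 _ hw₂ hw₂0, hb] at this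
    exact absurd this (by decide)
  · push Not at hz'
    have hsq : ∀ n ∈ Q, cm (a * z * a⁻¹) n * cm (a * z * a⁻¹) n = 1 := by
      intro n hn
      have hw : g.act (fz φ (a * z * a⁻¹)) (pv π (cm (a * z * a⁻¹) n)) =
          pv π (cm (a * z * a⁻¹) n) := by
        rw [C.pv_cm hx hn]
        exact com_fix g hpr (C.px_sq ha) ⟨_, rfl⟩
      rcases (C.fixed_iff hx (C.cm_mem hx hn)).1 hw with h | h
      · have hsw := C.cm_swap (C.x_inv a) n
        rw [mul_inv_eq_iff_eq_mul.2 (C.cm_one_iff.1 h)] at hsw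
        exact eq_inv_iff_mul_eq_one.1 hsw
      · exact absurd h (hz' _ (C.cm_mem hx hn))
    have hneg : ∀ n ∈ Q, pv π (cm (a * z * a⁻¹) n) ≠ 0 →
        cm (a * z * a⁻¹) n ∈ Cz (a * z * a⁻¹) ∧ sg φ a (cm (a * z * a⁻¹) n) = -1 := by
      intro n hn h0
      rw [ne_eq, C.pv_zero_iff (C.cm_mem hx hn), not_or] at h0
      exact ⟨(hcomm n hn (hsq n hn)).1, (hcomm n hn (hsq n hn)).2 h0.1⟩
    have hb1 : ∀ v₁ v₂, delta g hpr v₁ ≠ 0 → delta g hpr v₂ ≠ 0 →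
        delta g hpr v₁ ≠ delta g hpr v₂ → g.b v₁ (delta g hpr v₂) = 1 := by
      intro v₁ v₂ h1 h2 h12
      obtain ⟨n, hn, rfl⟩ := C.pv_surj v₁
      obtain ⟨m, hm, rfl⟩ := C.pv_surj v₂
      have d1 : delta g hpr (pv π n) = pv π (cm (a * z * a⁻¹) n) := (C.pv_cm hx hn).symm
      have d2 : delta g hpr (pv π m) = pv π (cm (a * z * a⁻¹) m) := (C.pv_cm hx hm).symm
      rw [d2]
      refine (zm _).resolve_left fun hb => ?_
      rw [C.pv_comm hn (C.cm_mem hx hm)] at hb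
      have e : cm (a * z * a⁻¹) (n * m) = cm (a * z * a⁻¹) n * cm (a * z * a⁻¹) m := by
        rw [C.cm_mul hn hx hm, hb, mul_inv_cancel_right]
      obtain ⟨c1, s1⟩ := hneg n hn (d1 ▸ h1)
      obtain ⟨c2, s2⟩ := hneg m hm (d2 ▸ h2)
      have h3 : pv π (cm (a * z * a⁻¹) (n * m)) ≠ 0 := by
        rw [e, C.pv_mul (C.cm_mem hx hn) (C.cm_mem hx hm), ← d1, ← d2]
        exact fun h => h12 ((add_eq_zero g).1 h)
      have s3 := (hneg _ (mul_mem hn hm) h3).2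
      rw [e, hsg _ _ c1 c2, s1, s2] at s3
      exact absurd s3 (by decide)
    by_contra hlt
    have hbig : 4 < ((delta g hpr).range : Set V).ncard := by
      rw [← Nat.card_coe_set_eq]; exact Nat.lt_of_not_le hlt
    obtain ⟨w₁, hw₁, hw₁0⟩ := Set.exists_mem_notMem_of_ncard_lt_ncard
      (show ({0} : Set V).ncard < ((delta g hpr).range : Set V).ncard by
        rw [Set.ncard_singleton]; omega)
    obtain ⟨w₂, hw₂, hw₂0⟩ := Set.exists_mem_notMem_of_ncard_lt_ncard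
      (show ({0, w₁} : Set V).ncard < ((delta g hpr).range : Set V).ncard from
        lt_of_le_of_lt ((Set.ncard_insert_le _ _).trans (by rw [Set.ncard_singleton])) (by omega))
    obtain ⟨w₃, hw₃, hw₃0⟩ := Set.exists_mem_notMem_of_ncard_lt_ncard
      (show ({0, w₁, w₂, w₁ + w₂} : Set V).ncard < ((delta g hpr).range : Set V).ncard from
        lt_of_le_of_lt ((Set.ncard_insert_le _ _).trans (Nat.succ_le_succ
          ((Set.ncard_insert_le _ _).trans (Nat.succ_le_succ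
            ((Set.ncard_insert_le _ _).trans (by rw [Set.ncard_singleton])))))) hbig)
    simp only [Set.mem_singleton_iff, Set.mem_insert_iff, not_or] at hw₁0 hw₂0 hw₃0
    obtain ⟨v₁, rfl⟩ := hw₁
    obtain ⟨v₂, rfl⟩ := hw₂
    obtain ⟨v₃, rfl⟩ := hw₃
    have e2 := hb1 v₁ v₂ hw₁0 hw₂0.1 (fun h => hw₂0.2 h.symm)
    have e3 := hb1 v₁ v₃ hw₁0 hw₃0.1 (fun h => hw₃0.2.1 h.symm)
    have e23 := hb1 v₁ (v₂ + v₃) hw₁0 (fun h => by
        rw [map_add] at h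
        exact hw₃0.2.2.1 ((add_eq_zero g).1 h).symm)
      (fun h => by
        rw [map_add] at h
        refine hw₃0.2.2.2 ?_
        rw [h, add_comm, ← add_assoc, g.two, zero_add])
    rw [map_add, g.b_symm, g.b_add, g.b_symm _ v₁, g.b_symm _ v₁, e2, e3] at e23
    exact absurd e23 (by decide)

end Ctx

theorem exists_good {z : G} (hz : z * z = 1) (hz1 : z ≠ 1) (hsimple : IsSimpleGroup G)
    (hnab : ∃ a b : G, a * b ≠ b * a) : ∃ a : G, Good z a := by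
  by_contra hno
  haveI : Fact (Nat.Prime 2) := ⟨Nat.prime_two⟩
  have hiso : Cfsg.IsIsolatedInvolution z := ⟨orderOf_eq_prime (by rw [pow_two, hz]) hz1,
    fun a ha => by_contra fun hne => hno ⟨a, ha.eq.symm, hne⟩⟩
  obtain ⟨a, b, hab⟩ := hnab
  haveI := hsimple
  have hnc : Subgroup.center G ≠ ⊤ := fun e =>
    hab (Subgroup.mem_center_iff.1 (e ▸ Subgroup.mem_top b) a)
  have hO : Cfsg.oddCore G = ⊥ :=
    ((Cfsg.pPrimeCore_normal 2 G : (Cfsg.oddCore G).Normal).eq_bot_or_eq_top).resolve_right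
      fun e => by
        have ho := CfsgLib.Base.odd_card_oddCore G
        rw [show Cfsg.oddCore G = ⊤ from e, Subgroup.card_top] at ho
        have h2 : 2 ∣ Nat.card G := orderOf_eq_prime (by rw [pow_two, hz]) hz1 ▸
          orderOf_dvd_natCard z
        exact Nat.not_odd_iff_even.2 (even_iff_two_dvd.2 h2) ho
  have hc := CfsgLib.Involutions.ZStar.mem_center_of_oddCore_eq_bot hiso hO
  rw [((inferInstance : (Subgroup.center G).Normal).eq_bot_or_eq_top).resolve_right hnc,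
    Subgroup.mem_bot] at hc
  exact hz1 hc

end Weak

/-- Group side, weakly closed case. -/
theorem weak_data : StmtWeakData.{u} := by
  intro G _ _ z Q φ V _ g π hS hsimple hL hw
  have C : Weak.Ctx z Q φ g π := ⟨hS, hL, hw⟩
  obtain ⟨a, ha⟩ := Weak.exists_good hS.hX.inv hS.hX.ne_one hsimple (by
    by_contra! hall
    have hQz : ∀ q ∈ Q, q = 1 ∨ q = z := fun q hq =>
      hS.hX.center q hq fun r _ => hall r q
    have hsub : (Q : Set G) ⊆ {1, z} := fun q hq => hQz q hq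
    have h1 := Set.ncard_le_ncard hsub (Set.toFinite _)
    have h2 : ({1, z} : Set G).ncard ≤ 2 := (Set.ncard_insert_le _ _).trans (by simp)
    rw [← Nat.card_coe_set_eq, SetLike.coe_sort_coe, hS.card] at h1
    omega)
  refine ⟨{d | ∃ a, ∃ ha : Weak.Good z a, d = C.data ha}, ⟨_, a, ha, rfl⟩, ?_, ?_⟩
  · rintro _ ⟨b, hb, rfl⟩
    exact ⟨_, ⟨b⁻¹, hb.inv, rfl⟩, C.pair hb⟩
  · rintro hall _ ⟨b, hb, rfl⟩
    exact C.com_small (fun c hc => hall (C.data hc) ⟨c, hc, rfl⟩) hb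

end CfsgLib.NoSixCent
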