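import Cfsg.Agent.Lib.NoSixCent.Main
import Cfsg.Agent.Lib.NoSixCent.Types
import Cfsg.Agent.Lib.NoSixCent.WeakData
import Cfsg.Agent.Lib.NoSixCent.NoWeak
import Cfsg.Agent.Lib.NoSixCent.Facts
import Cfsg.Agent.Lib.NoSixCent.FusedII
import Cfsg.Agent.Lib.NoSixCent.FusedT
import Cfsg.Agent.Lib.NoSixCent.FusedGroup

/-!
All pieces of the proof that there is no such simple group.
-/

set_option autoImplicit false

namespace CfsgLib.NoSixCent

universe u

theorem pieces : Pieces.{u} where
  types := types
  weakData := weak_data
  noWeak := no_weak p36Facts types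
  fusedData := fused_data
  noFusedII := no_fusedII
  noFusedT := no_fusedT p36Facts

end CfsgLib.NoSixCent
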