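import Cfsg.Agent.Lib.NoSixCent.Interface

/-!
Elementary facts about `Geo`: the action by isometries, fixed and commutator spaces of involutions,
perpendicular subgroups.
-/

set_option autoImplicit false
set_option linter.style.haveILetI false

namespace CfsgLib.NoSixCent

universe u

theorem zmod2_cases : ∀ c : ZMod 2, c = 0 ∨ c = 1 := by decide

theorem zmod2_add_self : ∀ c : ZMod 2, c + c = 0 := by decide

theorem zmod2_eq_of_add_eq_zero : ∀ a c : ZMod 2, a + c = 0 → a = c := by decide

theorem zmod2_one_ne_zero : (1 : ZMod 2) ≠ 0 := by decide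

theorem dEl_cube : dEl * dEl * dEl = 1 := by decide

theorem dEl_ne_one : dEl ≠ 1 := by decide

theorem not_inv3_iff {h : P36} : ¬ Inv3 h ↔ Equiv.Perm.sign h.1 = 1 := by
  unfold Inv3
  rcases Int.units_eq_one_or (Equiv.Perm.sign h.1) with e | e <;> simp [e]

theorem inv3_dEl {h : P36} (hh : Inv3 h) : h * dEl = dEl⁻¹ * h := by
  obtain ⟨p, q⟩ := h
  have key : ∀ p : Equiv.Perm (Fin 3), Equiv.Perm.sign p = -1 →
      p * finRotate 3 = (finRotate 3)⁻¹ * p := by decide
  ext1
  · exact key p hh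
  · simp [dEl]

theorem comm_dEl {h : P36} (hh : ¬ Inv3 h) : h * dEl = dEl * h := by
  obtain ⟨p, q⟩ := h
  have key : ∀ p : Equiv.Perm (Fin 3), Equiv.Perm.sign p = 1 →
      p * finRotate 3 = finRotate 3 * p := by decide
  ext1
  · exact key p (not_inv3_iff.1 hh)
  · simp [dEl]

/-- An element of 2-power order which does not invert `dEl` has trivial first component. -/
theorem fst_eq_one {h : P36} (hh : ¬ Inv3 h) {n : ℕ} (hn : h ^ 2 ^ n = 1) : h.1 = 1 := by
  have key : ∀ p : Equiv.Perm (Fin 3), Equiv.Perm.sign p = 1 → p * p * p = 1 := by decide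
  have h3 : h.1 ^ 3 = 1 := by
    rw [pow_succ, pow_two]; exact key h.1 (not_inv3_iff.1 hh)
  have h2 : h.1 ^ 2 ^ n = 1 := by simpa using congrArg Prod.fst hn
  have h4 := Nat.dvd_gcd (orderOf_dvd_of_pow_eq_one h3) (orderOf_dvd_of_pow_eq_one h2)
  have h5 : Nat.Coprime 3 (2 ^ n) := Nat.Coprime.pow_right n (by decide)
  rwa [h5.gcd_eq_one, Nat.dvd_one, orderOf_eq_one_iff] at h4

theorem fst_eq_one_of_sq {h : P36} (hh : ¬ Inv3 h) (h2 : h * h = 1) : h.1 = 1 :=
  fst_eq_one (n := 1) hh (by rw [pow_one, pow_two, h2])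

theorem inv3_mul {h k : P36} (hh : Inv3 h) : Inv3 (h * k) ↔ ¬ Inv3 k := by
  rw [not_inv3_iff]
  unfold Inv3 at hh ⊢
  rw [Prod.fst_mul, map_mul, hh]
  rcases Int.units_eq_one_or (Equiv.Perm.sign k.1) with e | e <;> simp [e]

namespace Geo

variable {V : Type u} [AddCommGroup V] {R : Subgroup P36} (g : Geo V R)
include g

theorem finiteV : Finite V := Nat.finite_of_card_ne_zero (by rw [g.card]; decide)

theorem dEl_mem : dEl ∈ R := g.big _ _ (by decide) (by simp)

theorem one_snd_mem {π : Equiv.Perm (Fin 6)} (h : Equiv.Perm.sign π = 1) : ((1, π) : P36) ∈ R :=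
  g.big _ _ (by simp) h

theorem eq_top {h : P36} (hR : h ∈ R) (h1 : ¬ Inv3 h) (h2 : Equiv.Perm.sign h.2 = -1) :
    R = ⊤ := by
  rw [not_inv3_iff] at h1
  have hodd : ∀ q, Equiv.Perm.sign q = -1 → ∀ p, Equiv.Perm.sign p = 1 → ((p, q) : P36) ∈ R := by
    intro q hq p hp
    have h3 := R.mul_mem hR (g.big (h.1⁻¹ * p) (h.2⁻¹ * q) (by simp [h1, hp]) (by simp [h2, hq]))
    rwa [show h * ((h.1⁻¹ * p, h.2⁻¹ * q) : P36) = (p, q) from Prod.ext (mul_inv_cancel_left _ _)
      (mul_inv_cancel_left _ _)] at h3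
  have hall : ∀ p, Equiv.Perm.sign p = 1 → ∀ q, ((p, q) : P36) ∈ R := fun p hp q => by
    rcases Int.units_eq_one_or (Equiv.Perm.sign q) with e | e
    exacts [g.big p q hp e, hodd q e p hp]
  obtain ⟨s, hs, hsi⟩ := g.odd
  unfold Inv3 at hsi
  rw [eq_top_iff]
  rintro ⟨p, q⟩ -
  rcases Int.units_eq_one_or (Equiv.Perm.sign p) with e | e
  · exact hall p e q
  · have h3 := R.mul_mem hs (hall (s.1⁻¹ * p) (by simp [hsi, e]) (s.2⁻¹ * q))
    rwa [show s * ((s.1⁻¹ * p, s.2⁻¹ * q) : P36) = (p, q) from Prod.ext (mul_inv_cancel_left _ _)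
      (mul_inv_cancel_left _ _)] at h3

/-- In a proper `R` an element not inverting `dEl` has even second component. -/
theorem sign_snd_of_ne_top (hR : R ≠ ⊤) {h : P36} (hh : h ∈ R) (h1 : ¬ Inv3 h) :
    Equiv.Perm.sign h.2 = 1 := by
  rcases Int.units_eq_one_or (Equiv.Perm.sign h.2) with e | e
  exacts [e, absurd (g.eq_top hh h1 e) hR]

theorem neg_eq (v : V) : -v = v := neg_eq_of_add_eq_zero_left (g.two v)

theorem add_eq_zero_iff {v w : V} : v + w = 0 ↔ v = w :=
  ⟨fun h => (eq_neg_of_add_eq_zero_left h).trans (g.neg_eq w), fun h => h ▸ g.two w⟩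

theorem add_add_cancel (v w : V) : v + w + w = v := by rw [add_assoc, g.two, add_zero]

theorem act_zero {h : P36} (hh : h ∈ R) : g.act h 0 = 0 := by
  have := g.act_add h hh 0 0
  rwa [zero_add, left_eq_add] at this

theorem act_inv_left {h : P36} (hh : h ∈ R) (v : V) : g.act h⁻¹ (g.act h v) = v := by
  rw [← g.act_mul _ (R.inv_mem hh) _ hh, inv_mul_cancel, g.act_one]

theorem act_inv_right {h : P36} (hh : h ∈ R) (v : V) : g.act h (g.act h⁻¹ v) = v := by
  rw [← g.act_mul _ hh _ (R.inv_mem hh), mul_inv_cancel, g.act_one]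

theorem act_injective {h : P36} (hh : h ∈ R) : Function.Injective (g.act h) := fun v w e => by
  rw [← g.act_inv_left hh v, e, g.act_inv_left hh]

theorem act_comm {h k : P36} (hh : h ∈ R) (hk : k ∈ R) (e : h * k = k * h) (v : V) :
    g.act h (g.act k v) = g.act k (g.act h v) := by
  rw [← g.act_mul _ hh _ hk, e, g.act_mul _ hk _ hh]

/-- The action as an additive homomorphism. -/
def actHom {h : P36} (hh : h ∈ R) : V →+ V where
  toFun := g.act h
  map_zero' := g.act_zero hh
  map_add' := g.act_add h hh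

theorem b_zero (v : V) : g.b 0 v = 0 := by
  have := g.b_add 0 0 v
  rwa [add_zero, left_eq_add] at this

theorem b_zero_right (v : V) : g.b v 0 = 0 := by rw [g.b_symm, g.b_zero]

theorem b_self (v : V) : g.b v v = 0 := by
  have := g.q_add v v
  rwa [g.two, g.q_zero, zmod2_add_self, zero_add, eq_comm] at this

theorem b_add_right (u v w : V) : g.b u (v + w) = g.b u v + g.b u w := by
  rw [g.b_symm, g.b_add, g.b_symm v u, g.b_symm w u]

theorem b_act {h : P36} (hh : h ∈ R) (v w : V) : g.b (g.act h v) (g.act h w) = g.b v w := by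
  have h1 := g.q_add (g.act h v) (g.act h w)
  rw [← g.act_add h hh, g.q_act h hh, g.q_act h hh, g.q_act h hh, g.q_add] at h1
  exact (add_left_cancel h1).symm

theorem b_act_left {h : P36} (hh : h ∈ R) (v w : V) : g.b (g.act h v) w = g.b v (g.act h⁻¹ w) := by
  conv_lhs => rw [← g.act_inv_right hh w, g.b_act hh]

/-- The perpendicular subgroup. -/
def perp (S : Set V) : AddSubgroup V where
  carrier := {v | ∀ s ∈ S, g.b v s = 0}
  zero_mem' := fun s _ => g.b_zero s
  add_mem' := fun hv hw s hs => by rw [g.b_add, hv s hs, hw s hs, add_zero]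
  neg_mem' := fun {v} hv => by rw [g.neg_eq v]; exact hv

theorem mem_perp {S : Set V} {v : V} : v ∈ g.perp S ↔ ∀ s ∈ S, g.b v s = 0 := Iff.rfl

theorem le_perp_comm {S T : AddSubgroup V} (h : T ≤ g.perp (S : Set V)) :
    S ≤ g.perp (T : Set V) := fun s hs t ht => by rw [g.b_symm]; exact h ht s hs

/-- The cardinality formula for perpendicular subgroups. -/
theorem card_mul_card_perp (S : AddSubgroup V) :
    Nat.card S * Nat.card (g.perp (S : Set V)) = 256 := by
  haveI := g.finiteV
  letI : Module (ZMod 2) V :=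
    AddCommGroup.zmodModule (fun v => by rw [two_nsmul]; exact g.two v)
  haveI : Fact (Nat.Prime 2) := ⟨Nat.prime_two⟩
  haveI : Module.Finite (ZMod 2) V := Module.Finite.of_finite
  let S' : Submodule (ZMod 2) V := AddSubgroup.toZModSubmodule 2 S
  have hs : ∀ (c : ZMod 2) (v w : V), g.b (c • v) w = c • g.b v w := fun c v w => by
    rcases zmod2_cases c with rfl | rfl
    · rw [zero_smul, zero_smul, g.b_zero]
    · rw [one_smul, one_smul]
  let B : LinearMap.BilinForm (ZMod 2) V := LinearMap.mk₂ (ZMod 2) g.b g.b_add hs g.b_add_right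
    (fun c v w => by rw [g.b_symm, hs, g.b_symm w v])
  have hB : B.Nondegenerate := ⟨fun v hv => g.nondeg v hv,
    fun v hv => g.nondeg v fun w => by rw [g.b_symm]; exact hv w⟩
  have hrefl : B.IsRefl := fun v w h => by
    show g.b w v = 0
    rw [g.b_symm]; exact h
  have h1 := LinearMap.BilinForm.finrank_orthogonal hB S'
  have h2 := S'.finrank_le
  have e : ((B.orthogonal S' : Submodule (ZMod 2) V) : Set V) = (g.perp (S : Set V) : Set V) := by
    ext v
    constructor
    · intro hv s hs'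
      rw [g.b_symm]; exact hv s hs'
    · intro hv s hs'
      show g.b s v = 0
      rw [g.b_symm]; exact hv s hs'
  have e' : Nat.card (g.perp (S : Set V)) = Nat.card (B.orthogonal S' : Submodule (ZMod 2) V) := by
    show Nat.card ((g.perp (S : Set V) : Set V)) = _
    rw [← e]; rfl
  have hV : Nat.card V = 2 ^ Module.finrank (ZMod 2) V := by
    rw [Module.natCard_eq_pow_finrank (K := ZMod 2), Nat.card_zmod]
  rw [e', Module.natCard_eq_pow_finrank (K := ZMod 2) (V := (B.orthogonal S' : Submodule (ZMod 2) V)),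
    show Nat.card S = Nat.card S' from rfl,
    Module.natCard_eq_pow_finrank (K := ZMod 2) (V := S'), Nat.card_zmod, ← pow_add, h1,
    Nat.add_sub_cancel' h2, ← hV, g.card]

theorem perp_perp (S : AddSubgroup V) : g.perp (g.perp (S : Set V) : Set V) = S := by
  haveI := g.finiteV
  refine (AddSubgroup.eq_of_le_of_card_ge (g.le_perp_comm le_rfl) ?_).symm
  have h1 := g.card_mul_card_perp S
  have h2 := g.card_mul_card_perp (g.perp (S : Set V))
  have hpos : 0 < Nat.card (g.perp (S : Set V)) := Nat.card_pos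
  refine le_of_eq (Nat.eq_of_mul_eq_mul_left hpos ?_)
  rw [h2, mul_comm, h1]

/-- Fixed vectors as a subgroup. -/
def fixSub {h : P36} (hh : h ∈ R) : AddSubgroup V where
  carrier := g.Fix h
  zero_mem' := g.act_zero hh
  add_mem' := fun {v w} (hv : g.act h v = v) (hw : g.act h w = w) => by
    show g.act h (v + w) = v + w
    rw [g.act_add h hh, hv, hw]
  neg_mem' := fun {v} hv => by rw [g.neg_eq v]; exact hv

/-- The map `v ↦ act h v + v`. -/
def comHom {h : P36} (hh : h ∈ R) : V →+ V := g.actHom hh + AddMonoidHom.id V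

theorem comHom_apply {h : P36} (hh : h ∈ R) (v : V) : g.comHom hh v = g.act h v + v := rfl

/-- The commutator space as a subgroup. -/
def comSub {h : P36} (hh : h ∈ R) : AddSubgroup V := (g.comHom hh).range

theorem coe_comSub {h : P36} (hh : h ∈ R) : (g.comSub hh : Set V) = g.Com h := rfl

theorem coe_fixSub {h : P36} (hh : h ∈ R) : (g.fixSub hh : Set V) = g.Fix h := rfl

theorem ker_comHom {h : P36} (hh : h ∈ R) : (g.comHom hh).ker = g.fixSub hh := by
  ext v
  rw [AddMonoidHom.mem_ker, comHom_apply, g.add_eq_zero_iff]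
  rfl

theorem card_com_mul_fix {h : P36} (hh : h ∈ R) :
    Nat.card (g.comSub hh) * Nat.card (g.fixSub hh) = 256 := by
  haveI := g.finiteV
  rw [← g.card, ← g.ker_comHom hh, mul_comm,
    AddSubgroup.card_eq_card_quotient_mul_card_addSubgroup (g.comHom hh).ker, mul_comm]
  congr 1
  exact (Nat.card_congr (QuotientAddGroup.quotientKerEquivRange (g.comHom hh)).toEquiv).symm

theorem com_le_fix {h : P36} (hh : h ∈ R) (h2 : h * h = 1) : g.comSub hh ≤ g.fixSub hh := by
  rintro _ ⟨v, rfl⟩
  show g.act h (g.act h v + v) = g.act h v + v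
  rw [g.act_add h hh, ← g.act_mul h hh h hh, h2, g.act_one, add_comm]

theorem fix_eq_com_perp {h : P36} (hh : h ∈ R) (_h2 : h * h = 1) :
    g.fixSub hh = g.perp (g.comSub hh : Set V) := by
  haveI := g.finiteV
  refine AddSubgroup.eq_of_le_of_card_ge ?_ (le_of_eq ?_)
  · rintro v (hv : g.act h v = v) _ ⟨w, rfl⟩
    rw [comHom_apply, g.b_add_right]
    conv_lhs => arg 1; rw [← hv]
    rw [g.b_act hh, zmod2_add_self]
  · refine Nat.eq_of_mul_eq_mul_left (n := Nat.card (g.comSub hh)) Nat.card_pos ?_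
    rw [g.card_mul_card_perp, g.card_com_mul_fix hh]

/-- On the commutator space of an involution `q` is additive. -/
theorem q_add_com {h : P36} (hh : h ∈ R) (h2 : h * h = 1) {v w : V} (hv : v ∈ g.comSub hh)
    (hw : w ∈ g.comSub hh) : g.q (v + w) = g.q v + g.q w := by
  have h3 : g.b v w = 0 := by
    have := g.com_le_fix hh h2 hv
    rw [g.fix_eq_com_perp hh h2] at this
    exact this w hw
  rw [g.q_add, h3, add_zero]

/-- An element commuting with `h` preserves its commutator and fixed spaces. -/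
theorem act_com {h k : P36} (hh : h ∈ R) (hk : k ∈ R) (e : k * h = h * k) {w : V}
    (hw : w ∈ g.Com h) : g.act k w ∈ g.Com h := by
  obtain ⟨v, rfl⟩ := hw
  exact ⟨g.act k v, by rw [g.act_add k hk, g.act_comm hk hh e]⟩

theorem act_fix {h k : P36} (hh : h ∈ R) (hk : k ∈ R) (e : k * h = h * k) {w : V}
    (hw : w ∈ g.Fix h) : g.act k w ∈ g.Fix h := by
  show g.act h (g.act k w) = g.act k w
  rw [g.act_comm hh hk e.symm, show g.act h w = w from hw]

end Geo

end CfsgLib.NoSixCent
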