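import Cfsg.Agent.Lib.NoSixCent.Basic

/-!
`Q / ⟨z⟩` as an orthogonal space with the action of `C / Q`.
-/

set_option autoImplicit false
set_option linter.style.haveILetI false

namespace CfsgLib.NoSixCent

open CfsgLib.ThreeTransp

universe u

section

variable {G : Type u} [Group G] {z : G} {Q : Subgroup G}

private noncomputable def zp (z : G) (c : ZMod 2) : G := if c = 0 then 1 else z

private theorem zp_add (hz : z * z = 1) (a c : ZMod 2) : zp z (a + c) = zp z a * zp z c := by
  rcases zmod2_cases a with rfl | rfl <;> rcases zmod2_cases c with rfl | rfl <;>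
    simp [zp, hz, zmod2_add_self]

private theorem zp_inj (hz : z ≠ 1) {a c : ZMod 2} (h : zp z a = zp z c) : a = c := by
  rcases zmod2_cases a with rfl | rfl <;> rcases zmod2_cases c with rfl | rfl <;>
    first
    | rfl
    | exact absurd (by simpa [zp] using h) hz
    | exact absurd (by simpa [zp] using h.symm) hz

theorem exists_geo {φ : ↥(Cz z) →* P36} (S : Setting z Q φ) :
    ∃ (V : Type u) (_ : AddCommGroup V) (g : Geo V φ.range) (π : ↥Q → V), Link z Q φ g π := by
  classical
  obtain ⟨X, -, hQcard, hker, hbig, hodd⟩ := S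
  set Z : Subgroup Q := (Subgroup.zpowers z).subgroupOf Q with hZdef
  have hzz := X.inv
  have memZ : ∀ a : Q, a ∈ Z ↔ ((a : G) = 1 ∨ (a : G) = z) := by
    intro a
    rw [hZdef, Subgroup.mem_subgroupOf]
    constructor
    · intro h
      obtain ⟨n, hn⟩ := Subgroup.mem_zpowers_iff.1 h
      rw [← hn]
      rcases Int.even_or_odd n with ⟨i, rfl⟩ | ⟨i, rfl⟩
      · left; rw [← two_mul, zpow_mul, zpow_two, hzz, one_zpow]
      · right; rw [zpow_add, zpow_mul, zpow_two, hzz, one_zpow, one_mul, zpow_one]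
    · rintro (h | h) <;> rw [h]
      exacts [one_mem _, Subgroup.mem_zpowers z]
  have hzc : ∀ a ∈ Q, z * a = a * z := fun a ha => (X.comm a ha).symm
  haveI hN : Z.Normal := ⟨fun a ha g => by
    rcases (memZ a).1 ha with h | h
    · rw [show a = 1 from Subtype.ext h, mul_one, mul_inv_cancel]; exact one_mem _
    · rw [memZ]
      right
      push_cast
      rw [h, X.comm g g.2, mul_inv_cancel_right]⟩
  let mk : Q → Q ⧸ Z := fun a => (a : Q ⧸ Z)
  have mk_eq : ∀ a b : Q, mk a = mk b ↔ ((a : G) = b ∨ (a : G) = z * b) := by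
    intro a b
    show ((a : Q ⧸ Z) = (b : Q ⧸ Z)) ↔ _
    rw [QuotientGroup.eq, memZ]
    push_cast
    constructor
    · rintro (h | h)
      · left; exact inv_mul_eq_one.1 h
      · right
        rw [inv_mul_eq_iff_eq_mul] at h
        rw [h, ← mul_assoc, hzc a a.2, mul_assoc, hzz, mul_one]
    · rintro (h | h)
      · left; rw [h, inv_mul_cancel]
      · right
        rw [inv_mul_eq_iff_eq_mul, h, mul_assoc, ← hzc b b.2, ← mul_assoc, hzz, one_mul]
  let e : G → G → ZMod 2 := fun a b => if a * b = b * a then 0 else 1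
  let s : G → ZMod 2 := fun a => if a * a = 1 then 0 else 1
  have he : ∀ a ∈ Q, ∀ b ∈ Q, a * b = zp z (e a b) * (b * a) := by
    intro a ha b hb
    by_cases h : a * b = b * a
    · simp [e, zp, h]
    · have := (X.commEl a ha b hb).resolve_left fun h' => h (mul_inv_eq_iff_eq_mul.1 h')
      rw [mul_inv_eq_iff_eq_mul] at this
      simp [e, zp, h, this, mul_assoc]
  have hs : ∀ a ∈ Q, a * a = zp z (s a) := by
    intro a ha
    by_cases h : a * a = 1
    · simp [s, zp, h]
    · simp [s, zp, (X.sq a ha).resolve_left h, h, X.ne_one]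
  have zpc : ∀ c, ∀ a ∈ Q, zp z c * a = a * zp z c := fun c a ha => by
    rcases zmod2_cases c with rfl | rfl <;> simp [zp, hzc a ha]
  have eu : ∀ a ∈ Q, ∀ b ∈ Q, ∀ c, a * b = zp z c * (b * a) → e a b = c := fun a ha b hb c h =>
    zp_inj X.ne_one (mul_right_cancel ((he a ha b hb).symm.trans h))
  have su : ∀ a ∈ Q, ∀ c, a * a = zp z c → s a = c := fun a ha c h =>
    zp_inj X.ne_one ((hs a ha).symm.trans h)
  have e_symm : ∀ a b, e a b = e b a := fun a b => by simp [e, eq_comm]
  have e_mul : ∀ a ∈ Q, ∀ a' ∈ Q, ∀ b ∈ Q, e (a * a') b = e a b + e a' b := by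
    intro a ha a' ha' b hb
    refine eu _ (mul_mem ha ha') _ hb _ ?_
    calc a * a' * b = a * (zp z (e a' b) * (b * a')) := by rw [mul_assoc, he a' ha' b hb]
      _ = zp z (e a' b) * ((a * b) * a') := by
        rw [← mul_assoc, ← zpc _ a ha]; simp [mul_assoc]
      _ = zp z (e a b + e a' b) * (b * (a * a')) := by
        rw [he a ha b hb, add_comm, zp_add hzz]; simp [mul_assoc]
  have e_z : ∀ a ∈ Q, e z a = 0 := fun a ha => by simp [e, hzc a ha]
  have e_zmul : ∀ a ∈ Q, ∀ b ∈ Q, e (z * a) b = e a b := fun a ha b hb => by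
    rw [e_mul z X.mem a ha b hb, e_z b hb, zero_add]
  have s_mul : ∀ a ∈ Q, ∀ b ∈ Q, s (a * b) = s a + s b + e a b := by
    intro a ha b hb
    refine su _ (mul_mem ha hb) _ ?_
    calc a * b * (a * b) = a * (zp z (e b a) * (a * b)) * b := by
          rw [← he b hb a ha]; simp [mul_assoc]
      _ = zp z (e b a) * ((a * a) * (b * b)) := by
          rw [← mul_assoc, ← zpc _ a ha]; simp [mul_assoc]
      _ = zp z (s a + s b + e a b) := by
          rw [hs a ha, hs b hb, e_symm b a, ← zp_add hzz, ← zp_add hzz, add_comm (e a b)]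
  have s_z : ∀ a ∈ Q, s (z * a) = s a := fun a ha => by
    rw [s_mul z X.mem a ha, e_z a ha, add_zero, show s z = 0 by simp [s, hzz], zero_add]
  have hcomm : ∀ a b : Q ⧸ Z, a * b = b * a := by
    intro a b
    induction a using QuotientGroup.induction_on with | _ a =>
    induction b using QuotientGroup.induction_on with | _ b =>
    rw [← QuotientGroup.mk_mul, ← QuotientGroup.mk_mul]
    refine (mk_eq _ _).2 ?_
    push_cast
    rcases zmod2_cases (e a b) with h | h <;>
      [left; right] <;> simpa [h, zp] using he a a.2 b b.2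
  letI : CommGroup (Q ⧸ Z) := { (inferInstance : Group (Q ⧸ Z)) with mul_comm := hcomm }
  let π : Q → Additive (Q ⧸ Z) := fun a => Additive.ofMul (mk a)
  have π_surj : Function.Surjective π := fun v => by
    obtain ⟨a, ha⟩ := QuotientGroup.mk_surjective (Additive.toMul v)
    exact ⟨a, congrArg Additive.ofMul ha⟩
  have π_mul : ∀ a b : Q, π (a * b) = π a + π b := fun a b => rfl
  have π_eq : ∀ a b : Q, π a = π b ↔ ((a : G) = b ∨ (a : G) = z * b) := fun a b =>
    (Additive.ofMul.injective.eq_iff).trans (mk_eq a b)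
  let rep : Additive (Q ⧸ Z) → Q := Function.surjInv π_surj
  have π_rep : ∀ v, π (rep v) = v := Function.surjInv_eq π_surj
  have e_cong : ∀ a a' b b' : Q, π a = π a' → π b = π b' → e a b = e a' b' := by
    intro a a' b b' h1 h2
    have k1 : e a b = e a' b := by
      rcases (π_eq a a').1 h1 with h | h <;> rw [h]
      rw [e_zmul _ a'.2 _ b.2]
    have k2 : e a' b = e a' b' := by
      rcases (π_eq b b').1 h2 with h | h <;> rw [h]
      rw [e_symm, e_zmul _ b'.2 _ a'.2, e_symm]
    exact k1.trans k2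
  have s_cong : ∀ a a' : Q, π a = π a' → s a = s a' := fun a a' h => by
    rcases (π_eq a a').1 h with h | h <;> rw [h]
    exact s_z _ a'.2
  let B : Additive (Q ⧸ Z) → Additive (Q ⧸ Z) → ZMod 2 := fun v w => e (rep v) (rep w)
  let q : Additive (Q ⧸ Z) → ZMod 2 := fun v => s (rep v)
  have B_π : ∀ a b : Q, B (π a) (π b) = e a b := fun a b => e_cong _ _ _ _ (π_rep _) (π_rep _)
  have q_π : ∀ a : Q, q (π a) = s a := fun a => s_cong _ _ (π_rep _)
  have hconj : ∀ (m : Cz z) (a : Q), (m : G) * a * (m : G)⁻¹ ∈ Q := fun m a =>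
    X.norm m (Subgroup.mem_centralizer_singleton_iff.1 m.2) a a.2
  let cj : Cz z → Q → Q := fun m a => ⟨(m : G) * a * (m : G)⁻¹, hconj m a⟩
  have cj_cong : ∀ (m : Cz z) (a a' : Q), π a = π a' → π (cj m a) = π (cj m a') := by
    intro m a a' h
    rw [π_eq] at h ⊢
    rcases h with h | h
    · left; show (m : G) * a * _ = m * a' * _; rw [h]
    · right
      show (m : G) * a * _ = z * (m * a' * _)
      rw [h, ← mul_assoc, Subgroup.mem_centralizer_singleton_iff.1 m.2]; simp [mul_assoc]
  have cj_ker : ∀ (m : Cz z) (a : Q), φ m = 1 → π (cj m a) = π a := by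
    intro m a hm
    rw [π_eq]
    exact X.commEl _ ((hker m).1 hm) a a.2
  have cj_comp : ∀ (m n : Cz z) (a : Q), cj (m * n) a = cj m (cj n a) := fun m n a =>
    Subtype.ext (by simp [cj, mul_assoc])
  let act : P36 → Additive (Q ⧸ Z) → Additive (Q ⧸ Z) := fun h v =>
    if hh : h ∈ φ.range then π (cj (Classical.choose hh) (rep v)) else v
  have act_π : ∀ (m : Cz z) (a : Q), act (φ m) (π a) = π (cj m a) := by
    intro m a
    have hh : φ m ∈ φ.range := ⟨m, rfl⟩
    simp only [act, dif_pos hh]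
    rw [cj_cong _ _ a (π_rep _)]
    set m' := Classical.choose hh
    have hm' : φ m' = φ m := Classical.choose_spec hh
    have h1 : φ (m' * m⁻¹) = 1 := by rw [map_mul, map_inv, hm', mul_inv_cancel]
    rw [show cj m' a = cj (m' * m⁻¹) (cj m a) by rw [← cj_comp, inv_mul_cancel_right],
      cj_ker _ _ h1]
  have htwo : ∀ v : Additive (Q ⧸ Z), v + v = 0 := fun v => by
    rw [← π_rep v, ← π_mul, show (0 : Additive (Q ⧸ Z)) = π 1 from rfl, π_eq]
    push_cast
    simpa using X.sq _ (rep v).2
  have hZ2 : Nat.card Z = 2 := by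
    rw [hZdef, Nat.card_congr (Subgroup.subgroupOfEquivOfLe (Subgroup.zpowers_le.2 X.mem)).toEquiv,
      Nat.card_zpowers, orderOf_eq_prime (by rw [pow_two, hzz]) X.ne_one]
  have hcard : Nat.card (Additive (Q ⧸ Z)) = 256 := by
    have := Subgroup.card_eq_card_quotient_mul_card_subgroup Z
    rw [hQcard, hZ2] at this
    show Nat.card (Q ⧸ Z) = 256
    omega
  have hadd : ∀ u v w, B (u + v) w = B u w + B v w := fun u v w => by
    rw [← π_rep u, ← π_rep v, ← π_rep w, ← π_mul, B_π, B_π, B_π]
    exact e_mul _ (rep u).2 _ (rep v).2 _ (rep w).2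
  have hnd : ∀ v, (∀ w, B v w = 0) → v = 0 := fun v hv => by
    rw [← π_rep v, show (0 : Additive (Q ⧸ Z)) = π 1 from rfl, π_eq]
    push_cast
    rw [mul_one]
    refine X.center _ (rep v).2 fun c hc => ?_
    have h := hv (π ⟨c, hc⟩)
    rw [← π_rep v, B_π] at h
    have := he _ (rep v).2 c hc
    rw [h] at this
    simpa [zp] using this.symm
  have hfaith : ∀ m : Cz z, (∀ v, act (φ m) v = v) → φ m = 1 := by
    intro m hm
    haveI : Finite (Additive (Q ⧸ Z)) := Nat.finite_of_card_ne_zero (by rw [hcard]; decide)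
    letI : Module (ZMod 2) (Additive (Q ⧸ Z)) :=
      AddCommGroup.zmodModule (fun v => by rw [two_nsmul]; exact htwo v)
    haveI : Module.Finite (ZMod 2) (Additive (Q ⧸ Z)) := Module.Finite.of_finite
    -- `c m a` with `m a m⁻¹ = z ^ (c m a) a`
    let c : Q → ZMod 2 := fun a => if (m : G) * a * (m : G)⁻¹ = a then 0 else 1
    have hc : ∀ a : Q, (m : G) * a * (m : G)⁻¹ = zp z (c a) * a := fun a => by
      have h : ((cj m a : Q) : G) = a ∨ ((cj m a : Q) : G) = z * a := by
        rw [← π_eq, ← act_π]; exact hm _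
      by_cases h0 : (m : G) * a * (m : G)⁻¹ = a
      · simp [c, zp, h0]
      · simpa [c, zp, h0] using h.resolve_left h0
    have cu : ∀ a : Q, ∀ k, (m : G) * a * (m : G)⁻¹ = zp z k * a → c a = k := fun a k h =>
      zp_inj X.ne_one (mul_right_cancel ((hc a).symm.trans h))
    have c_z : ∀ a b : Q, π a = π b → c a = c b := fun a b h => by
      rcases (π_eq a b).1 h with h | h
      · rw [show a = b from Subtype.ext h]
      · refine cu a _ ?_
        rw [h, ← mul_assoc, Subgroup.mem_centralizer_singleton_iff.1 m.2, mul_assoc z, mul_assoc z,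
          hc b, ← mul_assoc, ← mul_assoc]
        congr 1
        rcases zmod2_cases (c b) with h | h <;> simp [h, zp]
    let lam : Additive (Q ⧸ Z) →+ ZMod 2 :=
      AddMonoidHom.mk' (fun v => c (rep v)) fun v w => by
        rw [c_z (rep (v + w)) (rep v * rep w) (by rw [π_rep, π_mul, π_rep, π_rep])]
        refine cu _ _ ?_
        push_cast
        rw [zp_add hzz, mul_assoc (zp z _), ← mul_assoc (zp z (c (rep w))), zpc _ _ (rep v).2]
        calc (m : G) * ((rep v : Q) * (rep w : Q)) * (m : G)⁻¹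
            = ((m : G) * (rep v : Q) * (m : G)⁻¹) * ((m : G) * (rep w : Q) * (m : G)⁻¹) := by
              simp [mul_assoc]
          _ = _ := by rw [hc, hc]; simp [mul_assoc]
    have hsm : ∀ (k : ZMod 2) v w, B (k • v) w = k • B v w := fun k v w => by
      rcases zmod2_cases k with rfl | rfl
      · rw [zero_smul, zero_smul]
        have := hadd 0 0 w
        rwa [add_zero, left_eq_add] at this
      · rw [one_smul, one_smul]
    have hsy : ∀ v w, B v w = B w v := fun v w => e_symm _ _
    let BL : LinearMap.BilinForm (ZMod 2) (Additive (Q ⧸ Z)) := LinearMap.mk₂ (ZMod 2) B hadd hsm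
      (fun u v w => by rw [hsy, hadd, hsy v u, hsy w u]) (fun k v w => by rw [hsy, hsm, hsy w v])
    have hsurj : Function.Surjective BL := by
      refine (LinearMap.injective_iff_surjective_of_finrank_eq_finrank
        Subspace.dual_finrank_eq.symm).1 ?_
      intro v w h
      refine sub_eq_zero.1 (hnd _ fun u => ?_)
      have h' : BL (v - w) u = 0 := by rw [map_sub, h, sub_self, LinearMap.zero_apply]
      exact h'
    obtain ⟨v, hv⟩ := hsurj (lam.toZModLinearMap 2)
    obtain ⟨a, rfl⟩ := π_surj v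
    have hb : ∀ b : Q, (a : G)⁻¹ * m * b = b * ((a : G)⁻¹ * m) := by
      intro b
      have h1 : e a b = c b := by
        have := congrArg (fun f => f (π b)) hv
        change B (π a) (π b) = c (rep (π b)) at this
        rw [B_π] at this
        rw [this, c_z _ b (π_rep _)]
      have h2 := hc b
      rw [← h1, mul_inv_eq_iff_eq_mul] at h2
      rw [mul_assoc, h2, mul_assoc (zp z _), ← mul_assoc (a : G)⁻¹,
        ← zpc _ _ (inv_mem a.2)]
      have h3 := he a a.2 b b.2
      calc zp z (e a b) * (a : G)⁻¹ * ((b : G) * m)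
          = (a : G)⁻¹ * (zp z (e a b) * ((b : G) * a)) * ((a : G)⁻¹ * m) := by
            rw [← mul_assoc (a : G)⁻¹, ← zpc _ _ (inv_mem a.2)]; simp [mul_assoc]
        _ = _ := by rw [← h3]; simp [mul_assoc]
    have hmQ : (m : G) ∈ Q := by
      have : (a : G)⁻¹ * m ∈ Q := X.cent (Subgroup.mem_centralizer_iff.2 fun b hb' => (hb ⟨b, hb'⟩).symm)
      simpa using mul_mem a.2 this
    exact (hker m).2 hmQ
  refine ⟨Additive (Q ⧸ Z), inferInstance,
    { act := act, b := B, q := q, two := htwo, card := hcard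
      act_add := ?_, act_one := ?_, act_mul := ?_, faithful := ?_
      q_zero := ?_, q_add := ?_, b_add := hadd, b_symm := fun v w => e_symm _ _, nondeg := hnd
      q_act := ?_, big := fun p q' hp hq => hbig p q' hp hq
      odd := ?_ }, π, π_surj, π_mul, π_eq, ?_, ?_, ?_⟩
  · rintro _ ⟨m, rfl⟩ v w
    rw [← π_rep v, ← π_rep w, ← π_mul, act_π, act_π, act_π, ← π_mul]
    exact congrArg π (Subtype.ext (by simp [cj, mul_assoc]))
  · intro v
    rw [← π_rep v, ← map_one φ, act_π]
    exact congrArg π (Subtype.ext (by simp [cj]))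
  · rintro _ ⟨m, rfl⟩ _ ⟨n, rfl⟩ v
    rw [← π_rep v, ← map_mul, act_π, act_π, act_π, cj_comp]
  · rintro _ ⟨m, rfl⟩ h
    exact hfaith m h
  · rw [show (0 : Additive (Q ⧸ Z)) = π 1 from rfl, q_π]
    simp [s]
  · intro v w
    rw [← π_rep v, ← π_rep w, ← π_mul, q_π, q_π, q_π, B_π]
    exact s_mul _ (rep v).2 _ (rep w).2
  · rintro _ ⟨m, rfl⟩ v
    rw [← π_rep v, act_π, q_π, q_π]
    show s ((m : G) * _ * (m : G)⁻¹) = _
    simp only [s]
    have : ∀ a : G, (m : G) * a * (m : G)⁻¹ * ((m : G) * a * (m : G)⁻¹) = 1 ↔ a * a = 1 := fun a => by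
      rw [show (m : G) * a * (m : G)⁻¹ * ((m : G) * a * (m : G)⁻¹) = m * (a * a) * (m : G)⁻¹ by
        simp [mul_assoc]]
      exact conj_eq_one_iff
    simp only [this]
  · obtain ⟨m, hm⟩ := hodd
    exact ⟨φ m, ⟨m, rfl⟩, hm⟩
  · intro a b
    show B (π a) (π b) = 0 ↔ _
    rw [B_π]
    by_cases h : (a : G) * b = b * a <;> simp [e, h]
  · intro a
    show q (π a) = 0 ↔ _
    rw [q_π]
    by_cases h : (a : G) * a = 1 <;> simp [s, h]
  · intro m a b h
    show act (φ m) (π a) = π b
    rw [act_π]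
    exact congrArg π (Subtype.ext h.symm)

end

end CfsgLib.NoSixCent
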