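import Cfsg.Agent.Lib.NoSixCent.Interface

/-!
An indexed Sylow 2-subgroup of `S₃ × S₆`, its elementary abelian subgroups of order 8, and witness
tables, checked in the kernel.
-/

set_option autoImplicit false

namespace CfsgLib.NoSixCent.Facts

open Equiv

/-- Element number `n` of the Sylow subgroup `⟨(0 1)⟩ × (D₈ × 2)`. -/
def E (n : ℕ) : P36 :=
  (swap (0 : Fin 3) 1 ^ (n / 16 % 2),
    (swap (0 : Fin 6) 2 * swap 1 3 * swap 2 3) ^ (n % 4) * swap (0 : Fin 6) 1 ^ (n / 4 % 2) *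
      swap (4 : Fin 6) 5 ^ (n / 8 % 2))

/-- Multiplication of indices. -/
def m (a b : ℕ) : ℕ :=
  (a % 4 + (if a / 4 % 2 = 1 then 3 * (b % 4) else b % 4)) % 4 +
    4 * ((a / 4 + b / 4) % 2) + 8 * ((a / 8 + b / 8) % 2) + 16 * ((a / 16 + b / 16) % 2)

theorem m_lt (a b : ℕ) : m a b < 32 := by
  unfold m; omega

theorem E_mul_fin : ∀ a b : Fin 32, E (m a b) = E a * E b := by decide +kernel

theorem E_mul {a b : ℕ} (ha : a < 32) (hb : b < 32) : E (m a b) = E a * E b :=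
  E_mul_fin ⟨a, ha⟩ ⟨b, hb⟩

theorem E_zero : E 0 = 1 := by decide +kernel

theorem E_inj_fin : ∀ a b : Fin 32, E a = E b → a = b := by decide +kernel

theorem E_inj {a b : ℕ} (ha : a < 32) (hb : b < 32) (h : E a = E b) : a = b :=
  congrArg Fin.val (E_inj_fin ⟨a, ha⟩ ⟨b, hb⟩ h)

theorem E_fst_iff : ∀ a : Fin 32, ((E a).1 = 1 ↔ (a : ℕ) < 16) ∧
    (Inv3 (E a) ↔ 16 ≤ (a : ℕ)) := by
  unfold Inv3; decide +kernel

theorem E_low {a : ℕ} (ha : a < 32) : (E a).1 = 1 ↔ a < 16 := (E_fst_iff ⟨a, ha⟩).1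

theorem E_high {a : ℕ} (ha : a < 32) : Inv3 (E a) ↔ 16 ≤ a := (E_fst_iff ⟨a, ha⟩).2

theorem surj_fst : ∀ p : Perm (Fin 3), p * swap 0 1 = swap 0 1 * p →
    ∃ a : Fin 2, swap (0 : Fin 3) 1 ^ (a : ℕ) = p := by decide +kernel

theorem surj_snd : ∀ p : Perm (Fin 6), p * (swap 0 1 * swap 2 3) = (swap 0 1 * swap 2 3) * p →
    ∃ a : Fin 16, (E a).2 = p := by decide +kernel

/-- Subgroups of order 8 with an inverting element: indices, a conjugating element, the elements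
`b₀, a, b₁` and elements commuting with their conjugates. -/
def trTable : List (List ℕ × ℕ × ℕ × ℕ × ℕ × ℕ × ℕ × ℕ) :=
  [([0, 2, 4, 6, 16, 18, 20, 22], 0, 18, 2, 16, 16, 16, 16),
  ([0, 2, 4, 6, 24, 26, 28, 30], 0, 24, 2, 24, 24, 24, 24),
  ([0, 2, 5, 7, 16, 18, 21, 23], 0, 18, 2, 16, 16, 16, 16),
  ([0, 2, 5, 7, 24, 26, 29, 31], 0, 24, 2, 24, 24, 24, 24),
  ([0, 2, 8, 10, 16, 18, 24, 26], 0, 18, 2, 16, 16, 16, 16),
  ([0, 2, 8, 10, 20, 22, 28, 30], 0, 22, 2, 20, 20, 20, 20),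
  ([0, 2, 8, 10, 21, 23, 29, 31], 1, 23, 2, 21, 21, 21, 21),
  ([0, 2, 12, 14, 16, 18, 28, 30], 2, 30, 14, 16, 16, 16, 16),
  ([0, 2, 12, 14, 20, 22, 24, 26], 2, 26, 14, 20, 20, 20, 20),
  ([0, 2, 13, 15, 16, 18, 29, 31], 0, 18, 2, 16, 16, 16, 16),
  ([0, 2, 13, 15, 21, 23, 24, 26], 0, 24, 2, 24, 24, 24, 24),
  ([0, 4, 8, 12, 16, 20, 24, 28], 0, 24, 4, 16, 16, 16, 16),
  ([0, 4, 8, 12, 18, 22, 26, 30], 0, 18, 4, 18, 18, 18, 18),
  ([0, 4, 10, 14, 16, 20, 26, 30], 2, 26, 4, 16, 16, 16, 16),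
  ([0, 4, 10, 14, 18, 22, 24, 28], 3, 22, 4, 18, 18, 18, 18),
  ([0, 5, 8, 13, 16, 21, 24, 29], 4, 21, 5, 16, 16, 16, 16),
  ([0, 5, 8, 13, 18, 23, 26, 31], 4, 23, 5, 18, 18, 18, 18),
  ([0, 5, 10, 15, 16, 21, 26, 31], 4, 21, 5, 16, 16, 16, 16),
  ([0, 5, 10, 15, 18, 23, 24, 29], 4, 23, 5, 18, 18, 18, 18),
  ([0, 6, 8, 14, 16, 22, 24, 30], 2, 30, 14, 16, 16, 16, 16),
  ([0, 6, 8, 14, 18, 20, 26, 28], 2, 26, 14, 20, 20, 20, 18),
  ([0, 6, 10, 12, 16, 22, 26, 28], 0, 22, 6, 16, 16, 16, 16),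
  ([0, 6, 10, 12, 18, 20, 24, 30], 0, 18, 6, 18, 18, 18, 18),
  ([0, 7, 8, 15, 16, 23, 24, 31], 4, 23, 7, 16, 16, 16, 16),
  ([0, 7, 8, 15, 18, 21, 26, 29], 4, 21, 7, 18, 18, 18, 18),
  ([0, 7, 10, 13, 16, 23, 26, 29], 4, 23, 7, 16, 16, 16, 16),
  ([0, 7, 10, 13, 18, 21, 24, 31], 4, 21, 7, 18, 18, 18, 18)]

/-- The two subgroups of order 8 of the second factor: indices, an element of order 3 of the
normaliser, an index it moves, and 15 conjugating elements. -/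
def puTable : List (List ℕ × Perm (Fin 6) × ℕ × List (Perm (Fin 6))) :=
  [([0, 2, 4, 6, 8, 10, 12, 14], swap 0 2 * swap 1 3 * swap 2 4 * swap 3 5, 2,
    [1, swap 3 4, swap 3 5, swap 1 2, swap 1 3, swap 1 4, swap 1 5, swap 1 2 * swap 3 4,
      swap 1 2 * swap 3 5, swap 1 3 * swap 3 4, swap 1 3 * swap 3 5, swap 1 4 * swap 2 4,
      swap 1 4 * swap 3 4, swap 1 5 * swap 2 5, swap 1 5 * swap 3 5]),
  ([0, 2, 5, 7, 8, 10, 13, 15], swap 1 2 * swap 2 3, 2,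
    [1, swap 3 4, swap 3 5, swap 2 4, swap 2 5, swap 1 4, swap 1 5, swap 0 4, swap 0 5,
      swap 2 4 * swap 3 5, swap 1 4 * swap 3 5, swap 1 4 * swap 2 5, swap 0 4 * swap 3 5,
      swap 0 4 * swap 2 5, swap 0 4 * swap 1 5])]

/-- The elements spanned by three commuting involutions. -/
def span8 (x y z : ℕ) : List ℕ := [0, y, z, m y z, x, m x y, m x z, m x (m y z)]

/-- Three commuting involutions span a subgroup listed in the tables. -/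
def classCheck (x y z : ℕ) : Bool :=
  if x = 0 ∨ y = 0 ∨ z = 0 ∨ z = y ∨ m x x ≠ 0 ∨ m y y ≠ 0 ∨ m z z ≠ 0 then true
  else if m y z ≠ m z y ∨ m x y ≠ m y x ∨ m x z ≠ m z x then true
  else if x = y ∨ x = z ∨ x = m y z then true
  else if 16 ≤ x then trTable.any fun e => e.1.all fun i => decide (i ∈ span8 x y z)
  else puTable.any fun e => e.1.all fun i => decide (i ∈ span8 x y z)

theorem class_table : ∀ x : Fin 32, ∀ y z : Fin 16, classCheck x y z = true := by decide +kernel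

theorem table_shape : (∀ e ∈ trTable, e.1.Nodup ∧ e.1.length = 8 ∧ ∀ i ∈ e.1, i < 32) ∧
    ∀ e ∈ puTable, e.1.Nodup ∧ e.1.length = 8 ∧ (∀ i ∈ e.1, i < 16) := by
  decide +kernel

/-- Conjugating elements used in `trTable`. -/
def hs (n : ℕ) : Perm (Fin 6) :=
  match n with
  | 0 => swap 2 4 * swap 3 5
  | 1 => swap 1 2 * swap 4 5
  | 2 => swap 3 4 * swap 4 5
  | 3 => swap 0 2 * swap 1 3
  | _ => swap 2 3 * swap 4 5

theorem hs_even : ∀ n : ℕ, Perm.sign (hs n) = 1 := by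
  intro n
  match n with
  | 0 => decide
  | 1 => decide
  | 2 => decide
  | 3 => decide
  | _ + 4 =>
    show Perm.sign (swap (2 : Fin 6) 3 * swap 4 5) = 1
    decide

/-- Conjugation by `(1, h)`. -/
def cj (h : Perm (Fin 6)) (g : P36) : P36 := ((1, h) : P36) * g * ((1, h) : P36)⁻¹

/-- `g` normalises the listed subgroup and commutes with element number `c`, which inverts. -/
def Wit (l : List ℕ) (g : P36) (c : ℕ) : Prop :=
  (∀ i ∈ l, ∃ j ∈ l, E j = g * E i * g⁻¹) ∧ c ∈ l ∧ 16 ≤ c ∧ g * E c = E c * g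

instance (l : List ℕ) (g : P36) (c : ℕ) : Decidable (Wit l g c) := by unfold Wit; infer_instance

theorem tr_check : ∀ e ∈ trTable,
    let (l, h, b₀, a, b₁, c₀, ca, c₁) := e
    b₀ ∈ l ∧ 16 ≤ b₀ ∧ a ∈ l ∧ a < 16 ∧ a ≠ 0 ∧ b₁ ∈ l ∧ 16 ≤ b₁ ∧
      Wit l (cj (hs h)⁻¹ (E b₀)) c₀ ∧ Wit l (cj (hs h)⁻¹ (E a)) ca ∧
      Wit l (cj (hs h) (E b₁)) c₁ ∧ ∀ i ∈ l, E i ≠ cj (hs h)⁻¹ (E b₀) := by
  decide +kernel

theorem pu_check : ∀ e ∈ puTable,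
    let (l, t, a, hl) := e
    t * t * t = 1 ∧ (∀ i ∈ l, ∃ j ∈ l, E j = cj t (E i)) ∧ a ∈ l ∧
      ((1, t) : P36) * E a ≠ E a * ((1, t) : P36) ∧
      (∃ i ∈ l, Perm.sign (E i).2 = -1) ∧ hl.length = 15 ∧
      hl.Pairwise fun h k => ∃ i ∈ l, ∀ j ∈ l, cj h (E i) ≠ cj k (E j) := by
  decide +kernel

theorem noncomm : E 1 * E 4 ≠ E 4 * E 1 := by decide +kernel

theorem comm_witness : ∀ i : Fin 16, m i i = 0 →
    ∃ a ∈ [(E 1).2, (E 4).2, swap 0 1, swap 2 3, swap 4 5, swap 2 4, swap 1 2, swap 1 3, swap 0 4 * swap 1 5,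
        swap 0 2 * swap 1 3, swap 2 4 * swap 3 5, swap 0 3 * swap 1 2],
    ∃ b ∈ [(E 1).2, (E 4).2, swap 0 1, swap 2 3, swap 4 5, swap 2 4, swap 1 2, swap 1 3, swap 0 4 * swap 1 5,
        swap 0 2 * swap 1 3, swap 2 4 * swap 3 5, swap 0 3 * swap 1 2],
      a * (E i).2 = (E i).2 * a ∧ b * (E i).2 = (E i).2 * b ∧ a * b ≠ b * a := by
  decide +kernel

theorem square_witness : ∀ i : Fin 16, (i : ℕ) ≠ 0 → m i i = 0 → Perm.sign (E i).2 = 1 →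
    ∃ a ∈ [swap (0 : Fin 6) 2 * swap 1 3 * swap 2 3 * swap 4 5,
        swap 0 1 * swap 1 3 * swap 2 3 * swap 4 5, swap 0 1 * swap 1 2 * swap 2 3 * swap 4 5,
        swap 0 4 * swap 1 5 * swap 2 3 * swap 4 5, swap 0 1 * swap 2 4 * swap 3 5 * swap 4 5],
      Perm.sign a = 1 ∧ a * a = (E i).2 := by
  decide +kernel

theorem perm3_even_sq : ∀ p : Perm (Fin 3), Perm.sign p = 1 → p * p = 1 → p = 1 := by
  decide +kernel

end CfsgLib.NoSixCent.Facts
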