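import Cfsg.Agent.Lib.NoSixCent.FusedSpaces

/-!
The conditions `mirror`, `coprime`, `triangle` and `orbit` for the conjugates of `z` in `Q`.
-/

set_option autoImplicit false
set_option linter.unusedSectionVars false
set_option linter.style.haveILetI false

namespace CfsgLib.NoSixCent.Fused

open CfsgLib.ThreeTransp Subgroup

universe u

/-- An orbit in an elementary abelian group of order 32 has order dividing `|GL₅(2)|`. -/
theorem card_orbit_dvd_GL {D N : Type u} [Group D] [Group N] (hcard : Nat.card D = 32)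
    (hcomm : ∀ a b : D, a * b = b * a) (hexp : ∀ a : D, a * a = 1) (f : N →* MulAut D) (z : D) :
    Nat.card ↥(Set.range fun n : N => f n z) ∣ 9999360 := by
  classical
  letI : CommGroup D := { (inferInstance : Group D) with mul_comm := hcomm }
  haveI : Finite D := Nat.finite_of_card_ne_zero (by omega)
  haveI : Fact (Nat.Prime 2) := ⟨Nat.prime_two⟩
  letI : Module (ZMod 2) (Additive D) := AddCommGroup.zmodModule fun d => by
    rw [two_nsmul]; exact hexp d.toMul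
  haveI : Module.Finite (ZMod 2) (Additive D) := Module.Finite.of_finite
  have hrank : Module.finrank (ZMod 2) (Additive D) = 5 := by
    have h1 := Module.natCard_eq_pow_finrank (K := ZMod 2) (V := Additive D)
    rw [show Nat.card (Additive D) = 32 from hcard, Nat.card_zmod] at h1
    exact (Nat.pow_right_injective le_rfl (h1.symm.trans (by norm_num : (32 : ℕ) = 2 ^ 5)))
  let bas := Module.finBasisOfFinrankEq (ZMod 2) (Additive D) hrank
  let lin : N → (Additive D →ₗ[ZMod 2] Additive D) := fun n =>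
    (MonoidHom.toAdditive (f n).toMonoidHom).toZModLinearMap 2
  let φm : N →* Matrix (Fin 5) (Fin 5) (ZMod 2) :=
    { toFun := fun n => LinearMap.toMatrix bas bas (lin n)
      map_one' := by
        rw [show lin 1 = LinearMap.id from LinearMap.ext fun d => by
          show Additive.ofMul (f 1 d.toMul) = d
          rw [map_one]; rfl, LinearMap.toMatrix_id]
      map_mul' := fun a b => by
        rw [← LinearMap.toMatrix_mul]
        congr 1
        refine LinearMap.ext fun d => ?_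
        show Additive.ofMul (f (a * b) d.toMul) = Additive.ofMul (f a (f b d.toMul))
        rw [map_mul]; rfl }
  have hker : ∀ n ∈ φm.toHomUnits.ker, f n = 1 := fun n hn => by
    have h1 : LinearMap.toMatrix bas bas (lin n) = LinearMap.toMatrix bas bas LinearMap.id := by
      rw [LinearMap.toMatrix_id]; exact congrArg Units.val hn
    refine MulEquiv.ext fun d => ?_
    exact congrArg Additive.toMul
      (LinearMap.congr_fun ((LinearMap.toMatrix bas bas).injective h1) (Additive.ofMul d))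
  letI act : MulAction N D :=
    { smul := fun n d => f n d
      one_smul := fun d => by show f 1 d = d; rw [map_one]; rfl
      mul_smul := fun a b d => by show f (a * b) d = f a (f b d); rw [map_mul]; rfl }
  have h1 : φm.toHomUnits.ker ≤ MulAction.stabilizer N z := fun n hn => by
    show f n z = z
    rw [hker n hn]; rfl
  have h2 : Nat.card φm.toHomUnits.range ∣ 9999360 := by
    refine dvd_trans (card_subgroup_dvd_card _) ?_
    rw [Matrix.card_GL_field, ZMod.card]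
    simp [Fin.prod_univ_succ]
  rw [show Nat.card ↥(Set.range fun n : N => f n z) = (MulAction.stabilizer N z).index by
    rw [MulAction.index_stabilizer, ← Nat.card_coe_set_eq]; rfl]
  exact ((index_dvd_of_le h1).trans (dvd_of_eq (index_ker _))).trans h2

variable {G : Type u} [Group G] [Finite G] {z : G} {Q : Subgroup G}
  {φ : ↥(Cz z) →* P36} {V : Type u} [AddCommGroup V] {g : Geo V φ.range} {π : ↥Q → V}
  (S : Setting z Q φ) (L : Link z Q φ g π) {x : G} (hs : IsStd z Q x)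
include S L hs

/-- `v ⊥ x` says that a lift centralises `x`. -/
theorem perp_iff {n : Q} : g.b (π n) (π ⟨x, hs.mem⟩) = 0 ↔ (n : G) * x = x * n :=
  L.comm_iff n ⟨x, hs.mem⟩

theorem mem_comm_left {n : Q} (hn : g.b (π n) (π ⟨x, hs.mem⟩) = 0) :
    (n : G) ∈ Q ⊓ centralizer ({x} : Set G) :=
  ⟨n.2, mem_centralizer_singleton_iff.2 ((perp_iff S L hs).1 hn)⟩

theorem act_add (m : Cz z) (n : Q) :
    g.act (φ m) (π n) + π n = π ⟨(m : G) * n * (m : G)⁻¹ * (n : G)⁻¹,
      mul_mem (S.hX.norm m (mem_centralizer_singleton_iff.1 m.2) n n.2) (inv_mem n.2)⟩ := by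
  have hm : (m : G) * n * (m : G)⁻¹ ∈ Q := S.hX.norm m (mem_centralizer_singleton_iff.1 m.2) n n.2
  rw [L.act_eq m n ⟨_, hm⟩ rfl, ← pi_inv L n, ← L.map_mul]
  rfl

theorem mirror {a : P36} (ha : a ∈ AA φ Q x) (ha1 : a ≠ 1)
    (hav : ∀ v, g.b v (π ⟨x, hs.mem⟩) = 0 →
      g.act a v + v = 0 ∨ g.act a v + v = π ⟨x, hs.mem⟩) :
    ∃ v, g.b v (π ⟨x, hs.mem⟩) = 0 ∧ v ∉ UU L x ∧
      ∀ a ∈ AA φ Q x, g.act a v + v = 0 ∨ g.act a v + v = π ⟨x, hs.mem⟩ := by
  have P := hs.pair S.hX S.hp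
  obtain ⟨t, -, ht1, ht2⟩ := hs.swap S.hX S.hp
  obtain ⟨c, hc, rfl⟩ := mem_AA.1 ha
  have hcz : (c : G) * z = z * c := mem_centralizer_singleton_iff.1 c.2
  have he : t * c * t⁻¹ ∈ Q := ((hs.swap_mem S.hX S.hp ht1 ht2 c).2).2 hc
  have hex : Commute (t * (c : G) * t⁻¹) x := by
    have h1 : t * ((c : G) * z) * t⁻¹ = t * (z * (c : G)) * t⁻¹ := by rw [hcz]
    show _ = _
    rw [← ht1]
    calc t * (c : G) * t⁻¹ * (t * z * t⁻¹) = t * ((c : G) * z) * t⁻¹ := by group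
      _ = _ := by rw [h1]; group
  refine ⟨π ⟨_, he⟩, (perp_iff S L hs).2 hex.eq, fun hU => ha1 ((S.ker c).2 ?_), fun a' ha' => ?_⟩
  · have h1 := (mem_UU_iff S L hs).1 hU
    exact ((hs.swap_mem S.hX S.hp ht1 ht2 c).1).1 h1
  obtain ⟨a'', ha'', rfl⟩ := mem_AA.1 ha'
  -- the commutator is the image of one of `c` with an element centralising `x` in `Q`
  set n : G := t⁻¹ * (a'' : G) * t with hn
  have hnQ : n ∈ Q := ((hs.swap_mem S.hX S.hp ht1 ht2 n).1).1 (by
    rw [show t * n * t⁻¹ = a'' by rw [hn]; group]; exact ha'')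
  have ha''z : (a'' : G) * z = z * a'' := mem_centralizer_singleton_iff.1 a''.2
  have hnx : Commute n x := by
    show _ = _
    rw [show x = t⁻¹ * z * t by rw [← ht2]; group, hn]
    calc t⁻¹ * (a'' : G) * t * (t⁻¹ * z * t) = t⁻¹ * ((a'' : G) * z) * t := by group
      _ = _ := by rw [ha''z]; group
  have hcn := act_add S L hs c ⟨n, hnQ⟩
  have h4 : (c : G) * n * (c : G)⁻¹ * n⁻¹ ∈ closure ({z, x} : Set G) := by
    have hmem : (c : G) * n * (c : G)⁻¹ * n⁻¹ ∈ Q :=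
      mul_mem (S.hX.norm c hcz n hnQ) (inv_mem hnQ)
    rcases hav _ ((perp_iff S L hs (n := ⟨n, hnQ⟩)).2 hnx.eq) with h1 | h1 <;> rw [hcn] at h1
    · rcases (pi_eq_zero L S.hX).1 h1 with h2 | h2 <;> rw [P.mem_four]
      · exact Or.inl h2
      · exact Or.inr (Or.inl h2)
    · rcases (L.eq_iff _ _).1 h1 with h2 | h2 <;> rw [P.mem_four]
      · exact Or.inr (Or.inr (Or.inl h2))
      · exact Or.inr (Or.inr (Or.inr h2))
  have h5 : t * ((c : G) * n * (c : G)⁻¹ * n⁻¹)⁻¹ * t⁻¹ ∈ closure ({z, x} : Set G) := by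
    rw [P.mem_four]
    have hzx : t * (z * x) * t⁻¹ = z * x := by
      rw [show t * (z * x) * t⁻¹ = t * z * t⁻¹ * (t * x * t⁻¹) by group, ht1, ht2, P.comm_xz]
    rcases (P.mem_four _).1 (inv_mem h4) with h | h | h | h <;> rw [h]
    · left; group
    · exact Or.inr (Or.inr (Or.inl ht1))
    · exact Or.inr (Or.inl ht2)
    · exact Or.inr (Or.inr (Or.inr hzx))
  rw [act_add S L hs a'']
  have e : (a'' : G) * (t * (c : G) * t⁻¹) * (a'' : G)⁻¹ * (t * (c : G) * t⁻¹)⁻¹ =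
      t * ((c : G) * n * (c : G)⁻¹ * n⁻¹)⁻¹ * t⁻¹ := by rw [hn]; group
  rcases (P.mem_four _).1 h5 with h | h | h | h
  · exact Or.inl ((pi_eq_zero L S.hX).2 (Or.inl (e.trans h)))
  · exact Or.inl ((pi_eq_zero L S.hX).2 (Or.inr (e.trans h)))
  · exact Or.inr ((L.eq_iff _ _).2 (Or.inl (e.trans h)))
  · exact Or.inr ((L.eq_iff _ _).2 (Or.inr (e.trans h)))

theorem coprime {e : P36} (he : e ∈ φ.range) (hex : g.act e (π ⟨x, hs.mem⟩) = π ⟨x, hs.mem⟩)
    (hec : ∀ a ∈ AA φ Q x, e * a = a * e) {v : V} (hv : g.b v (π ⟨x, hs.mem⟩) = 0) :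
    g.act e v + v ∈ UU L x := by
  have P := hs.pair S.hX S.hp
  obtain ⟨m₀, hm₀⟩ := he
  obtain ⟨m, hm, hmx⟩ : ∃ m : Cz z, φ m = e ∧ (m : G) * x * (m : G)⁻¹ = x := by
    have hmQ : (m₀ : G) * x * (m₀ : G)⁻¹ ∈ Q :=
      S.hX.norm m₀ (mem_centralizer_singleton_iff.1 m₀.2) x hs.mem
    rw [← hm₀, L.act_eq m₀ ⟨x, hs.mem⟩ ⟨_, hmQ⟩ rfl] at hex
    rcases (L.eq_iff _ _).1 hex with h1 | h1
    · exact ⟨m₀, hm₀, h1⟩
    · replace h1 : (m₀ : G) * x * (m₀ : G)⁻¹ = z * x := h1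
      obtain ⟨p, hpQ, hpx⟩ := hs.exists_move S.hX S.hp
      refine ⟨⟨p, mem_centralizer_singleton_iff.2 (S.hX.comm p hpQ)⟩ * m₀, ?_, ?_⟩
      · rw [map_mul, (S.ker ⟨p, _⟩).2 hpQ, one_mul, hm₀]
      · show p * (m₀ : G) * x * (p * (m₀ : G))⁻¹ = x
        rw [show p * (m₀ : G) * x * (p * (m₀ : G))⁻¹ = p * ((m₀ : G) * x * (m₀ : G)⁻¹) * p⁻¹ by
          group, h1, show p * (z * x) * p⁻¹ = p * z * p⁻¹ * (p * x * p⁻¹) by group, hpx,
          mul_inv_eq_iff_eq_mul.2 (S.hX.comm p hpQ), ← mul_assoc, S.hX.inv, one_mul]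
  have hmz : Commute (m : G) z := mem_centralizer_singleton_iff.1 m.2
  have hmx' : Commute (m : G) x := mul_inv_eq_iff_eq_mul.1 hmx
  have hm4 : (m : G) ∈ centralizer (closure ({z, x} : Set G) : Set G) := by
    rw [mem_centralizer_iff]
    intro w hw
    rcases (P.mem_four w).1 hw with rfl | rfl | rfl | rfl
    exacts [(Commute.one_left _).eq, hmz.symm.eq, hmx'.symm.eq, (hmz.mul_right hmx').symm.eq]
  obtain ⟨t, ht, ht1, ht2⟩ := hs.swap S.hX S.hp
  obtain ⟨r₁, hr₁, r₂, hr₂, hr⟩ := P.mem_R.1 (P.commutator_mem_R ht hm4)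
  have hr₂z : r₂ ∈ Cz z := mem_centralizer_singleton_iff.2 (S.hX.comm r₂ hr₂.1)
  let m' : Cz z := ⟨r₁, hr₁.2⟩ * ⟨r₂, hr₂z⟩ * m
  have hm' : (m' : G) = t * m * t⁻¹ := by
    show r₁ * r₂ * (m : G) = _
    rw [← hr]; group
  have hA : ∀ a b : P36, a ∈ AA φ Q x → b ∈ AA φ Q x → a * b = b * a := by
    intro a b ha hb
    have hsq : ∀ c ∈ AA φ Q x, c * c = 1 := by
      intro c hc
      obtain ⟨k, hk, rfl⟩ := mem_AA.1 hc
      rw [← map_mul, S.ker]
      show (k : G) * k ∈ Q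
      rcases P.hQ'.sq k hk with h | h <;> rw [h]
      exacts [one_mem _, hs.mem]
    have h1 : (a * b)⁻¹ = a * b := inv_eq_of_mul_eq_one_right (hsq _ (mul_mem ha hb))
    rw [← h1, mul_inv_rev, inv_eq_of_mul_eq_one_right (hsq a ha),
      inv_eq_of_mul_eq_one_right (hsq b hb)]
  have hφm' : ∀ a ∈ AA φ Q x, φ m' * a = a * φ m' := by
    intro a ha
    have h1 : φ m' = φ ⟨r₁, hr₁.2⟩ * e := by
      show φ (_ * _ * m) = _
      rw [map_mul, map_mul, (S.ker ⟨r₂, hr₂z⟩).2 hr₂.1, mul_one, hm]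
    have h2 : φ ⟨r₁, hr₁.2⟩ ∈ AA φ Q x := mem_AA.2 ⟨_, hr₁.1, rfl⟩
    rw [h1, mul_assoc, hec a ha, ← mul_assoc, hA _ _ h2 ha, mul_assoc]
  obtain ⟨n, rfl⟩ := L.surj v
  have hnP := mem_comm_left S L hs hv
  rw [← hm, act_add S L hs m]
  refine (mem_UU_iff S L hs).2 ?_
  show (m : G) * n * (m : G)⁻¹ * (n : G)⁻¹ ∈ Qc z Q x
  -- transfer to `t n t⁻¹ ∈ C_{Q_x}(z)`
  rw [← (hs.swap_mem S.hX S.hp ht1 ht2 _).2,
    show t * ((m : G) * n * (m : G)⁻¹ * (n : G)⁻¹) * t⁻¹ =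
      t * m * t⁻¹ * (t * n * t⁻¹) * (t * m * t⁻¹)⁻¹ * (t * n * t⁻¹)⁻¹ by group, ← hm']
  have hn' : t * (n : G) * t⁻¹ ∈ Qc z Q x := (hs.swap_mem S.hX S.hp ht1 ht2 _).1.2 n.2
  have hn'z : t * (n : G) * t⁻¹ ∈ Cz z := by
    rw [mem_centralizer_singleton_iff, ← ht2]
    calc t * (n : G) * t⁻¹ * (t * x * t⁻¹) = t * ((n : G) * x) * t⁻¹ := by group
      _ = _ := by rw [(perp_iff S L hs).1 hv]; group
  have h3 : φ (m' * ⟨_, hn'z⟩ * m'⁻¹ * (⟨_, hn'z⟩ : Cz z)⁻¹) = 1 := by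
    rw [map_mul, map_mul, map_mul, map_inv, map_inv, hφm' _ (mem_AA.2 ⟨⟨_, hn'z⟩, hn', rfl⟩),
      mul_inv_cancel_right, mul_inv_cancel]
  exact (S.ker _).1 h3

theorem triangle (h16 : ∀ y, IsStd z Q y → Nat.card (UU L y) = 16) {y : G} (hy : IsStd z Q y)
    (hyx : y ∈ Qc z Q x) (hne : π ⟨x, hs.mem⟩ ≠ π ⟨y, hy.mem⟩)
    (hint : ∀ u, u ∈ UU L x → u ∈ UU L y → u = 0 ∨ u = π ⟨x, hs.mem⟩ ∨ u = π ⟨y, hy.mem⟩ ∨
      u = π ⟨x, hs.mem⟩ + π ⟨y, hy.mem⟩)
    {a : P36} (ha : a ∈ AA φ Q x) (hay : g.act a (π ⟨y, hy.mem⟩) = π ⟨y, hy.mem⟩) :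
    a ∈ AA φ Q y := by
  classical
  have P := hs.pair S.hX S.hp
  have hcyx : y * x = x * y := P.hQ'.comm y hyx
  set Rx : Subgroup G := Qc z Q x ⊓ Cz z ⊓ centralizer ({y} : Set G) with hRx
  have hne4 : y ∉ closure ({z, x} : Set G) := by
    rw [P.mem_four]
    rintro (h | h | h | h)
    · obtain ⟨b, hb⟩ := hy.conj
      rw [h] at hb
      exact S.hX.ne_one (conj_eq_one_iff.1 hb)
    · exact hy.ne h
    · exact hne (congrArg π (Subtype.ext h.symm))
    · exact hne ((L.eq_iff ⟨y, hy.mem⟩ ⟨x, hs.mem⟩).2 (Or.inr h)).symm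
  have hRlt : Rx < Qc z Q x ⊓ Cz z := by
    refine lt_of_le_of_ne inf_le_left fun he => hne4 ?_
    rw [P.mem_four]
    rcases P.hQ'.cent_R P.hz S.hX.ne_one (fun h => hs.ne h.symm) hyx (c := y) fun r hr hrz => by
      have h1 : r ∈ Rx := he ▸ ⟨hr, mem_centralizer_singleton_iff.2 hrz⟩
      exact mem_centralizer_singleton_iff.1 h1.2 with h | h | h | h
    · exact Or.inl h
    · exact Or.inr (Or.inr (Or.inl h))
    · exact Or.inr (Or.inl h)
    · exact Or.inr (Or.inr (Or.inr (h.trans P.comm_xz.symm)))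
  have hcR : Nat.card Rx ≤ 128 := by
    have h1 : Nat.card Rx ∣ 256 := card_cent S L hs ▸ card_dvd_of_le hRlt.le
    have h2 : Nat.card Rx < 256 := by
      rw [← card_cent S L hs]
      exact Set.ncard_lt_ncard (SetLike.coe_ssubset_coe.2 hRlt) (Set.toFinite _)
    obtain ⟨k, -, hk⟩ := (Nat.dvd_prime_pow Nat.prime_two).1 (show Nat.card Rx ∣ 2 ^ 8 from h1)
    rw [hk] at h2 ⊢
    exact Nat.pow_le_pow_right two_pos (Nat.lt_succ_iff.1
      ((Nat.pow_lt_pow_iff_right one_lt_two).1 (show 2 ^ k < 2 ^ 8 from h2)))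
  set D₂ : Subgroup G := Qc z Q x ⊓ Qc z Q y with hD₂
  have hD₂R : D₂ ≤ Rx := by
    intro d hd
    have hzy : z ∈ Qc z Q y := (hy.pair S.hX S.hp).hz
    have hab : ∀ e ∈ D₂, d * e = e * d := by
      intro e he
      rcases P.hQ'.commEl d hd.1 e he.1 with h1 | h1
      · exact mul_inv_eq_iff_eq_mul.1 h1
      rcases (hy.pair S.hX S.hp).hQ'.commEl d hd.2 e he.2 with h2 | h2
      · exact mul_inv_eq_iff_eq_mul.1 h2
      · rw [h1] at h2
        exact absurd (congrArg π (Subtype.ext (mul_right_cancel h2) : (⟨x, hs.mem⟩ : Q) = ⟨y, hy.mem⟩)) hne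
    refine mem_inf.2 ⟨mem_inf.2 ⟨hd.1, mem_centralizer_singleton_iff.2 (hab z ⟨P.hz, hzy⟩)⟩,
      mem_centralizer_singleton_iff.2 ((hy.pair S.hX S.hp).hQ'.comm d hd.2)⟩
  have hcD₂ : Nat.card D₂ = 32 := by
    obtain ⟨b, hb⟩ := hs.conj
    have hy' : IsStd z Q (b⁻¹ * y * b) := by
      obtain ⟨c, hc⟩ := hy.conj
      refine ⟨⟨b⁻¹ * c, by rw [← hc]; group⟩, (mem_Qc S.hX hb).1 hyx, fun h => ?_⟩
      refine hne (congrArg π (Subtype.ext ?_))
      show x = y
      rw [← hb, ← h]; group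
    have h1 : D₂ = (Q ⊓ Qc z Q (b⁻¹ * y * b)).map (MulAut.conj b).toMonoidHom := by
      ext d
      rw [hD₂, Subgroup.mem_map_equiv, MulAut.conj_symm_apply, mem_inf, mem_inf, mem_Qc S.hX hb,
        and_congr_right_iff]
      intro _
      have := mem_Qc_conj S.hX hy'.conj b (b⁻¹ * d * b)
      rwa [show b * (b⁻¹ * d * b) * b⁻¹ = d by group,
        show b * (b⁻¹ * y * b) * b⁻¹ = y by group] at this
    rw [h1, Subgroup.card_map_of_injective (MulAut.conj b).injective, card_inter S L hy',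
      h16 _ hy']
  let ψ : ↥Rx →* P36 := φ.comp (Subgroup.inclusion (inf_le_left.trans inf_le_right))
  let ψ₂ : ↥D₂ →* P36 := ψ.comp (Subgroup.inclusion hD₂R)
  have hψ : ψ.range = ψ₂.range := by
    refine (eq_of_le_of_card_ge ?_ ?_).symm
    · rintro _ ⟨d, rfl⟩; exact ⟨_, rfl⟩
    have hk1 : 32 ≤ Nat.card ψ.ker := by
      rw [← h16 x hs |> fun h => show 2 * Nat.card (UU L x) = 32 by rw [h], ← card_inter S L hs]
      refine Nat.card_le_card_of_injective (fun d => ⟨⟨d.1, mem_inf.2 ⟨mem_inf.2 ⟨d.2.2,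
        mem_centralizer_singleton_iff.2 (S.hX.comm d d.2.1)⟩, mem_centralizer_singleton_iff.2 ?_⟩⟩,
        (S.ker _).2 d.2.1⟩) fun a b hab => Subtype.ext
          (congrArg (fun k : ψ.ker => ((k : ↥Rx) : G)) hab)
      exact congrArg Subtype.val
        (P.elementary.1.is_comm.comm ⟨d.1, d.2⟩ ⟨y, hy.mem, hyx⟩)
    have hk2 : Nat.card ψ₂.ker ≤ 8 := by
      have hsub : ((ψ₂.ker.map D₂.subtype : Subgroup G) : Set G) ⊆
          ↑({1, z, x, z * x, y, z * y, x * y, z * (x * y)} : Finset G) := by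
        rintro _ ⟨d, hd, rfl⟩
        have hdQ : (d : G) ∈ Q := (S.ker _).1 hd
        simp only [Finset.coe_insert, Finset.coe_singleton, Set.mem_insert_iff,
          Set.mem_singleton_iff, Subgroup.coe_subtype]
        rcases hint (π ⟨d, hdQ⟩) ⟨⟨d, hdQ⟩, d.2.1, rfl⟩ ⟨⟨d, hdQ⟩, d.2.2, rfl⟩ with h | h | h | h
        · rcases (pi_eq_zero L S.hX).1 h with h' | h'
          exacts [Or.inl h', Or.inr (Or.inl h')]
        · rcases (L.eq_iff _ _).1 h with h' | h'
          exacts [Or.inr (Or.inr (Or.inl h')), Or.inr (Or.inr (Or.inr (Or.inl h')))]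
        · rcases (L.eq_iff _ _).1 h with h' | h'
          exacts [Or.inr (Or.inr (Or.inr (Or.inr (Or.inl h')))),
            Or.inr (Or.inr (Or.inr (Or.inr (Or.inr (Or.inl h')))))]
        · rw [← L.map_mul] at h
          rcases (L.eq_iff _ _).1 h with h' | h'
          exacts [Or.inr (Or.inr (Or.inr (Or.inr (Or.inr (Or.inr (Or.inl h')))))),
            Or.inr (Or.inr (Or.inr (Or.inr (Or.inr (Or.inr (Or.inr h'))))))]
      have h1 := Set.ncard_le_ncard hsub (Set.toFinite _)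
      rw [Set.ncard_coe_finset, ← Nat.card_coe_set_eq] at h1
      rw [Nat.card_congr (equivMapOfInjective ψ₂.ker _ D₂.subtype_injective).toEquiv]
      refine h1.trans ?_
      iterate 7 refine (Finset.card_insert_le _ _).trans (Nat.succ_le_succ ?_)
      simp
    have e1 := card_mul_index ψ.ker
    have e2 := card_mul_index ψ₂.ker
    rw [index_ker] at e1 e2
    rw [hcD₂] at e2
    by_contra hlt
    have : Nat.card ψ₂.range + 1 ≤ Nat.card ψ.range := not_le.1 hlt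
    nlinarith
  obtain ⟨c, hc, rfl⟩ := mem_AA.1 ha
  have hcy : (c : G) * y * (c : G)⁻¹ = y := by
    have hcQ : (c : G) * y * (c : G)⁻¹ ∈ Q :=
      S.hX.norm c (mem_centralizer_singleton_iff.1 c.2) y hy.mem
    rw [L.act_eq c ⟨y, hy.mem⟩ ⟨_, hcQ⟩ rfl] at hay
    rcases (L.eq_iff _ _).1 hay with h1 | h1
    · exact h1
    rcases P.hQ'.commEl c hc y hyx with h2 | h2
    · exact h2
    · exact absurd (mul_right_cancel (h2.symm.trans h1)) hs.ne
  have hcR' : (c : G) ∈ Rx := mem_inf.2 ⟨mem_inf.2 ⟨hc, c.2⟩,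
    mem_centralizer_singleton_iff.2 (mul_inv_eq_iff_eq_mul.1 hcy)⟩
  obtain ⟨d, hd⟩ : φ c ∈ ψ₂.range := hψ ▸ ⟨⟨c, hcR'⟩, rfl⟩
  exact mem_AA.2 ⟨⟨d, (hD₂R d.2).1.2⟩, d.2.2, hd⟩

theorem orbit (h16 : Nat.card (UU L x) = 16) :
    (1 + 2 * Nat.card ({w | ∃ y : Q, IsStd z Q y ∧ π y = w ∧ UU L y = UU L x} : Set V)) ∣
      9999360 := by
  classical
  have P := hs.pair S.hX S.hp
  set D : Subgroup G := Q ⊓ Qc z Q x with hD
  have hDU : ∀ y, IsStd z Q y → UU L y = UU L x → Q ⊓ Qc z Q y = D := fun y hy he => by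
    ext d
    rw [hD, mem_inf, mem_inf, and_congr_right_iff]
    intro hdQ
    rw [← mem_UU_iff S L hy (d := ⟨d, hdQ⟩), he, mem_UU_iff S L hs]
  let f : ↥(normalizer (D : Set G)) →* MulAut D := D.normalizerMonoidHom
  let zD : D := ⟨z, S.hX.mem, P.hz⟩
  have key := card_orbit_dvd_GL (D := D) (N := ↥(normalizer (D : Set G)))
    (by rw [hD, card_inter S L hs, h16])
    (fun a b => Subtype.ext (congrArg Subtype.val (P.elementary.1.is_comm.comm a b)))
    (fun a => Subtype.ext (by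
      show (a : G) * a = 1
      rw [← pow_two]; exact P.elementary.2 a a.2)) f zD
  suffices hc : 1 + 2 * Nat.card ({w | ∃ y : Q, IsStd z Q y ∧ π y = w ∧ UU L y = UU L x} : Set V)
      = Nat.card ↥(Set.range fun n => f n zD) by
    rw [hc]; exact key
  have hf : ∀ (n : ↥(normalizer (D : Set G))) (d : D), ((f n d : D) : G) = n * d * (n : G)⁻¹ :=
    fun _ _ => rfl
  set T : Set V := {w | ∃ y : Q, IsStd z Q y ∧ π y = w ∧ UU L y = UU L x} with hT
  have hsec : ∀ w : T, ∃ y : Q, IsStd z Q y ∧ π y = w ∧ UU L y = UU L x := fun w => w.2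
  choose r hr hrw hrU using hsec
  have hmemD : ∀ y : Q, IsStd z Q y → UU L y = UU L x → (y : G) ∈ D := fun y hy he => by
    rw [← hDU y hy he]; exact ⟨y.2, (hy.pair S.hX S.hp).hQ'.mem⟩
  have hin : ∀ (y : Q) (hy : IsStd z Q y) (he : UU L y = UU L x),
      (⟨y, hmemD y hy he⟩ : D) ∈ Set.range fun n => f n zD := by
    intro y hy he
    obtain ⟨t, -, ht1, ht2⟩ := hy.swap S.hX S.hp
    refine ⟨⟨t, mem_normalizer_iff.2 fun d => ?_⟩, Subtype.ext ?_⟩
    · rw [← hDU y hy he, mem_inf, mem_inf, (hy.swap_mem S.hX S.hp ht1 ht2 d).2,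
        (hy.swap_mem S.hX S.hp ht1 ht2 d).1, and_comm]
    · rw [hf]; exact ht1
  let F : Option (Bool × T) → ↥(Set.range fun n => f n zD) := fun o =>
    match o with
    | none => ⟨zD, 1, by simp⟩
    | some (true, w) => ⟨_, hin (⟨z, S.hX.mem⟩ * r w) ((hr w).z_mul S.hX S.hp)
        ((UU_z_mul S L (hr w)).trans (hrU w))⟩
    | some (false, w) => ⟨_, hin (r w) (hr w) (hrU w)⟩
  have hv : ∀ o, (((F o : D)) : G) = match o with
      | none => z
      | some (true, w) => z * (r w : G)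
      | some (false, w) => (r w : G) := by
    rintro (_ | ⟨_ | _, w⟩) <;> rfl
  have hFinj : Function.Injective F := by
    have hne1 : ∀ w, ((r w : Q) : G) ≠ 1 := fun w h1 => by
      obtain ⟨b, hb⟩ := (hr w).conj
      rw [h1] at hb
      exact S.hX.ne_one (conj_eq_one_iff.1 hb)
    intro o o' h
    have h' := congrArg (fun k : ↥(Set.range fun n => f n zD) => ((k : D) : G)) h
    simp only [hv] at h'
    rcases o with _ | ⟨_ | _, w⟩ <;> rcases o' with _ | ⟨_ | _, w'⟩ <;> simp only at h'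
    · rfl
    · exact absurd h'.symm (hr w').ne
    · exact absurd (mul_eq_left.1 h'.symm) (hne1 w')
    · exact absurd h' (hr w).ne
    · rw [show w = w' from Subtype.ext (by rw [← hrw w, ← hrw w', Subtype.ext h'])]
    · have hw : w = w' := Subtype.ext (by rw [← hrw w, ← hrw w']; exact (L.eq_iff _ _).2 (Or.inr h'))
      rw [hw] at h'
      exact absurd (mul_eq_right.1 h'.symm) S.hX.ne_one
    · exact absurd (mul_eq_left.1 h') (hne1 w)
    · have hw : w' = w := Subtype.ext (by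
        rw [← hrw w, ← hrw w']; exact (L.eq_iff _ _).2 (Or.inr h'.symm))
      rw [hw] at h'
      exact absurd (mul_eq_right.1 h') S.hX.ne_one
    · rw [show w = w' from Subtype.ext (by
        rw [← hrw w, ← hrw w', Subtype.ext (mul_left_cancel h')])]
  have hFsurj : Function.Surjective F := by
    rintro ⟨d, n, hn⟩
    by_cases hdz : (d : G) = z
    · exact ⟨none, Subtype.ext (Subtype.ext hdz.symm)⟩
    have hd : IsStd z Q d :=
      ⟨⟨n, by rw [← hn, hf]⟩, d.2.1, hdz⟩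
    have hsub : ∀ e ∈ D, e ∈ Qc z Q d := fun e he => by
      rw [mem_Qc S.hX (a := (n : G)) (by rw [← hn, hf])]
      exact ((mem_normalizer_iff.1 n.2 ((n : G)⁻¹ * e * n)).2 (by
        rwa [show (n : G) * ((n : G)⁻¹ * e * n) * (n : G)⁻¹ = e by group])).1
    have hU : UU L (d : G) = UU L x := by
      haveI := g.finiteV
      refine (AddSubgroup.eq_of_le_of_card_ge ?_ (h16.symm ▸ card_UU_le S L hd)).symm
      rintro _ ⟨e, he, rfl⟩
      exact ⟨e, hsub e ⟨e.2, he⟩, rfl⟩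
    let w : T := ⟨π ⟨d, d.2.1⟩, ⟨d, d.2.1⟩, hd, rfl, hU⟩
    rcases (L.eq_iff (r w) ⟨d, d.2.1⟩).1 (hrw w) with h1 | h1
    · exact ⟨some (false, w), Subtype.ext (Subtype.ext ((hv (some (false, w))).trans h1))⟩
    · refine ⟨some (true, w), Subtype.ext (Subtype.ext ((hv (some (true, w))).trans ?_))⟩
      show z * (r w : G) = d
      rw [h1, ← mul_assoc, S.hX.inv, one_mul]
  haveI := g.finiteV
  rw [← Nat.card_eq_of_bijective F ⟨hFinj, hFsurj⟩, Finite.card_option, Nat.card_prod,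
    Nat.card_eq_fintype_card (α := Bool), Fintype.card_bool, add_comm]

end CfsgLib.NoSixCent.Fused
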