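import Cfsg.Agent.Lib.NoSixCent.Basic

/-!
Conjugates `x` of `z` in `Q` and the pairs `Q`, `Q_x`; the group side of the fused case.
-/

set_option autoImplicit false
set_option linter.unusedSectionVars false
set_option linter.style.haveILetI false

namespace CfsgLib.NoSixCent.Fused

open CfsgLib.ThreeTransp Subgroup

universe u

variable {G : Type u} [Group G]

/-- `x` is conjugate to `z`. -/
def IsConjZ (z x : G) : Prop := ∃ a : G, a * z * a⁻¹ = x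

open Classical in
/-- The conjugate of `Q` belonging to the conjugate `x` of `z`. -/
noncomputable def Qc (z : G) (Q : Subgroup G) (x : G) : Subgroup G :=
  if h : IsConjZ z x then Q.map (MulAut.conj h.choose).toMonoidHom else ⊥

variable [Finite G] {z : G} {Q : Subgroup G}

theorem Qc_eq (h : XCent Q z) {a x : G} (hax : a * z * a⁻¹ = x) :
    Qc z Q x = Q.map (MulAut.conj a).toMonoidHom := by
  have hx : IsConjZ z x := ⟨a, hax⟩
  rw [Qc, dif_pos hx]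
  ext y
  exact h.mem_map_iff (hx.choose_spec.trans hax.symm) y

theorem mem_Qc (h : XCent Q z) {a x y : G} (hax : a * z * a⁻¹ = x) :
    y ∈ Qc z Q x ↔ a⁻¹ * y * a ∈ Q := by
  rw [Qc_eq h hax, Subgroup.mem_map_equiv, MulAut.conj_symm_apply]

theorem mem_Qc_conj (h : XCent Q z) {x : G} (hx : IsConjZ z x) (g y : G) :
    g * y * g⁻¹ ∈ Qc z Q (g * x * g⁻¹) ↔ y ∈ Qc z Q x := by
  obtain ⟨a, ha⟩ := hx
  rw [mem_Qc h ha, mem_Qc h (a := g * a) (by rw [← ha]; group)]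
  rw [show (g * a)⁻¹ * (g * y * g⁻¹) * (g * a) = a⁻¹ * y * a by group]

theorem mem_Qc_z (h : XCent Q z) (y : G) : y ∈ Qc z Q z ↔ y ∈ Q := by
  rw [mem_Qc h (a := 1) (by group)]
  simp

theorem card_Qc (h : XCent Q z) {x : G} (hx : IsConjZ z x) : Nat.card (Qc z Q x) = Nat.card Q := by
  obtain ⟨a, ha⟩ := hx
  rw [Qc_eq h ha]
  exact Subgroup.card_map_of_injective (MulAut.conj a).injective

theorem Qc_comm (h : XCent Q z) {x y : G} (hx : IsConjZ z x) (hy : IsConjZ z y)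
    (hyx : y ∈ Qc z Q x) : x ∈ Qc z Q y := by
  obtain ⟨a, rfl⟩ := hx
  obtain ⟨b, rfl⟩ := hy
  rw [mem_Qc h (a := a) rfl] at hyx
  have h1 := h.mem_conj (a⁻¹ * b) (by
    rw [show a⁻¹ * b * z * (a⁻¹ * b)⁻¹ = a⁻¹ * (b * z * b⁻¹) * a by group]; exact hyx)
  rw [Subgroup.mem_map_equiv, MulAut.conj_symm_apply] at h1
  rw [mem_Qc h (a := b) rfl]
  rwa [show b⁻¹ * (a * z * a⁻¹) * b = (a⁻¹ * b)⁻¹ * z * (a⁻¹ * b) by group]

/-- A conjugate of `z` in `Q`, different from `z`. -/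
structure IsStd (z : G) (Q : Subgroup G) (x : G) : Prop where
  conj : IsConjZ z x
  mem : x ∈ Q
  ne : x ≠ z

namespace IsStd

variable {x : G} (h : XCent Q z) (hp : IsPGroup 2 Q) (hs : IsStd z Q x)
include h hp hs

theorem pair : TwoPair Q (Qc z Q x) z x := by
  obtain ⟨g, hg⟩ := hs.conj
  rw [Qc_eq h hg]
  have hQ' := h.conj g
  rw [hg] at hQ'
  refine ⟨h, hQ', hp, hp.map _, hs.mem, h.mem_conj g (hg ▸ hs.mem), hs.ne, fun a b hab y => ?_⟩
  rw [← h.mem_map_iff (a := a * g) (b := b) (by rw [← hab, ← hg]; group) y]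
  simp only [Subgroup.mem_map_equiv, MulAut.conj_symm_apply]
  simp [mul_assoc]

theorem conj_of_comm {m : G} (hm : m * z = z * m) : IsStd z Q (m * x * m⁻¹) := by
  obtain ⟨g, hg⟩ := hs.conj
  refine ⟨⟨m * g, by rw [← hg]; group⟩, h.norm m hm x hs.mem, fun he => hs.ne ?_⟩
  have h1 : m * z * m⁻¹ = z := mul_inv_eq_iff_eq_mul.2 hm
  exact mul_left_cancel (mul_right_cancel (he.trans h1.symm))

theorem exists_move : ∃ p ∈ Q, p * x * p⁻¹ = z * x := (hs.pair h hp).moves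

theorem z_mul : IsStd z Q (z * x) := by
  obtain ⟨p, hpQ, hpx⟩ := hs.exists_move h hp
  exact hpx ▸ hs.conj_of_comm h hp (h.comm p hpQ)

/-- An element interchanging `z` and `x`. -/
theorem swap : ∃ t ∈ Q ⊔ Qc z Q x, t * z * t⁻¹ = x ∧ t * x * t⁻¹ = z := by
  have P := hs.pair h hp
  obtain ⟨p, hpQ, p', hp', hpx, hpz, -⟩ := P.exists_braid
  have hzp : p * z * p⁻¹ = z := mul_inv_eq_iff_eq_mul.2 (P.hQ.comm p hpQ)
  have hxp : p' * x * p'⁻¹ = x := mul_inv_eq_iff_eq_mul.2 (P.hQ'.comm p' hp')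
  have hpzx : p * (z * x) * p⁻¹ = x := by
    rw [show p * (z * x) * p⁻¹ = p * z * p⁻¹ * (p * x * p⁻¹) by group, hzp, hpx,
      ← mul_assoc, P.hQ.inv, one_mul]
  refine ⟨p * p' * p, mul_mem (mul_mem (mem_sup_left hpQ) (mem_sup_right hp')) (mem_sup_left hpQ),
    ?_, ?_⟩
  · rw [show p * p' * p * z * (p * p' * p)⁻¹ = p * (p' * (p * z * p⁻¹) * p'⁻¹) * p⁻¹ by group,
      hzp, hpz, hpzx]
  · rw [show p * p' * p * x * (p * p' * p)⁻¹ = p * (p' * (p * x * p⁻¹) * p'⁻¹) * p⁻¹ by group,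
      hpx, show p' * (z * x) * p'⁻¹ = p' * z * p'⁻¹ * (p' * x * p'⁻¹) by group, hpz, hxp,
      mul_assoc z, P.hQ'.inv, mul_one, hzp]

theorem swap_mem {t : G} (ht1 : t * z * t⁻¹ = x) (ht2 : t * x * t⁻¹ = z) (y : G) :
    (t * y * t⁻¹ ∈ Qc z Q x ↔ y ∈ Q) ∧ (t * y * t⁻¹ ∈ Q ↔ y ∈ Qc z Q x) := by
  constructor
  · conv_lhs => rw [← ht1]
    rw [mem_Qc_conj h ⟨1, by group⟩, mem_Qc_z h]
  · rw [← mem_Qc_z h, show Qc z Q z = Qc z Q (t * x * t⁻¹) by rw [ht2], mem_Qc_conj h hs.conj]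

theorem inter_z_mul (d : G) (hd : d ∈ Q) (hdx : d ∈ Qc z Q x) : d ∈ Qc z Q (z * x) := by
  obtain ⟨p, hpQ, hpx⟩ := hs.exists_move h hp
  have P := hs.pair h hp
  rw [← hpx, show d = p * (p⁻¹ * d * p) * p⁻¹ by group, mem_Qc_conj h hs.conj]
  rcases h.commEl p⁻¹ (inv_mem hpQ) d hd with hh | hh <;> rw [inv_inv] at hh <;> rw [hh]
  · exact hdx
  · exact mul_mem P.hz hdx

theorem commute_of_move {m : G} (hm : m * x * m⁻¹ = x) : m * x = x * m :=
  mul_inv_eq_iff_eq_mul.1 hm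

end IsStd

end CfsgLib.NoSixCent.Fused
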