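import Cfsg.Agent.Lib.NoSixCent.FusedPairs

/-!
The images of `Q ∩ Q_x` in `V` and of `C_{Q_x}(z)` in `C/Q`, and their orders.
-/

set_option autoImplicit false
set_option linter.unusedSectionVars false
set_option linter.style.haveILetI false

namespace CfsgLib.NoSixCent.Fused

open CfsgLib.ThreeTransp Subgroup

universe u

variable {G : Type u} [Group G] [Finite G] {z : G} {Q : Subgroup G}
  {φ : ↥(Cz z) →* P36} {V : Type u} [AddCommGroup V] {g : Geo V φ.range} {π : ↥Q → V}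

/-- A subgroup with a two-coset complement. -/
theorem card_eq_two_mul {H K : Subgroup G} (hKH : K ≤ H) {p : G} (hp : p ∈ H) (hpK : p ∉ K)
    (hall : ∀ q ∈ H, q ∈ K ∨ p⁻¹ * q ∈ K) : Nat.card H = 2 * Nat.card K := by
  classical
  refine (Nat.card_congr (Equiv.ofBijective
    (fun c : Bool × K => if c.1 then (⟨p * (c.2 : G), mul_mem hp (hKH c.2.2)⟩ : H)
      else ⟨c.2, hKH c.2.2⟩) ⟨?_, ?_⟩).symm).trans ?_
  · rintro ⟨b, c⟩ ⟨b', c'⟩ hcc
    have hcc' := congrArg Subtype.val hcc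
    cases b <;> cases b' <;> simp only [Bool.false_eq_true, if_false, if_true] at hcc'
    · rw [Subtype.ext hcc']
    · exact absurd ((mul_mem_cancel_right c'.2).1 (hcc' ▸ c.2)) hpK
    · exact absurd ((mul_mem_cancel_right c.2).1 (hcc'.symm ▸ c'.2)) hpK
    · rw [Subtype.ext (mul_left_cancel hcc')]
  · rintro ⟨q, hq⟩
    rcases hall q hq with hk | hk
    · exact ⟨(false, ⟨q, hk⟩), by simp⟩
    · exact ⟨(true, ⟨_, hk⟩), by simp⟩
  · rw [Nat.card_prod, Nat.card_eq_fintype_card (α := Bool), Fintype.card_bool]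

section Proj

variable (L : Link z Q φ g π)
include L

theorem pi_one : π 1 = 0 := by
  have := L.map_mul 1 1
  rw [mul_one] at this
  exact left_eq_add.1 this

theorem pi_inv (a : Q) : π a⁻¹ = π a := by
  have := L.map_mul a⁻¹ a
  rw [inv_mul_cancel, pi_one L] at this
  exact g.add_eq_zero_iff.1 this.symm

theorem pi_eq_zero (h : XCent Q z) {a : Q} : π a = 0 ↔ (a : G) = 1 ∨ (a : G) = z := by
  rw [← pi_one L, L.eq_iff, OneMemClass.coe_one, mul_one]

theorem pi_z_mul (h : XCent Q z) (a : Q) : π (⟨z, h.mem⟩ * a) = π a := by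
  rw [L.map_mul, (pi_eq_zero L h).2 (Or.inr rfl), zero_add]

end Proj

/-- The image of `Q ∩ Q_x` in `V`. -/
def UU (L : Link z Q φ g π) (x : G) : AddSubgroup V where
  carrier := {w | ∃ d : Q, (d : G) ∈ Qc z Q x ∧ π d = w}
  zero_mem' := ⟨1, one_mem _, pi_one L⟩
  add_mem' := by
    rintro _ _ ⟨a, ha, rfl⟩ ⟨b, hb, rfl⟩
    exact ⟨a * b, mul_mem ha hb, L.map_mul a b⟩
  neg_mem' := by
    rintro _ ⟨a, ha, rfl⟩
    exact ⟨a⁻¹, inv_mem ha, (pi_inv L a).trans (g.neg_eq _).symm⟩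

/-- The image of `C_{Q_x}(z)` in `C / Q`. -/
noncomputable def AA (φ : ↥(Cz z) →* P36) (Q : Subgroup G) (x : G) : Subgroup P36 :=
  ((Qc z Q x).subgroupOf (Cz z)).map φ

theorem mem_AA {x : G} {a : P36} :
    a ∈ AA φ Q x ↔ ∃ m : Cz z, (m : G) ∈ Qc z Q x ∧ φ m = a := Iff.rfl

section Facts

variable (S : Setting z Q φ) (L : Link z Q φ g π) {x : G} (hs : IsStd z Q x)
include S L hs

theorem mem_UU_iff {d : Q} : π d ∈ UU L x ↔ (d : G) ∈ Qc z Q x := by
  refine ⟨fun ⟨e, he, hed⟩ => ?_, fun hd => ⟨d, hd, rfl⟩⟩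
  rcases (L.eq_iff e d).1 hed with h1 | h1
  · rwa [← h1]
  · rw [show (d : G) = z * (e : G) by rw [h1, ← mul_assoc, S.hX.inv, one_mul]]
    exact mul_mem (hs.pair S.hX S.hp).hz he

theorem UU_z_mul : UU L (z * x) = UU L x := by
  have key : ∀ y, IsStd z Q y → UU L y ≤ UU L (z * y) := by
    rintro y hy _ ⟨d, hd, rfl⟩
    exact ⟨d, hy.inter_z_mul S.hX S.hp d d.2 hd, rfl⟩
  refine le_antisymm ?_ (key x hs)
  have h := key _ (hs.z_mul S.hX S.hp)
  rwa [← mul_assoc, S.hX.inv, one_mul] at h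

theorem AA_z_mul : AA φ Q (z * x) = AA φ Q x := by
  have key : ∀ y, IsStd z Q y → AA φ Q y ≤ AA φ Q (z * y) := by
    intro y hy a ha
    obtain ⟨m, hm, rfl⟩ := mem_AA.1 ha
    obtain ⟨p, hpQ, hpy⟩ := hy.exists_move S.hX S.hp
    have hpC : p ∈ Cz z := mem_centralizer_singleton_iff.2 (S.hX.comm p hpQ)
    refine mem_AA.2 ⟨⟨p, hpC⟩ * m * (⟨p, hpC⟩ : Cz z)⁻¹, ?_, ?_⟩
    · show p * m * p⁻¹ ∈ _
      rw [← hpy]
      exact (mem_Qc_conj S.hX hy.conj p m).2 hm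
    · rw [map_mul, map_mul, map_inv, (S.ker ⟨p, hpC⟩).2 hpQ, one_mul, inv_one, mul_one]
  refine le_antisymm ?_ (key x hs)
  have h := key _ (hs.z_mul S.hX S.hp)
  rwa [← mul_assoc, S.hX.inv, one_mul] at h

theorem card_inter : Nat.card ↥(Q ⊓ Qc z Q x) = 2 * Nat.card (UU L x) := by
  classical
  have P := hs.pair S.hX S.hp
  have hsec : ∀ w : UU L x, ∃ d : Q, (d : G) ∈ Qc z Q x ∧ π d = w := fun w => w.2
  choose r hr hrw using hsec
  refine (Nat.card_congr (Equiv.ofBijective (fun c : Bool × UU L x =>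
    if c.1 then (⟨z * (r c.2 : G), mul_mem S.hX.mem (r c.2).2, mul_mem P.hz (hr c.2)⟩ :
      ↥(Q ⊓ Qc z Q x))
    else ⟨r c.2, (r c.2).2, hr c.2⟩) ⟨?_, ?_⟩).symm).trans ?_
  · rintro ⟨b, c⟩ ⟨b', c'⟩ hcc
    have hcc' := congrArg Subtype.val hcc
    have hne : ∀ y : G, z * y ≠ y := fun y hy => S.hX.ne_one (mul_eq_right.1 hy)
    cases b <;> cases b' <;> simp only [Bool.false_eq_true, if_false, if_true] at hcc'
    · exact congrArg _ (Subtype.ext (by rw [← hrw c, ← hrw c', Subtype.ext hcc']))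
    · have hc : c = c' := Subtype.ext (by
        rw [← hrw c, ← hrw c']; exact (L.eq_iff _ _).2 (Or.inr hcc'))
      rw [hc] at hcc'
      exact absurd hcc'.symm (hne _)
    · have hc : c = c' := Subtype.ext (by
        rw [← hrw c, ← hrw c']; exact ((L.eq_iff _ _).2 (Or.inr hcc'.symm)).symm)
      rw [hc] at hcc'
      exact absurd hcc' (hne _)
    · exact congrArg _ (Subtype.ext (by rw [← hrw c, ← hrw c', Subtype.ext (mul_left_cancel hcc')]))
  · rintro ⟨d, hdQ, hdx⟩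
    let w : UU L x := ⟨π ⟨d, hdQ⟩, ⟨d, hdQ⟩, hdx, rfl⟩
    rcases (L.eq_iff ⟨d, hdQ⟩ (r w)).1 (hrw w).symm with h1 | h1
    · exact ⟨(false, w), Subtype.ext h1.symm⟩
    · exact ⟨(true, w), Subtype.ext h1.symm⟩
  · rw [Nat.card_prod, Nat.card_eq_fintype_card (α := Bool), Fintype.card_bool]

theorem card_cent : Nat.card ↥(Qc z Q x ⊓ Cz z) = 256 := by
  have P := hs.pair S.hX S.hp
  obtain ⟨p', hp', hpz⟩ := P.symm.moves
  have h2 := card_eq_two_mul (H := Qc z Q x) (K := Qc z Q x ⊓ Cz z) inf_le_left hp'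
    (fun hc => P.hQ'.ne_one (by
      have h1 := mul_inv_eq_iff_eq_mul.2 (mem_centralizer_singleton_iff.1 hc.2)
      rw [hpz] at h1
      exact mul_eq_right.1 h1))
    (fun q hq => by
      rcases P.hQ'.commEl q hq z P.hz with h1 | h1
      · exact Or.inl ⟨hq, mem_centralizer_singleton_iff.2 (mul_inv_eq_iff_eq_mul.1 h1)⟩
      · refine Or.inr (mem_inf.2 ⟨mul_mem (inv_mem hp') hq, mem_centralizer_singleton_iff.2
          (mul_inv_eq_iff_eq_mul.1 ?_)⟩)
        rw [show p'⁻¹ * q * z * (p'⁻¹ * q)⁻¹ = p'⁻¹ * (q * z * q⁻¹) * p' by group, h1, ← hpz]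
        group)
  rw [card_Qc S.hX hs.conj, S.card] at h2
  omega

theorem card_UU_le : Nat.card (UU L x) ≤ 16 := by
  haveI := g.finiteV
  have P := hs.pair S.hX S.hp
  have hle : UU L x ≤ g.perp (UU L x : Set V) := by
    rintro _ ⟨a, ha, rfl⟩ _ ⟨b, hb, rfl⟩
    exact (L.comm_iff a b).2
      (congrArg Subtype.val (P.elementary.1.is_comm.comm ⟨_, a.2, ha⟩ ⟨_, b.2, hb⟩))
  have h1 := g.card_mul_card_perp (UU L x)
  have h2 : Nat.card (UU L x) ≤ Nat.card (g.perp (UU L x : Set V)) :=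
    Nat.card_le_card_of_injective _ (AddSubgroup.inclusion_injective hle)
  nlinarith

theorem card_AA : Nat.card (AA φ Q x) * Nat.card (UU L x) = 128 := by
  have P := hs.pair S.hX S.hp
  let ψ : ↥(Qc z Q x ⊓ Cz z) →* P36 := φ.comp (Subgroup.inclusion inf_le_right)
  have hr : ψ.range = AA φ Q x := by
    ext a
    rw [mem_AA]
    exact ⟨fun ⟨m, hm⟩ => ⟨⟨m, m.2.2⟩, m.2.1, hm⟩, fun ⟨m, hm, hma⟩ => ⟨⟨m, hm, m.2⟩, hma⟩⟩
  have hk : Nat.card ψ.ker = Nat.card ↥(Q ⊓ Qc z Q x) := Nat.card_congr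
    { toFun := fun m => ⟨m.1.1, (S.ker _).1 m.2, m.1.2.1⟩
      invFun := fun d => ⟨⟨d.1, d.2.2, mem_centralizer_singleton_iff.2 (S.hX.comm d d.2.1)⟩,
        (S.ker _).2 d.2.1⟩
      left_inv := fun _ => rfl
      right_inv := fun _ => rfl }
  have e := Subgroup.card_mul_index ψ.ker
  rw [Subgroup.index_ker, hr, hk, card_inter S L hs, card_cent S L hs] at e
  linarith

end Facts

end CfsgLib.NoSixCent.Fused
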