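import Cfsg.Agent.Lib.NoSixCent.FusedTCore

/-!
Fused case, tensor type: pairs with an element inverting `dEl`.  Here `U x` contains the line of
`x`, has order 16, and the triangle configuration gives a contradiction.
-/

set_option autoImplicit false
set_option linter.unusedSectionVars false
set_option linter.style.haveILetI false

namespace CfsgLib.NoSixCent.FusedT

universe u

variable {V : Type u} [AddCommGroup V] {R : Subgroup P36} {g : Geo V R}
variable (f : FData g) {x : V} (hx : x ∈ f.Std)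
include f hx

theorem x_ne : x ≠ 0 := f.ne_zero x hx

theorem x_q : g.q x = 0 := f.U_q x hx x (f.x_U x hx)

theorem isot {v w : V} (hv : v ∈ f.U x) (hw : w ∈ f.U x) : g.b v w = 0 := by
  have h := g.q_add v w
  rw [f.U_q x hx v hv, f.U_q x hx w hw, f.U_q x hx _ (add_mem hv hw), zero_add, zero_add] at h
  exact h.symm

theorem A_mem {a : P36} (ha : a ∈ f.A x) : a ∈ R := f.A_le x hx ha

theorem A_act2 {a : P36} (ha : a ∈ f.A x) (v : V) : g.act a (g.act a v) = v := by
  rw [← g.act_mul a (A_mem f hx ha) a (A_mem f hx ha), f.A_sq x hx a ha, g.act_one]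

theorem A_comm {a c : P36} (ha : a ∈ f.A x) (hc : c ∈ f.A x) : a * c = c * a := by
  have h1 := f.A_sq x hx _ ((f.A x).mul_mem ha hc)
  have ha' : a⁻¹ = a := inv_eq_of_mul_eq_one_right (f.A_sq x hx a ha)
  have hc' : c⁻¹ = c := inv_eq_of_mul_eq_one_right (f.A_sq x hx c hc)
  rw [← inv_eq_of_mul_eq_one_right h1, mul_inv_rev, ha', hc']

theorem A_U_mem {a : P36} (ha : a ∈ f.A x) {u : V} (hu : u ∈ f.U x) : g.act a u ∈ f.U x := by
  rcases f.A_U x hx a ha u hu with h | h
  · rw [g.add_eq_zero_iff.mp h]; exact hu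
  · rw [← g.add_add_cancel (g.act a u) u, h]
    exact add_mem (f.x_U x hx) hu

theorem A_halve :
    Nat.card (f.A x) ≤ 2 * Nat.card (f.A x ⊓ lin : Subgroup P36) := by
  refine card_le_two_mul _ _ fun a ha c hc ha' hc' => ?_
  rw [mem_lin] at ha' hc' ⊢
  have e1 := (fst_or_inv3 (f.A_sq x hx a ha)).resolve_left ha'
  have e2 := (fst_or_inv3 (f.A_sq x hx c hc)).resolve_left hc'
  refine fst_eq_one_of_sq (fun h => ?_) (f.A_sq x hx _ ((f.A x).mul_mem ha hc))
  exact (inv3_mul e1).mp h e2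

theorem A_lin_D {a : P36} (ha : a ∈ f.A x) (ha1 : a.1 = 1) (hT : g.TypeT) :
    g.act a (D g x) = D g x := by
  rw [act_D_lin g hT (A_mem f hx ha) ha1, f.A_fix x hx a ha]

theorem U_card_le : Nat.card (f.U x) ≤ 16 ∧ (Nat.card (f.U x) = 16 → Nat.card (f.A x) = 8) := by
  have h1 := f.cardAU x hx
  have h2 := f.A_card x hx
  constructor
  · nlinarith
  · intro h; rw [h] at h1; omega

variable (hT : g.TypeT)
include hT

/-- a commutator in `U x` together with its translate -/
theorem com_pair {a : P36} (ha : a ∈ f.A x) (ha1 : a.1 = 1) {w : V} (hw : w ∈ lperp g x) :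
    g.act a w + w ∈ f.U x ∧ D g (g.act a w + w) ∈ f.U x := by
  refine ⟨f.A_perp x hx a ha w ((mem_lperp g).mp hw).1, ?_⟩
  rw [D_add, ← act_D_lin g hT (A_mem f hx ha) ha1]
  exact f.A_perp x hx a ha _ ((mem_lperp g).mp (D_lperp g hT hw)).1

theorem line_U {e : V} (he : e ∈ line g x) (h0 : e ≠ 0) (h1 : e ∈ f.U x) (h2 : D g e ∈ f.U x) :
    D g x ∈ f.U x := by
  rcases (mem_line g).mp he with rfl | rfl | rfl | rfl
  · exact absurd rfl h0
  · exact h2
  · exact h1
  · rw [← tt g x (D g x)]; exact add_mem (f.x_U x hx) h1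

variable {a' : P36} (ha' : a' ∈ f.A x) (hai : Inv3 a')
include ha' hai

theorem inv_Dx : g.act a' (D g x) = D g x + x := by
  rw [act_D_inv g hT (A_mem f hx ha') hai, f.A_fix x hx a' ha']

theorem inv_lperp {v : V} (hv : v ∈ lperp g x) : g.act a' v ∈ lperp g x := by
  rw [mem_lperp] at hv ⊢
  have e1 : g.act a' x = x := f.A_fix x hx a' ha'
  constructor
  · conv_lhs => rw [← e1]
    rw [g.b_act (A_mem f hx ha'), hv.1]
  · have h := g.b_act (A_mem f hx ha') v (D g x)
    rw [inv_Dx f hx hT ha' hai, g.b_add_right, hv.2] at h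
    have h' : g.b (g.act a' v) x = 0 := by
      conv_lhs => rw [← e1]
      rw [g.b_act (A_mem f hx ha'), hv.1]
    rwa [h', add_zero] at h

theorem Y_le_line {y : V} (h1 : y ∈ f.U x) (h2 : D g y ∈ f.U x) : y ∈ line g x := by
  have hR := A_mem f hx ha'
  have e3 := f.A_U x hx a' ha' _ h2
  rw [act_D_inv g hT hR hai] at e3
  rcases f.A_U x hx a' ha' y h1 with e | e
  · rw [g.add_eq_zero_iff.mp e, add_comm (D g y) y, g.add_add_cancel] at e3
    rcases e3 with h | h
    · rw [h]; exact zero_mem _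
    · rw [h]; exact self_mem_line g x
  · have e' : g.act a' y = y + x := by rw [← e, add_comm (g.act a' y) y, tt g]
    rw [e', D_add] at e3
    have e4 : D g y + D g x + (y + x) + D g y = D g x + x + y := by
      rw [add_comm (D g y) (D g x), add_comm y x, add_assoc (D g x) (D g y),
        add_comm (D g y) (x + y), ← add_assoc (D g x) (x + y), g.add_add_cancel, add_assoc]
    rw [e4] at e3
    rcases e3 with h | h
    · rw [← g.add_eq_zero_iff.mp h]
      exact add_mem (D_mem_line g x) (self_mem_line g x)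
    · have h' := congrArg (fun t => t + (D g x + x)) h
      rw [add_comm _ y, g.add_add_cancel] at h'
      rw [h']
      exact add_mem (self_mem_line g x) (add_mem (D_mem_line g x) (self_mem_line g x))

theorem Dx_mem : D g x ∈ f.U x := by
  by_contra hn
  have hfix : ∀ a ∈ f.A x ⊓ lin, ∀ w ∈ lperp g x, g.act a w = w := by
    intro a ha w hw
    obtain ⟨h1, h2⟩ := com_pair f hx hT ha.1 (mem_lin.mp ha.2) hw
    by_contra hne
    exact hn (line_U f hx hT (Y_le_line f hx hT ha' hai h1 h2)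
      (fun h => hne (g.add_eq_zero_iff.mp h)) h1 h2)
  have h1 := small g hT (x_ne f hx) (x_q f hx) _ (inf_le_left.trans (f.A_le x hx))
    (fun a ha => mem_lin.mp ha.2) hfix
  have h2 := A_halve f hx
  have h3 := f.A_card x hx
  omega

theorem line_le_U : line g x ≤ f.U x := line_le g (f.x_U x hx) (Dx_mem f hx hT ha' hai)

theorem U_le_lperp : f.U x ≤ lperp g x := fun _ hu => (mem_lperp g).mpr
  ⟨isot f hx hu (f.x_U x hx), isot f hx hu (Dx_mem f hx hT ha' hai)⟩

theorem com_line {a : P36} (ha : a ∈ f.A x) (ha1 : a.1 = 1) {w : V} (hw : w ∈ lperp g x) :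
    g.act a w + w ∈ line g x :=
  Y_le_line f hx hT ha' hai (com_pair f hx hT ha ha1 hw).1 (com_pair f hx hT ha ha1 hw).2

theorem card_U : Nat.card (f.U x) = 16 := by
  haveI := g.finiteV
  obtain ⟨v₀, h1, h2⟩ := exists_v0 g hT (x_ne f hx)
  obtain ⟨v₁, hv₁⟩ : ∃ v₁, v₀ + D g v₀ = v₁ := ⟨_, rfl⟩
  have e1 : g.b v₁ x = 0 := by rw [← hv₁, g.b_add, b_D_left g hT, h1, h2]; decide
  have e2 : g.b v₁ (D g x) = 1 := by rw [← hv₁, g.b_add, b_D, h1, h2]; decide
  have eD : D g v₁ = v₀ := by rw [← hv₁]; exact D_D_add_self g hT v₀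
  have hv₁L : v₁ ∉ lperp g x := fun h => by
    rw [((mem_lperp g).mp h).2] at e2; exact zero_ne_one e2
  have hDU := Dx_mem f hx hT ha' hai
  let W := f.U x ⊓ g.perp {v₁}
  have hDW : D g x ∉ W := fun h => by
    have h3 := h.2 v₁ rfl
    rw [g.b_symm, e2] at h3
    exact one_ne_zero h3
  have hW : 2 * Nat.card W ≤ Nat.card (f.U x) := by
    rw [← card_ext g hDW]; exact card_mono g (ext_le g inf_le_left hDU)
  let φ : (f.A x ⊓ lin : Subgroup P36) → W := fun a => ⟨g.act a v₁ + v₁, by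
    refine ⟨f.A_perp x hx a a.2.1 v₁ e1, ?_⟩
    rintro s rfl
    rw [g.b_symm]
    exact b_com g hT (A_mem f hx a.2.1) _ (f.U_q x hx _ (f.A_perp x hx a a.2.1 _ e1))⟩
  have hφ : Function.Injective φ := by
    rintro ⟨a, ha⟩ ⟨c, hc⟩ e
    have e' : g.act a v₁ + v₁ = g.act c v₁ + v₁ := congrArg Subtype.val e
    have hav : g.act a v₁ = g.act c v₁ := add_right_cancel e'
    obtain ⟨m, hm⟩ : ∃ m, g.act a v₁ + v₁ = m := ⟨_, rfl⟩
    have key : ∀ b ∈ f.A x ⊓ lin, g.act b v₁ + v₁ = m → ∀ w ∈ lperp g x,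
        g.b (g.act b w + w) v₁ = g.b w m := by
      intro b hb hbm w hw
      have hbR := A_mem f hx hb.1
      have h3 := g.b_act hbR w v₁
      have hl := line_le_U f hx hT ha' hai (com_line f hx hT ha' hai hb.1 (mem_lin.mp hb.2) hw)
      have hmU : m ∈ f.U x := hbm ▸ f.A_perp x hx b hb.1 v₁ e1
      obtain ⟨l, hl'⟩ : ∃ l, g.act b w + w = l := ⟨_, rfl⟩
      rw [hl'] at hl ⊢
      have eb1 : g.act b w = w + l := by rw [← hl', add_comm (g.act b w), tt g]
      have eb2 : g.act b v₁ = v₁ + m := by rw [← hbm, add_comm (g.act b v₁), tt g]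
      rw [eb1, eb2, g.b_add, g.b_add_right, g.b_add_right, isot f hx hl hmU, add_zero,
        add_assoc, add_eq_left] at h3
      exact (zmod2_eq_of_add_eq_zero _ _ h3).symm
    have hm' : g.act c v₁ + v₁ = m := e'.symm.trans hm
    have hL : ∀ w ∈ lperp g x, g.act a w = g.act c w := by
      intro w hw
      have k : ∀ w ∈ lperp g x, g.b (g.act a w + w + (g.act c w + w)) v₁ = 0 := fun w hw => by
        rw [g.b_add (g.act a w + w), key a ha hm w hw, key c hc hm' w hw, zmod2_add_self]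
      have hl : g.act a w + w + (g.act c w + w) ∈ line g x :=
        add_mem (com_line f hx hT ha' hai ha.1 (mem_lin.mp ha.2) hw)
          (com_line f hx hT ha' hai hc.1 (mem_lin.mp hc.2) hw)
      have h0 := line_zero g hT hv₁L hl (k w hw) (by
        rw [D_add, D_add, D_add, ← act_D_lin g hT (A_mem f hx ha.1) (mem_lin.mp ha.2),
          ← act_D_lin g hT (A_mem f hx hc.1) (mem_lin.mp hc.2)]
        exact k _ (D_lperp g hT hw))
      exact add_right_cancel (g.add_eq_zero_iff.mp h0)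
    refine Subtype.ext (eq_of_gen g hT (A_mem f hx ha.1) (A_mem f hx hc.1) (mem_lin.mp ha.2)
      (mem_lin.mp hc.2) h1 h2 hL ?_)
    rw [← eD, act_D_lin g hT (A_mem f hx ha.1) (mem_lin.mp ha.2),
      act_D_lin g hT (A_mem f hx hc.1) (mem_lin.mp hc.2), hav]
  have h3 := Nat.card_le_card_of_injective φ hφ
  have h4 := A_halve f hx
  have h5 := f.cardAU x hx
  have h6 := (U_card_le f hx).1
  have h7 : Nat.card (f.A x) ≤ Nat.card (f.U x) := by omega
  generalize Nat.card (f.U x) = n at *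
  have h8 : 12 ≤ n := by nlinarith
  interval_cases n <;> omega

theorem card_A0 : 4 ≤ Nat.card (f.A x ⊓ lin : Subgroup P36) := by
  have h1 := A_halve f hx
  have h2 := f.A_card x hx
  omega

/-- the fixed vectors of `a'` perpendicular to the line -/
def Fa : AddSubgroup V := lperp g x ⊓ g.fixSub (A_mem f hx ha')

theorem card_Fa_le : Nat.card (Fa f hx ha') ≤ 8 := by
  have h := card_fix_sq g hT (A_mem f hx ha') hai (lperp g x) fun v hv => D_lperp g hT hv
  rw [card_lperp g hT (x_ne f hx)] at h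
  exact Nat.mul_self_le_mul_self_iff.mp h

theorem U_split {u : V} (hu : u ∈ f.U x) :
    u ∈ Fa f hx ha' ∨ u + D g x ∈ Fa f hx ha' := by
  have hUL := U_le_lperp f hx hT ha' hai
  rcases f.A_U x hx a' ha' u hu with e | e
  · exact Or.inl ⟨hUL hu, g.add_eq_zero_iff.mp e⟩
  · refine Or.inr ⟨add_mem (hUL hu) (hUL (Dx_mem f hx hT ha' hai)), ?_⟩
    show g.act a' (u + D g x) = u + D g x
    rw [g.act_add a' (A_mem f hx ha'), inv_Dx f hx hT ha' hai]
    have e' : g.act a' u = u + x := by rw [← e, add_comm (g.act a' u) u, tt g]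
    rw [e', add_comm (D g x) x, add_assoc, tt g]

theorem Fa_le_U : Fa f hx ha' ≤ f.U x := by
  have hDF : D g x ∉ f.U x ⊓ Fa f hx ha' := fun h => by
    have : g.act a' (D g x) = D g x := h.2.2
    rw [inv_Dx f hx hT ha' hai, add_eq_left] at this
    exact x_ne f hx this
  have h1 : f.U x ≤ ext g (f.U x ⊓ Fa f hx ha') (D g x) := fun u hu => by
    rcases U_split f hx hT ha' hai hu with h | h
    · exact Or.inl ⟨hu, h⟩
    · exact Or.inr ⟨add_mem hu (Dx_mem f hx hT ha' hai), h⟩
  have h2 := card_mono g h1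
  rw [card_ext g hDF, card_U f hx hT ha' hai] at h2
  have h3 := card_Fa_le f hx hT ha' hai
  have h4 := eq_of_le_card g (inf_le_right : f.U x ⊓ Fa f hx ha' ≤ _) (by omega)
  rw [← h4]; exact inf_le_left

theorem card_Fa : Nat.card (Fa f hx ha') = 8 := by
  have hDF : D g x ∉ Fa f hx ha' := fun h => by
    have : g.act a' (D g x) = D g x := h.2
    rw [inv_Dx f hx hT ha' hai, add_eq_left] at this
    exact x_ne f hx this
  have h1 : f.U x ≤ ext g (Fa f hx ha') (D g x) := fun u hu =>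
    U_split f hx hT ha' hai hu
  have h2 := card_mono g h1
  rw [card_ext g hDF, card_U f hx hT ha' hai] at h2
  have h3 := card_Fa_le f hx hT ha' hai
  omega

theorem lperp_of_Fa {W : AddSubgroup V} (h : Fa f hx ha' ≤ W)
    (hD : ∀ v ∈ Fa f hx ha', D g v ∈ W) {w : V} (hw : w ∈ lperp g x) : w ∈ W := by
  obtain ⟨f₁, f₂, a1, a2, b1, b2, rfl⟩ := fix_decomp g hT (A_mem f hx ha') hai
    (f.A_sq x hx a' ha') (lperp g x) (fun v hv => D_lperp g hT hv)
    (fun v hv => inv_lperp f hx hT ha' hai hv) hw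
  exact add_mem (h ⟨a1, a2⟩) (hD f₂ ⟨b1, b2⟩)

theorem eq_on_lperp {a c : P36} (ha : a ∈ R) (hc : c ∈ R) (ha1 : a.1 = 1) (hc1 : c.1 = 1)
    (h : ∀ v ∈ Fa f hx ha', g.act a v = g.act c v) :
    ∀ w ∈ lperp g x, g.act a w = g.act c w := fun w hw =>
  lperp_of_Fa f hx hT ha' hai (W := eqs g ha hc) h (fun v hv => by
    show g.act a (D g v) = g.act c (D g v)
    rw [act_D_lin g hT ha ha1, act_D_lin g hT hc hc1, h v hv]) hw

theorem no_kernel {a : P36} (ha : a ∈ f.A x) (ha1 : a.1 = 1)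
    (hfix : ∀ w ∈ lperp g x, g.act a w = w) : a = 1 := by
  by_contra hne
  obtain ⟨v, hv, hvU, hvA⟩ := f.mirror x hx ⟨a, ha, hne, fun w hw =>
    mirror_pre g hT (x_ne f hx) (x_q f hx) (A_mem f hx ha) hfix hw⟩
  have hDU := Dx_mem f hx hT ha' hai
  obtain ⟨t, ht, htU, htA⟩ : ∃ t, g.act a' t = t ∧ t ∉ f.U x ∧
      ∀ c ∈ f.A x ⊓ lin, g.act c t + t ∈ line g x := by
    have hv' : ∀ c ∈ f.A x ⊓ lin, g.act c v + v ∈ line g x := fun c hc => by
      rcases hvA c hc.1 with e | e <;> rw [e]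
      exacts [zero_mem _, self_mem_line g x]
    rcases hvA a' ha' with e | e
    · exact ⟨v, g.add_eq_zero_iff.mp e, hvU, hv'⟩
    · refine ⟨v + D g x, ?_, fun h => hvU ?_, fun c hc => ?_⟩
      · have e' : g.act a' v = v + x := by rw [← e, add_comm (g.act a' v) v, tt g]
        rw [g.act_add a' (A_mem f hx ha'), inv_Dx f hx hT ha' hai, e', add_comm (D g x) x,
          add_assoc, tt g]
      · have := add_mem h hDU
        rwa [g.add_add_cancel] at this
      · rw [g.act_add c (A_mem f hx hc.1), A_lin_D f hx hc.1 (mem_lin.mp hc.2) hT,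
          add_add_add_comm, g.two, add_zero]
        exact hv' c hc
  have htL : t ∉ lperp g x := fun h => htU (Fa_le_U f hx hT ha' hai ⟨h, ht⟩)
  have h1 := small g hT (x_ne f hx) (x_q f hx) _ (inf_le_left.trans (f.A_le x hx))
    (fun c hc => mem_lin.mp hc.2) fun c hc =>
      fix_lperp g hT (A_mem f hx hc.1) (mem_lin.mp hc.2) (x_q f hx)
        (fun w hw => com_line f hx hT ha' hai hc.1 (mem_lin.mp hc.2) hw) htL (htA c hc)
  have h2 := card_A0 f hx hT ha' hai
  omega

/-- a common fixed vector of linear elements perpendicular to the line -/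
theorem fixed_lperp {a : P36} (ha : a ∈ f.A x) (ha1 : a.1 = 1) (hne : a ≠ 1) {y : V}
    (hy : g.act a y = y) : y ∈ lperp g x := by
  by_contra hL
  refine hne (no_kernel f hx hT ha' hai ha ha1 (fix_lperp g hT (A_mem f hx ha) ha1 (x_q f hx)
    (fun w hw => com_line f hx hT ha' hai ha ha1 hw) hL ?_))
  rw [hy, g.two]
  exact zero_mem _

theorem Fa_gen {y z : V} (hy : y ∈ Fa f hx ha') (hy0 : y ∉ ext g ⊥ x)
    (hz : z ∈ Fa f hx ha') (hz0 : z ∉ ext g (ext g ⊥ x) y) {W : AddSubgroup V}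
    (hxW : x ∈ W) (hyW : y ∈ W) (hzW : z ∈ W) : Fa f hx ha' ≤ W := by
  have hxF : x ∈ Fa f hx ha' :=
    ⟨line_le_lperp g hT (x_q f hx) (self_mem_line g x), f.A_fix x hx a' ha'⟩
  have hx0 : x ∉ (⊥ : AddSubgroup V) := by rw [AddSubgroup.mem_bot]; exact x_ne f hx
  have e := eq_of_le_card g (ext_le g (ext_le g (ext_le g bot_le hxF) hy) hz) (by
    rw [card_ext g hz0, card_ext g hy0, card_ext g hx0, AddSubgroup.card_bot,
      card_Fa f hx hT ha' hai])
  rw [← e]
  exact ext_le g (ext_le g (ext_le g bot_le hxW) hyW) hzW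

theorem no_fixed {y : V} (hy : y ∈ Fa f hx ha')
    (hfix : ∀ a ∈ f.A x ⊓ lin, g.act a y = y) : y ∈ ext g ⊥ x := by
  by_contra hy0
  have hx0 : x ∉ (⊥ : AddSubgroup V) := by rw [AddSubgroup.mem_bot]; exact x_ne f hx
  obtain ⟨z, hz, hz0⟩ := exists_not_mem g (W := ext g (ext g ⊥ x) y)
    (T := Fa f hx ha') (by
      rw [card_ext g hy0, card_ext g hx0, AddSubgroup.card_bot, card_Fa f hx hT ha' hai]
      norm_num)
  have key : ∀ a ∈ f.A x ⊓ lin, a ≠ 1 → g.act a z = z + x := by
    intro a ha hne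
    rcases f.A_U x hx a ha.1 z (Fa_le_U f hx hT ha' hai hz) with e | e
    · refine absurd (no_kernel f hx hT ha' hai ha.1 (mem_lin.mp ha.2) fun w hw => ?_) hne
      rw [eq_on_lperp f hx hT ha' hai (A_mem f hx ha.1) R.one_mem (mem_lin.mp ha.2) rfl
        (fun v hv => Fa_gen f hx hT ha' hai hy hy0 hz hz0
          (W := eqs g (A_mem f hx ha.1) R.one_mem) ?_ ?_ ?_ hv) w hw, g.act_one]
      · show g.act a x = g.act 1 x
        rw [g.act_one, f.A_fix x hx a ha.1]
      · show g.act a y = g.act 1 y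
        rw [g.act_one, hfix a ha]
      · show g.act a z = g.act 1 z
        rw [g.act_one, g.add_eq_zero_iff.mp e]
    · rw [← e, add_comm (g.act a z) z, tt g]
  have h1 := card_le_two (f.A x ⊓ lin) (fun a ha c hc ha0 hc0 => by
    have hac := (f.A x).mul_mem ha.1 hc.1
    have hacl : (a * c).1 = 1 := mem_lin.mp (lin.mul_mem ha.2 hc.2)
    have hL := eq_on_lperp f hx hT ha' hai (A_mem f hx ha.1) (A_mem f hx hc.1) (mem_lin.mp ha.2)
      (mem_lin.mp hc.2) fun v hv => Fa_gen f hx hT ha' hai hy hy0 hz hz0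
        (W := eqs g (A_mem f hx ha.1) (A_mem f hx hc.1))
        (show g.act a x = g.act c x by rw [f.A_fix x hx a ha.1, f.A_fix x hx c hc.1])
        (show g.act a y = g.act c y by rw [hfix a ha, hfix c hc])
        (show g.act a z = g.act c z by rw [key a ha ha0, key c hc hc0]) hv
    have h := no_kernel f hx hT ha' hai hac hacl fun w hw => by
      rw [g.act_mul a (A_mem f hx ha.1) c (A_mem f hx hc.1), ← hL w hw, A_act2 f hx ha.1]
    calc a = a * (c * c) := by rw [f.A_sq x hx c hc.1, mul_one]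
      _ = c := by rw [← mul_assoc, h, one_mul])
  have h2 := card_A0 f hx hT ha' hai
  omega

omit ha' hai in
theorem y_cases {y b : V} (h : y ∈ ext g ⊥ x) (hy : y ≠ 0) (hb : b = y) : b = x := by
  rcases (mem_bot_ext g).mp h with e | e
  · exact absurd e hy
  · exact hb.trans e

/-- fused tensor case with an inverting element -/
theorem caseA (F : P36Facts) (hall : ∀ v ∈ f.Std, ∃ c ∈ f.A v, Inv3 c) : False := by
  have hA8 : Nat.card (f.A x) = 8 := (U_card_le f hx).2 (card_U f hx hT ha' hai)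
  have hxne := x_ne f hx
  let H : Subgroup P36 := stab g {x}
  have hH : ∀ {h : P36}, h ∈ H ↔ h ∈ R ∧ g.act h x = x := by
    intro h; simp [H, mem_stab]
  obtain ⟨h, hhR, b₀, hb₀, a, ha, b₁, -, hb₀i, hani, hane, -, k1, k2, -, k4⟩ :=
    F.triangle R (f.A x) g.big (f.A_le x hx) hA8 (f.A_sq x hx) ⟨a', ha', hai⟩ H
      (fun _ hm => (hH.mp hm).1)
      (fun h => hxne (D_eq_self g hT (hH.mp h).2))
      (fun h hhR hnorm _ => by
        refine hH.mpr ⟨hhR, ?_⟩
        have hy := f.act_mem h hhR x hx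
        have hfix : ∀ c ∈ f.A x, g.act c (g.act h x) = g.act h x := by
          intro c hc
          refine f.A_fix _ hy c ?_
          have e : h * (h⁻¹ * c * h) * h⁻¹ = c := by group
          have h2 : h⁻¹ * c * h ∈ f.A x := (hnorm _).mpr (by rw [e]; exact hc)
          have h3 := (f.A_act h hhR x hx _).mp h2
          rwa [e] at h3
        obtain ⟨c, hc, hcne⟩ : ∃ c ∈ f.A x ⊓ lin, c ≠ 1 := by
          by_contra! hno
          have h4 := card_A0 f hx hT ha' hai
          rw [(Subgroup.eq_bot_iff_forall _).mpr hno, Subgroup.card_bot] at h4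
          omega
        have hyL := fixed_lperp f hx hT ha' hai hc.1 (mem_lin.mp hc.2) hcne (hfix c hc.1)
        exact y_cases f hx hT (no_fixed f hx hT ha' hai ⟨hyL, hfix a' ha'⟩
          fun d hd => hfix d hd.1) (f.ne_zero _ hy) rfl)
      (fun h hh c => by
        have := f.A_act h (hH.mp hh).1 x hx c
        rwa [(hH.mp hh).2] at this)
  have hy := f.act_mem h hhR x hx
  have ha1 : a.1 = 1 := fst_eq_one_of_sq hani (f.A_sq x hx a ha)
  have hb₀R := A_mem f hx hb₀
  have haR := A_mem f hx ha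
  have conjfix : ∀ c ∈ R, h⁻¹ * c * h ∈ H → g.act c (g.act h x) = g.act h x := by
    intro c hc hcH
    have e := (hH.mp hcH).2
    rw [g.act_mul _ (R.mul_mem (R.inv_mem hhR) hc) _ hhR, g.act_mul _ (R.inv_mem hhR) _ hc] at e
    conv_rhs => rw [← e, g.act_inv_right hhR]
  have hyb := conjfix b₀ hb₀R k1
  have hya := conjfix a haR k2
  have hne : x ≠ g.act h x := by
    intro e
    refine k4 ?_
    refine (f.A_act h hhR x hx _).mpr ?_
    rw [← e, show h * (h⁻¹ * b₀ * h) * h⁻¹ = b₀ by group]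
    exact hb₀
  obtain ⟨y, hye⟩ : ∃ y, g.act h x = y := ⟨_, rfl⟩
  rw [hye] at hy hyb hya hne
  have hy0 : y ≠ 0 := f.ne_zero y hy
  have hyF : y ∈ Fa f hx hb₀ :=
    ⟨fixed_lperp f hx hT hb₀ hb₀i ha ha1 hane hya, hyb⟩
  have hyU : y ∈ f.U x := Fa_le_U f hx hT hb₀ hb₀i hyF
  have hxUy : x ∈ f.U y := f.U_symm x hx y hy hyU
  have hb₀D := inv_Dx f hx hT hb₀ hb₀i
  have hDy : D g y ∉ f.U x := by
    intro hD
    rcases (mem_line g).mp (Y_le_line f hx hT hb₀ hb₀i hyU hD) with e | e | e | e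
    · exact hy0 e
    · exact hne e.symm
    · rw [e, hb₀D, add_eq_left] at hyb
      exact hxne hyb
    · rw [e, g.act_add b₀ hb₀R, f.A_fix x hx b₀ hb₀, hb₀D, add_comm (D g x) x, tt g,
        right_eq_add] at hyb
      exact hxne hyb
  obtain ⟨c, hc, hci⟩ := hall y hy
  have hDx : D g x ∉ f.U y := by
    intro hD
    rcases (mem_line g).mp (Y_le_line f hy hT hc hci hxUy hD) with e | e | e | e
    · exact hxne e
    · exact hne e
    · exact hDy (e ▸ f.x_U x hx)
    · exact hDy (by rw [← tt g y (D g y), ← e]; exact add_mem hyU (f.x_U x hx))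
  have hDyU : D g y ∈ f.U y := Dx_mem f hy hT hc hci
  have hM : ∀ u, u ∈ f.U x → u ∈ f.U y → u = 0 ∨ u = x ∨ u = y ∨ u = x + y := by
    intro u hu hu'
    obtain ⟨w, hw, hwu⟩ : ∃ w ∈ Fa f hx hb₀, u = w ∨ u = w + D g x := by
      rcases U_split f hx hT hb₀ hb₀i hu with e | e
      · exact ⟨u, e, Or.inl rfl⟩
      · exact ⟨_, e, Or.inr (g.add_add_cancel u _).symm⟩
    have hwy : g.b w (D g y) = 0 := by
      rcases hwu with rfl | rfl
      · exact isot f hy hu' hDyU
      · have := isot f hy hu' hDyU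
        rwa [g.b_add, b_D, isot f hx (f.x_U x hx) hyU, add_zero] at this
    by_cases hwm : w ∈ ext g (ext g ⊥ x) y
    · have hwUy : w ∈ f.U y :=
        ext_le g (ext_le g bot_le hxUy) (f.x_U y hy) hwm
      rcases hwu with rfl | rfl
      · rcases (mem_ext g).mp hwm with e | e
        · rcases (mem_bot_ext g).mp e with e | e
          exacts [Or.inl e, Or.inr (Or.inl e)]
        · rcases (mem_bot_ext g).mp e with e | e
          · exact Or.inr (Or.inr (Or.inl (g.add_eq_zero_iff.mp e)))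
          · exact Or.inr (Or.inr (Or.inr (by rw [← e, g.add_add_cancel])))
      · exact absurd (by rw [← tt g w (D g x)]; exact add_mem hwUy hu') hDx
    · exfalso
      have hy1 : y ∉ ext g ⊥ x := fun e => hne (y_cases f hx hT e hy0 rfl).symm
      have hle : Fa f hx hb₀ ≤ g.perp {D g y} :=
        Fa_gen f hx hT hb₀ hb₀i hyF hy1 hw hwm
          (fun s hs => by rw [Set.mem_singleton_iff.mp hs]; exact isot f hy hxUy hDyU)
          (fun s hs => by rw [Set.mem_singleton_iff.mp hs]; exact isot f hy (f.x_U y hy) hDyU)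
          (fun s hs => by rw [Set.mem_singleton_iff.mp hs]; exact hwy)
      refine hDy (line_le_U f hx hT hb₀ hb₀i (mem_line_of_perp g hT fun v hv => ?_))
      have := lperp_of_Fa f hx hT hb₀ hb₀i hle (fun v hv s hs => by
        rw [Set.mem_singleton_iff.mp hs, b_D]
        exact isot f hx (Fa_le_U f hx hT hb₀ hb₀i hv) hyU) hv
      rw [g.b_symm]
      exact this _ rfl
  have htri := f.triangle (fun v hv => by
      obtain ⟨d, hd, hdi⟩ := hall v hv
      exact card_U f hv hT hd hdi) x hx y hy hne hyU hM b₀ hb₀ hyb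
  refine k4 ((f.A_act h hhR x hx _).mpr ?_)
  rw [hye, show h * (h⁻¹ * b₀ * h) * h⁻¹ = b₀ by group]
  exact htri

end CfsgLib.NoSixCent.FusedT
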