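import Cfsg.Agent.Lib.NoSixCent.FusedTA

/-!
Fused case, tensor type: pairs centralised modulo `Q` by `dEl`.  Here `U x` is a subspace over the
field with four elements, pointwise fixed by `A x`, and the orbit count gives a contradiction.
-/

set_option autoImplicit false
set_option linter.unusedSectionVars false
set_option linter.style.haveILetI false

namespace CfsgLib.NoSixCent.FusedT

universe u

variable {V : Type u} [AddCommGroup V] {R : Subgroup P36} {g : Geo V R}
variable (f : FData g) {x : V} (hx : x ∈ f.Std) (F : P36Facts) (hT : g.TypeT)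
variable (hB : ∀ a ∈ f.A x, a.1 = 1)
include f hx F hT hB

theorem R_top : R = ⊤ := by
  by_contra h
  have h1 := F.elem_cent R (f.A x) g.big g.odd h (f.A_le x hx) (f.A_sq x hx) hB
  have h2 := f.A_card x hx
  omega

theorem B_cardA : Nat.card (f.A x) = 8 :=
  le_antisymm (F.elem_cent_le (f.A x) (f.A_sq x hx) hB) (f.A_card x hx)

theorem B_cardU : Nat.card (f.U x) = 16 := by
  have h := f.cardAU x hx
  rw [B_cardA f hx F hT hB] at h
  omega

theorem U_perp_eq : g.perp (f.U x : Set V) = f.U x := by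
  have h := g.card_mul_card_perp (f.U x)
  rw [B_cardU f hx F hT hB] at h
  refine (eq_of_le_card g (show f.U x ≤ g.perp (f.U x : Set V) from fun v hv s hs => isot f hx hv hs) ?_).symm
  rw [B_cardU f hx F hT hB]
  omega

theorem mem_U_of_perp {v : V} (h : ∀ u ∈ f.U x, g.b v u = 0) : v ∈ f.U x := by
  rw [← U_perp_eq f hx F hT hB]; exact h

theorem B_act_D {a : P36} (ha : a ∈ f.A x) (v : V) : g.act a (D g v) = D g (g.act a v) :=
  act_D_lin g hT (A_mem f hx ha) (hB a ha) v

theorem B_fix_Y {a : P36} (ha : a ∈ f.A x) {v : V} (hv : v ∈ f.U x) (hDv : D g v ∈ f.U x) :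
    g.act a v = v := by
  refine g.add_eq_zero_iff.mp ?_
  rcases f.A_U x hx a ha v hv with e | e
  · exact e
  · rcases f.A_U x hx a ha _ hDv with e' | e'
    all_goals rw [B_act_D f hx F hT hB ha, ← D_add, e] at e'
    · exact absurd (D_inj g (e'.trans (D_zero g).symm)) (x_ne f hx)
    · exact absurd (D_eq_self g hT e') (x_ne f hx)

theorem B_lperp {a : P36} (ha : a ∈ f.A x) {w v : V} :
    g.b (g.act a w + w) v = g.b w (g.act a v + v) := by
  have h := g.b_act (A_mem f hx ha) w (g.act a v)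
  rw [A_act2 f hx ha] at h
  rw [g.b_add, g.b_add_right, h]

theorem B_Dx : D g x ∈ f.U x := by
  by_contra hn
  haveI := g.finiteV
  have hq := x_q f hx
  have hxne := x_ne f hx
  have memL : ∀ y, y ∈ f.U x → D g y ∈ f.U x → y ∈ lperp g x := fun y h1 h2 => by
    refine (mem_lperp g).mpr ⟨isot f hx h1 (f.x_U x hx), ?_⟩
    have h := isot f hx h2 (f.x_U x hx)
    rwa [b_D_left g hT, isot f hx h1 (f.x_U x hx), add_zero] at h
  obtain ⟨u₀, hu₀, hu₀'⟩ : ∃ u₀ ∈ f.U x, g.b u₀ (D g x) = 1 := by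
    by_contra! h
    refine hn (mem_U_of_perp f hx F hT hB fun u hu => ?_)
    rw [g.b_symm]
    exact (zmod2_cases _).resolve_right (h u hu)
  by_cases hY : ∀ y, y ∈ f.U x → D g y ∈ f.U x → y = 0
  · have h1 := small g hT hxne hq (f.A x) (f.A_le x hx) hB fun a ha w hw => by
      obtain ⟨h1, h2⟩ := com_pair f hx hT ha (hB a ha) hw
      exact g.add_eq_zero_iff.mp (hY _ h1 h2)
    have h2 := f.A_card x hx
    omega
  push Not at hY
  obtain ⟨w, hwU, hDwU, hw0⟩ := hY
  have hwL := memL w hwU hDwU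
  have hlU : line g w ≤ f.U x := line_le g hwU hDwU
  have hxl : x ∉ line g w := fun h => hn (hlU (D_line g hT h))
  -- the vectors of `U` perpendicular to the line of `x`
  have hW : ∀ y, y ∈ f.U x → D g y ∈ f.U x → y ∈ line g w := by
    intro y h1 h2
    have hu0 : u₀ ∉ f.U x ⊓ lperp g x := fun h => by
      rw [((mem_lperp g).mp h.2).2] at hu₀'
      exact zero_ne_one hu₀'
    have c1 := card_mono g (ext_le g (inf_le_left : f.U x ⊓ lperp g x ≤ _) hu₀)
    rw [card_ext g hu0, B_cardU f hx F hT hB] at c1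
    have hle : ext g (line g w) x ≤ f.U x ⊓ lperp g x := ext_le g
      (le_inf hlU (line_le g hwL (D_lperp g hT hwL)))
      ⟨f.x_U x hx, line_le_lperp g hT hq (self_mem_line g x)⟩
    have e := eq_of_le_card g hle (by rw [card_ext g hxl, card_line g hT hw0]; omega)
    have hy : y ∈ ext g (line g w) x := e.symm ▸ ⟨h1, memL y h1 h2⟩
    rcases (mem_ext g).mp hy with h | h
    · exact h
    · have h3 := hlU (D_line g hT h)
      rw [D_add] at h3
      refine absurd ?_ hn
      rw [← tt g (D g y) (D g x)]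
      exact add_mem h2 h3
  have hqw : g.q w = 0 := f.U_q x hx w hwU
  -- `A` fixes the vectors perpendicular to both lines
  have hP : ∀ a ∈ f.A x, ∀ p ∈ lperp g x, g.b p w = 0 → g.b p (D g w) = 0 → g.act a p = p := by
    intro a ha p hp p1 p2
    obtain ⟨h1, h2⟩ := com_pair f hx hT ha (hB a ha) hp
    refine g.add_eq_zero_iff.mp (by_contra fun h0 => hn ?_)
    refine line_U f hx hT (mem_line_of_perp g hT fun v hv => ?_) h0 h1 h2
    rw [B_lperp f hx F hT hB ha]
    obtain ⟨k1, k2⟩ := com_pair f hx hT ha (hB a ha) hv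
    exact ((mem_lperp g).mpr ⟨p1, p2⟩ : p ∈ lperp g w) _ (hW _ k1 k2)
  obtain ⟨v, hvL, hv1⟩ : ∃ v ∈ lperp g x, g.b v w = 1 := by
    by_contra! h
    have hl : w ∈ line g x := mem_line_of_perp g hT fun v hv => by
      rw [g.b_symm]; exact (zmod2_cases _).resolve_right (h v hv)
    exact hn (line_U f hx hT hl hw0 hwU hDwU)
  obtain ⟨v₁, hv₁L, b1, b2⟩ := adjust g hT (lperp g x) (fun v hv => D_lperp g hT hv) hvL hv1
  have key : ∀ a ∈ f.A x, g.act a v₁ ≠ v₁ → g.act a v₁ = v₁ + D g w := by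
    intro a ha hne
    obtain ⟨h1, h2⟩ := com_pair f hx hT ha (hB a ha) hv₁L
    have hl := hW _ h1 h2
    have hb := b_com g hT (A_mem f hx ha) v₁ (line_q g hT hqw hl)
    rcases (mem_line g).mp hl with e | e | e | e
    · exact absurd (g.add_eq_zero_iff.mp e) hne
    · rw [e, b1] at hb; exact absurd hb (by decide)
    · rw [← e, add_comm (g.act a v₁), tt g]
    · rw [e, g.b_add_right, b1, b2] at hb; exact absurd hb (by decide)
  have h1 := card_le_two_mul (f.A x) (stab g {v₁}) fun a ha c hc ha' hc' => by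
    rw [mem_stab_single g (A_mem f hx ha)] at ha'
    rw [mem_stab_single g (A_mem f hx hc)] at hc'
    rw [mem_stab_single g (R.mul_mem (A_mem f hx ha) (A_mem f hx hc)),
      g.act_mul a (A_mem f hx ha) c (A_mem f hx hc), key c hc hc',
      g.act_add a (A_mem f hx ha), key a ha ha',
      B_fix_Y f hx F hT hB ha hDwU (by rw [DD g hT]; exact add_mem hDwU hwU), g.add_add_cancel]
  have h2 := small g hT hxne hq (f.A x ⊓ stab g {v₁}) (inf_le_left.trans (f.A_le x hx))
    (fun a ha => hB a ha.1) fun a ha p hp => by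
      have hv : g.act a v₁ = v₁ := (mem_stab_single g (A_mem f hx ha.1)).mp ha.2
      exact mem_of_gen g hT b1 b2 (W := g.fixSub (A_mem f hx ha.1)) (lperp g x)
        (fun r hr r1 r2 => hP a ha.1 r hr r1 r2) hv₁L (D_lperp g hT hv₁L) hv
        (show g.act a (D g v₁) = D g v₁ by rw [B_act_D f hx F hT hB ha.1, hv]) hp
  have h3 := f.A_card x hx
  omega

theorem B_U_le_lperp : f.U x ≤ lperp g x := fun _ hu => (mem_lperp g).mpr
  ⟨isot f hx hu (f.x_U x hx), isot f hx hu (B_Dx f hx F hT hB)⟩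

theorem B_stab_halve (K : Subgroup P36) (hK : K ≤ f.A x) {v : V} (hv : v ∈ f.U x) :
    Nat.card K ≤ 2 * Nat.card (K ⊓ stab g {v} : Subgroup P36) := by
  refine card_le_two_mul K _ fun a ha c hc ha' hc' => ?_
  have haR := A_mem f hx (hK ha)
  have hcR := A_mem f hx (hK hc)
  rw [mem_stab_single g haR] at ha'
  rw [mem_stab_single g hcR] at hc'
  rw [mem_stab_single g (R.mul_mem haR hcR), g.act_mul a haR c hcR]
  rcases f.A_U x hx a (hK ha) v hv with e | e
  · exact absurd (g.add_eq_zero_iff.mp e) ha'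
  rcases f.A_U x hx c (hK hc) v hv with e2 | e2
  · exact absurd (g.add_eq_zero_iff.mp e2) hc'
  have ea : g.act a v = v + x := by rw [← e, add_comm (g.act a v), tt g]
  have ec : g.act c v = v + x := by rw [← e2, add_comm (g.act c v), tt g]
  rw [ec, g.act_add a haR, ea, f.A_fix x hx a (hK ha), g.add_add_cancel]

/-- `U x` is invariant under `dEl` -/
theorem B_inv : ∀ u ∈ f.U x, D g u ∈ f.U x := by
  haveI := g.finiteV
  have hq := x_q f hx
  have hxne := x_ne f hx
  have hDx := B_Dx f hx F hT hB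
  have hlU : line g x ≤ f.U x := line_le g (f.x_U x hx) hDx
  have hUL := B_U_le_lperp f hx F hT hB
  by_cases hY : ∃ u ∈ f.U x, u ∉ line g x ∧ D g u ∈ f.U x
  · obtain ⟨u, hu, hul, hDu⟩ := hY
    have h2 : D g u ∉ ext g (line g x) u := by
      intro h
      rcases (mem_ext g).mp h with h | h <;> have h' := D_line g hT h
      · have := add_mem h' h
        rw [DD g hT, add_comm (D g u) u, g.add_add_cancel] at this
        exact hul this
      · rw [add_comm, D_D_add_self g hT] at h'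
        exact hul h'
    have e := eq_of_le_card g (ext_le g (ext_le g hlU hu) hDu) (by
      rw [card_ext g h2, card_ext g hul, card_line g hT hxne, B_cardU f hx F hT hB])
    have hle : f.U x ≤ (f.U x).comap (g.actHom g.dEl_mem) := by
      refine (le_of_eq e.symm).trans (ext_le g (ext_le g (fun v hv => hlU (D_line g hT hv)) hDu) ?_)
      show D g (D g u) ∈ f.U x
      rw [DD g hT]
      exact add_mem hDu hu
    exact fun v hv => hle hv
  push Not at hY
  exfalso
  have hline : ∀ a ∈ f.A x, ∀ w ∈ lperp g x, g.act a w + w ∈ line g x := by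
    intro a ha w hw
    obtain ⟨h1, h2⟩ := com_pair f hx hT ha (hB a ha) hw
    by_contra h
    exact hY _ h1 h h2
  -- second generator and generation of the perpendicular of the line
  have gen : ∀ u ∈ f.U x, u ∉ line g x → ∃ u₂ ∈ f.U x, u₂ ∉ ext g (line g x) u ∧
      ext g (ext g (line g x) u) u₂ = f.U x ∧ ext g (ext g (f.U x) (D g u)) (D g u₂) = lperp g x := by
    intro u hu hul
    obtain ⟨u₂, hu₂, hu₂'⟩ := exists_not_mem g (W := ext g (line g x) u) (T := f.U x) (by
      rw [card_ext g hul, card_line g hT hxne, B_cardU f hx F hT hB]; norm_num)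
    have hDu : D g u ∉ f.U x := hY u hu hul
    have hDu₂ : D g u₂ ∉ ext g (f.U x) (D g u) := by
      intro h
      rcases (mem_ext g).mp h with h | h
      · exact hY u₂ hu₂ (fun e => hu₂' (le_ext g _ _ e)) h
      · rw [← D_add] at h
        exact hY _ (add_mem hu₂ hu) (fun e => hu₂' (Or.inr e)) h
    refine ⟨u₂, hu₂, hu₂', eq_of_le_card g (ext_le g (ext_le g hlU hu) hu₂) ?_,
      eq_of_le_card g (ext_le g (ext_le g hUL (D_lperp g hT (hUL hu))) (D_lperp g hT (hUL hu₂))) ?_⟩
    · rw [card_ext g hu₂', card_ext g hul, card_line g hT hxne, B_cardU f hx F hT hB]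
    · rw [card_ext g hDu₂, card_ext g hDu, B_cardU f hx F hT hB, card_lperp g hT hxne]
  have fixall : ∀ u ∈ f.U x, ∀ u₂ ∈ f.U x, u ∉ line g x →
      ext g (ext g (line g x) u) u₂ = f.U x →
      ext g (ext g (f.U x) (D g u)) (D g u₂) = lperp g x →
      ∀ a ∈ f.A x, g.act a u = u → g.act a u₂ = u₂ → ∀ w ∈ lperp g x, g.act a w = w := by
    intro u _ u₂ _ _ e1 e2 a ha ea ea2 w hw
    have haR := A_mem f hx ha
    have hl : line g x ≤ g.fixSub haR := line_le g (f.A_fix x hx a ha)
      (A_lin_D f hx ha (hB a ha) hT)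
    have hU' : f.U x ≤ g.fixSub haR := (le_of_eq e1.symm).trans (ext_le g (ext_le g hl ea) ea2)
    have hall : lperp g x ≤ g.fixSub haR := (le_of_eq e2.symm).trans (ext_le g (ext_le g hU'
      (show g.act a (D g u) = D g u by rw [B_act_D f hx F hT hB ha, ea]))
      (show g.act a (D g u₂) = D g u₂ by rw [B_act_D f hx F hT hB ha, ea2]))
    exact hall hw
  -- no vector of `U` outside the line is fixed by all of `A`
  have fixed_one : ∀ u ∈ f.U x, u ∉ line g x → ¬ ∀ a ∈ f.A x, g.act a u = u := by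
    intro u hu hul hall
    obtain ⟨u₂, hu₂, -, e1, e2⟩ := gen u hu hul
    have h1 := B_stab_halve f hx F hT hB (f.A x) le_rfl hu₂
    have h2 := small g hT hxne hq (f.A x ⊓ stab g {u₂}) (inf_le_left.trans (f.A_le x hx))
      (fun a ha => hB a ha.1) fun a ha => fixall u hu u₂ hu₂ hul e1 e2 a ha.1 (hall a ha.1)
        ((mem_stab_single g (A_mem f hx ha.1)).mp ha.2)
    have h3 := f.A_card x hx
    omega
  obtain ⟨u, hu, hul⟩ := exists_not_mem g (W := line g x) (T := f.U x) (by
    rw [card_line g hT hxne, B_cardU f hx F hT hB]; norm_num)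
  obtain ⟨u₂, hu₂, hu₂', e1, e2⟩ := gen u hu hul
  obtain ⟨t, ht, ht1⟩ : ∃ t ∈ f.A x ⊓ stab g {u} ⊓ stab g {u₂}, t ≠ 1 := by
    by_contra! hno
    have h1 := B_stab_halve f hx F hT hB (f.A x) le_rfl hu
    have h2 := B_stab_halve f hx F hT hB (f.A x ⊓ stab g {u}) inf_le_left hu₂
    rw [(Subgroup.eq_bot_iff_forall _).mpr hno, Subgroup.card_bot] at h2
    have h3 := f.A_card x hx
    omega
  have htfix := fixall u hu u₂ hu₂ hul e1 e2 t ht.1.1
    ((mem_stab_single g (A_mem f hx ht.1.1)).mp ht.1.2)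
    ((mem_stab_single g (A_mem f hx ht.1.1)).mp ht.2)
  obtain ⟨v, hv, hvU, hvA⟩ := f.mirror x hx ⟨t, ht.1.1, ht1, fun w hw =>
    mirror_pre g hT hxne hq (A_mem f hx ht.1.1) htfix hw⟩
  by_cases hvL : v ∈ lperp g x
  · rw [← e2, mem_ext, mem_ext, mem_ext] at hvL
    obtain ⟨w, hw, hwl, hwv⟩ : ∃ w, w ∈ f.U x ∧ w ∉ line g x ∧ v + D g w ∈ f.U x := by
      rcases hvL with (h | h) | (h | h)
      · exact absurd h hvU
      · exact ⟨u, hu, hul, h⟩
      · exact ⟨u₂, hu₂, fun e => hu₂' (le_ext g _ _ e), h⟩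
      · exact ⟨u₂ + u, add_mem hu₂ hu, fun e => hu₂' (Or.inr e),
          by rw [D_add, ← add_assoc]; exact h⟩
    refine fixed_one w hw hwl fun a ha => ?_
    refine g.add_eq_zero_iff.mp ?_
    rcases f.A_U x hx a ha w hw with e | e
    · exact e
    · have haR := A_mem f hx ha
      have ek : g.act a (v + D g w) + (v + D g w) = g.act a v + v + D g x := by
        rw [g.act_add a haR, B_act_D f hx F hT hB ha, add_add_add_comm, ← D_add, e]
      rcases hvA a ha with h | h <;> rw [h] at ek <;>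
        rcases f.A_U x hx a ha _ hwv with h' | h' <;> rw [h'] at ek
      · rw [zero_add] at ek
        exact absurd (D_inj g (ek.symm.trans (D_zero g).symm)) hxne
      · rw [zero_add] at ek
        exact absurd (D_eq_self g hT ek.symm) hxne
      · exact absurd (D_eq_self g hT (g.add_eq_zero_iff.mp ek.symm).symm) hxne
      · rw [left_eq_add] at ek
        exact absurd (D_inj g (ek.trans (D_zero g).symm)) hxne
  · have h1 := small g hT hxne hq (f.A x) (f.A_le x hx) hB fun a ha =>
      fix_lperp g hT (A_mem f hx ha) (hB a ha) hq (hline a ha) hvL (by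
        rcases hvA a ha with h | h <;> rw [h]
        exacts [zero_mem _, self_mem_line g x])
    have h2 := f.A_card x hx
    omega

theorem B_fix {a : P36} (ha : a ∈ f.A x) {u : V} (hu : u ∈ f.U x) : g.act a u = u :=
  B_fix_Y f hx F hT hB ha hu (B_inv f hx F hT hB u hu)

/-- a pair with the same `U` is of the same kind -/
theorem lin_of_same {y : V} (hy : y ∈ f.Std) (hU : f.U y = f.U x) : ∀ a ∈ f.A y, a.1 = 1 := by
  intro a ha
  refine (fst_or_inv3 (f.A_sq y hy a ha)).resolve_right fun hi => ?_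
  have h : f.U y ≤ line g y := fun u hu =>
    Y_le_line f hy hT ha hi hu (hU ▸ B_inv f hx F hT hB u (hU ▸ hu))
  have h' := card_mono g h
  rw [card_line g hT (f.ne_zero y hy), hU, B_cardU f hx F hT hB] at h'
  omega

/-- `A x` has no fixed vectors outside `U x` -/
theorem fixA {v : V} (hv : ∀ a ∈ f.A x, g.act a v = v) : v ∈ f.U x := by
  by_contra hvU
  haveI := g.finiteV
  obtain ⟨u, hu, huv⟩ : ∃ u ∈ f.U x, g.b u v = 1 := by
    by_contra! h
    refine hvU (mem_U_of_perp f hx F hT hB fun u hu => ?_)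
    rw [g.b_symm]
    exact (zmod2_cases _).resolve_right (h u hu)
  obtain ⟨u₁, hu₁, b1, b2⟩ := adjust g hT (f.U x) (B_inv f hx F hT hB) hu huv
  let K := f.U x ⊓ lperp g v
  have hu₁K : u₁ ∉ K := fun h => by
    rw [((mem_lperp g).mp h.2).1] at b1; exact zero_ne_one b1
  have hDu₁K : D g u₁ ∉ ext g K u₁ := by
    intro h
    rcases (mem_ext g).mp h with h | h
    · have := ((mem_lperp g).mp h.2).1
      rw [b_D_left g hT, b1, b2] at this
      exact absurd this (by decide)
    · have := ((mem_lperp g).mp h.2).2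
      rw [g.b_add, b_D, b1, b2] at this
      exact absurd this (by decide)
  have hUle : f.U x ≤ ext g (ext g K u₁) (D g u₁) := fun w hw =>
    mem_of_gen g hT b1 b2 (f.U x)
      (fun p hp p1 p2 => le_ext g _ _ (le_ext g K u₁
        (show p ∈ f.U x ⊓ lperp g v from ⟨hp, (mem_lperp g).mpr ⟨p1, p2⟩⟩))) hu₁
      (B_inv f hx F hT hB _ hu₁) (le_ext g _ _ (self_mem_ext g K u₁)) (self_mem_ext g _ _) hw
  have c1 := card_mono g hUle
  have c2 := card_mono g (ext_le g (ext_le g (inf_le_left : K ≤ _) hu₁) (B_inv f hx F hT hB _ hu₁))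
  rw [card_ext g hDu₁K, card_ext g hu₁K, B_cardU f hx F hT hB] at c1 c2
  obtain ⟨x', hx', hx'0⟩ := exists_not_mem g (W := ⊥) (T := K) (by
    rw [AddSubgroup.card_bot]; omega)
  rw [AddSubgroup.mem_bot] at hx'0
  have hKD : ∀ k ∈ K, D g k ∈ K := fun k hk =>
    ⟨B_inv f hx F hT hB k hk.1, D_lperp g hT hk.2⟩
  have hK : line g x' = K := eq_of_le_card g (line_le g hx' (hKD x' hx')) (by
    rw [card_line g hT hx'0]; omega)
  have hcom : ∀ a ∈ f.A x, ∀ w, g.act a w + w ∈ line g x' := by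
    intro a ha w
    rw [hK]
    refine ⟨mem_U_of_perp f hx F hT hB fun s hs => ?_, (mem_lperp g).mpr ⟨?_, ?_⟩⟩ <;>
      rw [B_lperp f hx F hT hB ha]
    · rw [B_fix f hx F hT hB ha hs, g.two, g.b_zero_right]
    · rw [hv a ha, g.two, g.b_zero_right]
    · rw [B_act_D f hx F hT hB ha, hv a ha, g.two, g.b_zero_right]
  have hfix : ∀ a ∈ f.A x, ∀ w ∈ lperp g x', g.act a w = w := by
    intro a ha w hw
    refine g.add_eq_zero_iff.mp (g.nondeg _ fun z => ?_)
    rw [B_lperp f hx F hT hB ha]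
    exact hw _ (hcom a ha z)
  have h1 := small g hT hx'0 (f.U_q x hx x' hx'.1) (f.A x) (f.A_le x hx) hB hfix
  have h2 := f.A_card x hx
  omega

/-- normalisers of `A x` preserve `U x` -/
theorem norm_U {h : P36} (hn : ∀ a, a ∈ f.A x ↔ h * a * h⁻¹ ∈ f.A x) :
    f.U (g.act h x) = f.U x ∧ ∀ u ∈ f.U x, g.act h u ∈ f.U x := by
  haveI := g.finiteV
  have hh : h ∈ R := by rw [R_top f hx F hT hB]; exact Subgroup.mem_top h
  have hy := f.act_mem h hh x hx
  have hA : f.A (g.act h x) = f.A x := by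
    ext c
    have e : h * (h⁻¹ * c * h) * h⁻¹ = c := by group
    have h1 := f.A_act h hh x hx (h⁻¹ * c * h)
    have h2 := hn (h⁻¹ * c * h)
    rw [e] at h1 h2
    exact h1.symm.trans h2
  have hB' : ∀ a ∈ f.A (g.act h x), a.1 = 1 := by rw [hA]; exact hB
  have hle : f.U (g.act h x) ≤ f.U x := fun v hv => fixA f hx F hT hB fun a ha =>
    B_fix f hy F hT hB' (hA.symm ▸ ha) hv
  have e := eq_of_le_card g hle (by rw [B_cardU f hx F hT hB, B_cardU f hy F hT hB'])
  exact ⟨e, fun u hu => e ▸ (f.U_act h hh x hx u).mp hu⟩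

theorem singular_le : Nat.card ({v : V | g.q v = 0} : Set V) ≤ 192 := by
  haveI := g.finiteV
  let Z : Set V := {v | g.q v = 0}
  let P : Set V := (g.perp (ext g ⊥ x : Set V) : Set V)
  have hP : P.ncard = 128 := by
    have h := g.card_mul_card_perp (ext g ⊥ x)
    rw [card_ext g (by rw [AddSubgroup.mem_bot]; exact x_ne f hx), AddSubgroup.card_bot] at h
    show Nat.card (g.perp (ext g ⊥ x : Set V)) = 128
    omega
  have h1 : (Z \ P).ncard ≤ Zᶜ.ncard := by
    refine Set.ncard_le_ncard_of_injOn (fun v => v + x) ?_ (fun a _ c _ e => add_right_cancel e)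
    rintro v ⟨hv, hvP⟩ hc
    have hb : g.b v x = 1 := by
      refine (zmod2_cases _).resolve_left fun e => hvP fun s hs => ?_
      rcases (mem_bot_ext g).mp hs with rfl | rfl
      exacts [g.b_zero_right v, e]
    have h := g.q_add v x
    rw [show g.q (v + x) = 0 from hc, show g.q v = 0 from hv, x_q f hx, hb] at h
    exact absurd h (by decide)
  have h2 := Set.ncard_le_ncard_sdiff_add_ncard Z P
  have h3 := Set.ncard_add_ncard_compl Z
  rw [g.card] at h3
  show Z.ncard ≤ 192
  omega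

/-- the standard vectors with the same `U` -/
def Same : Set V := {y | y ∈ f.Std ∧ f.U y = f.U x}

omit hx F hT hB in
theorem mem_Same {y : V} : y ∈ Same f (x := x) ↔ y ∈ f.Std ∧ f.U y = f.U x := Iff.rfl

theorem A_same {y : V} (hy : y ∈ Same f (x := x)) : f.A y = f.A x := by
  obtain ⟨hy, hU⟩ := hy
  have hB' := lin_of_same f hx F hT hB hy hU
  let T₀ : Subgroup P36 := lin ⊓ stab g (f.U x : Set V)
  have hsq : ∀ k ∈ T₀, k * k = 1 := by
    intro k hk
    have hkR : k ∈ R := hk.2.1
    refine g.faithful _ (R.mul_mem hkR hkR) fun v => ?_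
    have hc : g.act k v + v ∈ f.U x := mem_U_of_perp f hx F hT hB fun u hu => by
      have := g.b_act hkR v u
      rw [hk.2.2 u hu] at this
      rw [g.b_add, this, zmod2_add_self]
    have := hk.2.2 _ hc
    rw [g.act_add k hkR] at this
    rw [g.act_mul k hkR k hkR]
    exact add_right_cancel (this.trans (add_comm _ _))
  have h8 := F.elem_cent_le T₀ hsq fun k hk => mem_lin.mp hk.1
  have e1 : f.A x = T₀ := Subgroup.eq_of_le_of_card_ge
    (fun a ha => ⟨mem_lin.mpr (hB a ha), A_mem f hx ha, fun u hu => B_fix f hx F hT hB ha hu⟩)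
    (h8.trans (f.A_card x hx))
  have e2 : f.A y = T₀ := Subgroup.eq_of_le_of_card_ge
    (fun a ha => ⟨mem_lin.mpr (hB' a ha), A_mem f hy ha,
      fun u hu => B_fix f hy F hT hB' ha (hU.symm ▸ hu)⟩)
    (h8.trans (f.A_card y hy))
  rw [e1, e2]

theorem D_Same {y : V} (hy : y ∈ Same f (x := x)) : D g y ∈ Same f (x := x) := by
  obtain ⟨hy, hU⟩ := hy
  refine ⟨f.act_mem _ g.dEl_mem y hy, ?_⟩
  have hi := B_inv f hx F hT hB
  ext v
  have e := f.U_act _ g.dEl_mem y hy (D g (D g v))
  rw [show g.act dEl (D g (D g v)) = v from D_cube g v, hU] at e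
  refine e.symm.trans ⟨fun h => ?_, fun h => hi _ (hi _ h)⟩
  rw [← D_cube g v]
  exact hi _ h

theorem Same_count : 15 * (Same f (x := x)).ncard ≤ 192 := by
  haveI := g.finiteV
  let 𝓑 : Set (Subgroup P36) := {B | ∃ h : P36, (f.A x).map (MulAut.conj h).toMonoidHom = B}
  have h15 : 15 ≤ Nat.card 𝓑 :=
    (F.eight_norm (f.A x) (B_cardA f hx F hT hB) (f.A_sq x hx) hB).2
  have hh : ∀ B : 𝓑, ∃ h : P36, (f.A x).map (MulAut.conj h).toMonoidHom = B := fun B => B.2
  choose h hh using hh
  have hR : ∀ k : P36, k ∈ R := fun k => by rw [R_top f hx F hT hB]; exact Subgroup.mem_top k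
  let φ : 𝓑 × (Same f (x := x)) → ({v : V | g.q v = 0} : Set V) := fun p =>
    ⟨g.act (h p.1) p.2, x_q f (f.act_mem _ (hR _) _ p.2.2.1)⟩
  have hA : ∀ (B : 𝓑) (s : Same f (x := x)), f.A (g.act (h B) s) = (B : Subgroup P36) := by
    intro B s
    rw [← hh B, ← A_same f hx F hT hB s.2]
    ext c
    rw [Subgroup.mem_map]
    constructor
    · intro hc
      refine ⟨(h B)⁻¹ * c * h B, (f.A_act (h B) (hR _) _ s.2.1 _).mpr ?_, ?_⟩
      · rwa [show h B * ((h B)⁻¹ * c * h B) * (h B)⁻¹ = c by group]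
      · show h B * ((h B)⁻¹ * c * h B) * (h B)⁻¹ = c
        group
    · rintro ⟨a, ha, rfl⟩
      exact (f.A_act _ (hR _) _ s.2.1 a).mp ha
  have hφ : Function.Injective φ := by
    rintro ⟨B, s⟩ ⟨B', s'⟩ e
    have e' : g.act (h B) s = g.act (h B') s' := congrArg Subtype.val e
    obtain rfl : B = B' := Subtype.ext ((hA B s).symm.trans (e' ▸ hA B' s'))
    exact Prod.ext rfl (Subtype.ext (g.act_injective (hR _) e'))
  have h1 := Nat.card_le_card_of_injective φ hφ
  rw [Nat.card_prod] at h1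
  have h2 := Nat.mul_le_mul_right (Nat.card (Same f (x := x))) h15
  show 15 * Nat.card (Same f (x := x)) ≤ 192
  exact le_trans h2 (le_trans h1 (singular_le f hx F hT hB))

theorem Same_card_three : (Same f (x := x)).ncard = 3 := by
  haveI := g.finiteV
  haveI : Fintype (Same f (x := x)) := Fintype.ofFinite _
  have h1 := Same_count f hx F hT hB
  have h0 : 0 < (Same f (x := x)).ncard :=
    (Set.ncard_pos (Set.toFinite _)).mpr ⟨x, hx, rfl⟩
  let σ : Equiv.Perm (Same f (x := x)) :=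
    { toFun := fun y => ⟨D g y, D_Same f hx F hT hB y.2⟩
      invFun := fun y => ⟨D g (D g y), D_Same f hx F hT hB (D_Same f hx F hT hB y.2)⟩
      left_inv := fun y => Subtype.ext (D_cube g y)
      right_inv := fun y => Subtype.ext (D_cube g y) }
  have hσ : σ ^ 3 ^ 1 = 1 := Equiv.ext fun y => Subtype.ext (D_cube g y)
  have h3 : 3 ∣ (Same f (x := x)).ncard := by
    by_contra h
    haveI : Fact (Nat.Prime 3) := ⟨Nat.prime_three⟩
    obtain ⟨y, hy⟩ := Equiv.Perm.exists_fixed_point_of_prime (p := 3) (n := 1)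
      (by rwa [← Nat.card_eq_fintype_card]) hσ
    exact f.ne_zero _ y.2.1 (D_eq_self g hT (congrArg Subtype.val hy))
  have horb := f.orbit x hx (B_cardU f hx F hT hB)
  change (1 + 2 * (Same f (x := x)).ncard) ∣ 9999360 at horb
  generalize (Same f (x := x)).ncard = n at *
  have h12 : n ≤ 12 := by omega
  interval_cases n <;> omega

theorem Same_line {y : V} (hy : y ∈ Same f (x := x)) : y = x ∨ y = D g x ∨ y = x + D g x := by
  haveI := g.finiteV
  have hxne := x_ne f hx
  have n1 : x ≠ D g x := fun e => hxne (D_eq_self g hT e.symm)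
  have n2 : x ≠ x + D g x := fun e => hxne (D_inj g ((left_eq_add.mp e).trans (D_zero g).symm))
  have n3 : D g x ≠ x + D g x := fun e => hxne (right_eq_add.mp e)
  let S3 : Set V := {x, D g x, x + D g x}
  have hc : S3.ncard = 3 := Set.ncard_eq_three.mpr ⟨x, D g x, x + D g x, n1, n2, n3, rfl⟩
  have hxS : x ∈ Same f (x := x) := ⟨hx, rfl⟩
  have hsub : S3 ⊆ Same f (x := x) := by
    rintro v (rfl | rfl | rfl)
    · exact hxS
    · exact D_Same f hx F hT hB hxS
    · rw [add_comm, ← DD g hT]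
      exact D_Same f hx F hT hB (D_Same f hx F hT hB hxS)
  have e := Set.eq_of_subset_of_ncard_le hsub (by rw [hc, Same_card_three f hx F hT hB])
  rw [← e] at hy
  exact hy

/-- fused tensor case without an inverting element -/
theorem caseB : False := by
  haveI := g.finiteV
  have hxne := x_ne f hx
  have hi := B_inv f hx F hT hB
  have htop := R_top f hx F hT hB
  obtain ⟨⟨t, ht3, htn, a₀, ha₀, hta⟩, -⟩ :=
    F.eight_norm (f.A x) (B_cardA f hx F hT hB) (f.A_sq x hx) hB
  obtain ⟨T, hT'⟩ : ∃ T : P36, ((1, t) : P36) = T := ⟨_, rfl⟩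
  rw [hT'] at htn hta
  obtain ⟨s, hs'⟩ : ∃ s : P36, ((Equiv.swap 0 1, 1) : P36) = s := ⟨_, rfl⟩
  have hTR : T ∈ R := by rw [htop]; exact Subgroup.mem_top T
  have hsR : s ∈ R := by rw [htop]; exact Subgroup.mem_top s
  have hsi : Inv3 s := by rw [← hs']; exact (by decide : Equiv.Perm.sign (Equiv.swap (0 : Fin 3) 1) = -1)
  have hs2 : s * s = 1 := by rw [← hs']; ext1 <;> simp
  have hTs : T * s = s * T := by rw [← hs', ← hT']; ext1 <;> simp
  have hT1 : T.1 = 1 := by rw [← hT']
  have hT3 : T * T * T = 1 := by rw [← hT']; ext1 <;> simp [ht3]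
  have hsA : ∀ a, a ∈ f.A x ↔ s * a * s⁻¹ ∈ f.A x := by
    have e : ∀ a : P36, a.1 = 1 → s * a * s⁻¹ = a := by
      rintro ⟨p, q⟩ (rfl : p = 1)
      rw [← hs']; ext1 <;> simp
    intro a
    constructor
    · intro ha; rw [e a (hB a ha)]; exact ha
    · intro ha
      have h1 := hB _ ha
      rw [Prod.fst_mul, Prod.fst_mul, Prod.fst_inv, conj_eq_one_iff] at h1
      rwa [e a h1] at ha
  obtain ⟨hUs, hsU⟩ := norm_U f hx F hT hB hsA
  obtain ⟨hUT, hTU⟩ := norm_U f hx F hT hB htn
  have hsD : g.act s (D g x) = D g (g.act s x) + g.act s x := act_D_inv g hT hsR hsi x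
  -- the fixed point of `s` on the three standard vectors
  obtain ⟨x₀, hx₀S, hsx₀⟩ : ∃ x₀ ∈ Same f (x := x), g.act s x₀ = x₀ := by
    have hSx : g.act s x ∈ Same f (x := x) := ⟨f.act_mem s hsR x hx, hUs⟩
    rcases Same_line f hx F hT hB hSx with e | e | e
    · exact ⟨x, ⟨hx, rfl⟩, e⟩
    · refine ⟨x + D g x, ?_, ?_⟩
      · rw [add_comm, ← DD g hT]
        exact D_Same f hx F hT hB (D_Same f hx F hT hB ⟨hx, rfl⟩)
      · rw [g.act_add s hsR, hsD, e, DD g hT, add_comm (D g x + x) (D g x), tt g, add_comm]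
    · refine ⟨D g x, D_Same f hx F hT hB ⟨hx, rfl⟩, ?_⟩
      rw [hsD, e, D_D_add_self g hT, tt g]
  have huniq : ∀ z ∈ Same f (x := x), g.act s z = z → z = x₀ := by
    intro z hz hsz
    by_contra hne
    have both : g.act s x = x → g.act s (D g x) = D g x → False := fun e1 e2 => by
      rw [hsD, e1, add_eq_left] at e2
      exact hxne e2
    have hadd : ∀ p q, g.act s p = p → g.act s q = q → g.act s (p + q) = p + q := fun p q ep eq => by
      rw [g.act_add s hsR, ep, eq]
    have k1 : x + (x + D g x) = D g x := tt g _ _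
    have k2 : D g x + (x + D g x) = x := by rw [add_comm x, tt g]
    rcases Same_line f hx F hT hB hz with rfl | rfl | rfl <;>
      rcases Same_line f hx F hT hB hx₀S with rfl | rfl | rfl
    · exact hne rfl
    · exact both hsz hsx₀
    · exact both hsz (k1 ▸ hadd _ _ hsz hsx₀)
    · exact both hsx₀ hsz
    · exact hne rfl
    · exact both (k2 ▸ hadd _ _ hsz hsx₀) hsz
    · exact both hsx₀ (k1 ▸ hadd _ _ hsx₀ hsz)
    · exact both (k2 ▸ hadd _ _ hsx₀ hsz) hsx₀
    · exact hne rfl
  have hTfix : ∀ v, g.act s v = v → g.act s (g.act T v) = g.act T v := fun v hv => by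
    rw [g.act_comm hsR hTR hTs.symm, hv]
  have hTx₀ : g.act T x₀ = x₀ := by
    refine huniq _ ⟨f.act_mem T hTR x₀ hx₀S.1, ?_⟩ (hTfix x₀ hsx₀)
    ext v
    have e := f.U_act T hTR x₀ hx₀S.1 (g.act T⁻¹ v)
    rw [g.act_inv_right hTR, hx₀S.2] at e
    refine e.symm.trans ⟨fun hv => ?_, fun hv => ?_⟩
    · have := hTU _ hv
      rwa [g.act_inv_right hTR] at this
    · have hT2 : T⁻¹ = T * T := inv_eq_of_mul_eq_one_left hT3
      rw [hT2, g.act_mul T hTR T hTR]
      exact hTU _ (hTU _ hv)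
  -- `T` fixes the vectors of `U` fixed by `s`
  have hFs : ∀ v ∈ f.U x, g.act s v = v → g.act T v = v := by
    intro v hv hsv
    by_cases hvm : v ∈ ext g ⊥ x₀
    · rcases (mem_bot_ext g).mp hvm with rfl | rfl
      exacts [g.act_zero hTR, hTx₀]
    have hx₀U : x₀ ∈ f.U x := hx₀S.2 ▸ f.x_U x₀ hx₀S.1
    have hx₀0 : x₀ ∉ (⊥ : AddSubgroup V) := by
      rw [AddSubgroup.mem_bot]; exact f.ne_zero x₀ hx₀S.1
    have hc := card_fix_sq g hT hsR hsi (f.U x) hi
    rw [B_cardU f hx F hT hB] at hc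
    have hc4 : Nat.card (f.U x ⊓ g.fixSub hsR : AddSubgroup V) ≤ 4 :=
      Nat.mul_self_le_mul_self_iff.mp hc
    have e := eq_of_le_card g (ext_le g (ext_le g bot_le (show x₀ ∈ f.U x ⊓ g.fixSub hsR from
      ⟨hx₀U, hsx₀⟩)) (show v ∈ _ from ⟨hv, hsv⟩)) (by
        rw [card_ext g hvm, card_ext g hx₀0, AddSubgroup.card_bot]; exact hc4)
    have hTv : g.act T v ∈ ext g (ext g ⊥ x₀) v := e.symm ▸ ⟨hTU v hv, hTfix v hsv⟩
    rw [mem_ext, mem_bot_ext, mem_bot_ext, g.add_eq_zero_iff] at hTv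
    rcases hTv with (h | h) | (h | h)
    · exact absurd ((mem_bot_ext g).mpr (Or.inl (g.act_injective hTR (h.trans (g.act_zero hTR).symm)))) hvm
    · exact absurd ((mem_bot_ext g).mpr (Or.inr (g.act_injective hTR (h.trans hTx₀.symm)))) hvm
    · exact h
    · exfalso
      have h' : g.act T v = v + x₀ := by
        rw [← h, add_comm (g.act T v) v, tt g]
      have e3 : g.act (T * T * T) v = v + x₀ := by
        rw [g.act_mul _ (R.mul_mem hTR hTR) T hTR, g.act_mul T hTR T hTR, h', g.act_add T hTR, h',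
          hTx₀, g.add_add_cancel, h']
      rw [hT3, g.act_one, left_eq_add] at e3
      exact f.ne_zero x₀ hx₀S.1 e3
  have hTUfix : ∀ u ∈ f.U x, g.act T u = u := by
    intro u hu
    obtain ⟨f₁, f₂, a1, a2, b1, b2, rfl⟩ := fix_decomp g hT hsR hsi hs2 (f.U x) hi hsU hu
    rw [g.act_add T hTR, hFs f₁ a1 a2, act_D_lin g hT hTR hT1, hFs f₂ b1 b2]
  have hTT : T * T = 1 := g.faithful _ (R.mul_mem hTR hTR) fun v => by
    have hc : g.act T v + v ∈ f.U x := mem_U_of_perp f hx F hT hB fun u hu => by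
      have := g.b_act hTR v u
      rw [hTUfix u hu] at this
      rw [g.b_add, this, zmod2_add_self]
    have := hTUfix _ hc
    rw [g.act_add T hTR] at this
    rw [g.act_mul T hTR T hTR]
    exact add_right_cancel (this.trans (add_comm _ _))
  rw [hTT, one_mul] at hT3
  exact hta (by rw [hT3, one_mul, mul_one])

end CfsgLib.NoSixCent.FusedT
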