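import Cfsg.Agent.Lib.NoSixCent.Basic

/-!
Tools for the fused case of tensor type: `dEl` as multiplication by a cube root of unity, lines,
their perpendicular spaces and the transvections centralising them.
-/

set_option autoImplicit false
set_option linter.unusedSectionVars false
set_option linter.style.haveILetI false

namespace CfsgLib.NoSixCent.FusedT

universe u

/-- The elements of `P36` with trivial first component. -/
def lin : Subgroup P36 := (MonoidHom.fst (Equiv.Perm (Fin 3)) (Equiv.Perm (Fin 6))).ker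

theorem mem_lin {a : P36} : a ∈ lin ↔ a.1 = 1 := MonoidHom.mem_ker

theorem not_inv3_of_fst {a : P36} (h : a.1 = 1) : ¬ Inv3 a := by
  rw [not_inv3_iff, h, map_one]

theorem fst_or_inv3 {a : P36} (h : a * a = 1) : a.1 = 1 ∨ Inv3 a := by
  by_cases hi : Inv3 a
  exacts [Or.inr hi, Or.inl (fst_eq_one_of_sq hi h)]

theorem inv3_conj {h a : P36} : Inv3 (h * a * h⁻¹) ↔ Inv3 a := by
  unfold Inv3
  rw [Prod.fst_mul, Prod.fst_mul, Prod.fst_inv, map_mul, map_mul, map_inv]
  constructor <;> intro e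
  · rwa [mul_comm (Equiv.Perm.sign h.1), mul_inv_cancel_right] at e
  · rwa [mul_comm (Equiv.Perm.sign h.1), mul_inv_cancel_right]

/-- Two elements outside `T` with product inside give index at most two. -/
theorem card_le_two_mul (A T : Subgroup P36)
    (h : ∀ a ∈ A, ∀ c ∈ A, a ∉ T → c ∉ T → a * c ∈ T) :
    Nat.card A ≤ 2 * Nat.card (A ⊓ T : Subgroup P36) := by
  classical
  by_cases hA : A ≤ T
  · rw [inf_eq_left.mpr hA]; omega
  · obtain ⟨a₀, ha₀, ha₀'⟩ := SetLike.not_le_iff_exists.mp hA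
    let f : A → Bool × (A ⊓ T : Subgroup P36) := fun a =>
      if e : (a : P36) ∈ T then (false, ⟨a, a.2, e⟩)
      else (true, ⟨a₀ * a, A.mul_mem ha₀ a.2, h a₀ ha₀ a a.2 ha₀' e⟩)
    have hf : Function.Injective f := by
      intro a c e
      by_cases e1 : (a : P36) ∈ T <;> by_cases e2 : (c : P36) ∈ T <;>
        simp only [f, e1, e2, dite_true, dite_false, Prod.mk.injEq] at e
      · exact Subtype.ext (congrArg Subtype.val e.2 :)
      · exact absurd e.1 Bool.false_ne_true
      · exact absurd e.1.symm Bool.false_ne_true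
      · exact Subtype.ext (mul_left_cancel (congrArg Subtype.val e.2 :))
    calc Nat.card A ≤ Nat.card (Bool × (A ⊓ T : Subgroup P36)) :=
          Nat.card_le_card_of_injective f hf
      _ = 2 * Nat.card (A ⊓ T : Subgroup P36) := by simp [Nat.card_prod]

theorem card_le_two (K : Subgroup P36) (h : ∀ a ∈ K, ∀ c ∈ K, a ≠ 1 → c ≠ 1 → a = c) :
    Nat.card K ≤ 2 := by
  classical
  have hf : Function.Injective (fun a : K => decide ((a : P36) = 1)) := by
    intro a c e
    have e' : ((a : P36) = 1) ↔ ((c : P36) = 1) := decide_eq_decide.mp e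
    by_cases e1 : (a : P36) = 1
    · exact Subtype.ext (e1.trans (e'.mp e1).symm)
    · exact Subtype.ext (h a a.2 c c.2 e1 fun e2 => e1 (e'.mpr e2))
  calc Nat.card K ≤ Nat.card Bool := Nat.card_le_card_of_injective _ hf
    _ = 2 := by simp

variable {V : Type u} [AddCommGroup V] {R : Subgroup P36} (g : Geo V R)
include g

theorem tt (v w : V) : v + (v + w) = w := by rw [← add_assoc, g.two, zero_add]

/-- Adjoin an element to a subgroup. -/
def ext (W : AddSubgroup V) (t : V) : AddSubgroup V where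
  carrier := {w | w ∈ W ∨ w + t ∈ W}
  zero_mem' := Or.inl W.zero_mem
  add_mem' := by
    rintro v w (hv | hv) (hw | hw)
    · exact Or.inl (W.add_mem hv hw)
    · exact Or.inr (by rw [add_assoc]; exact W.add_mem hv hw)
    · exact Or.inr (by rw [add_right_comm]; exact W.add_mem hv hw)
    · refine Or.inl ?_
      have := W.add_mem hv hw
      rwa [add_add_add_comm, g.two, add_zero] at this
  neg_mem' := fun {v} hv => by rw [g.neg_eq v]; exact hv

theorem mem_ext {W : AddSubgroup V} {t v : V} : v ∈ ext g W t ↔ v ∈ W ∨ v + t ∈ W := Iff.rfl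

theorem le_ext (W : AddSubgroup V) (t : V) : W ≤ ext g W t := fun _ h => Or.inl h

theorem self_mem_ext (W : AddSubgroup V) (t : V) : t ∈ ext g W t :=
  Or.inr (by rw [g.two]; exact W.zero_mem)

theorem ext_le {W T : AddSubgroup V} {t : V} (hW : W ≤ T) (ht : t ∈ T) : ext g W t ≤ T := by
  rintro v (hv | hv)
  · exact hW hv
  · have := T.add_mem (hW hv) ht
    rwa [g.add_add_cancel] at this

theorem card_ext {W : AddSubgroup V} {t : V} (ht : t ∉ W) :
    Nat.card (ext g W t) = 2 * Nat.card W := by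
  let f : Bool × W → ext g W t := fun p =>
    if p.1 then ⟨p.2 + t, Or.inr (by rw [g.add_add_cancel]; exact p.2.2)⟩ else ⟨p.2, Or.inl p.2.2⟩
  have hf : Function.Bijective f := by
    refine ⟨?_, ?_⟩
    · rintro ⟨b₁, w₁, h₁⟩ ⟨b₂, w₂, h₂⟩ e
      have e' := congrArg Subtype.val e
      cases b₁ <;> cases b₂ <;> simp [f] at e'
      · exact Prod.ext rfl (Subtype.ext e')
      · exact absurd (by rw [← tt g w₂ t, ← e']; exact W.add_mem h₂ h₁) ht
      · exact absurd (by rw [← tt g w₁ t, e']; exact W.add_mem h₁ h₂) ht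
      · exact Prod.ext rfl (Subtype.ext e')
    · rintro ⟨w, hw | hw⟩
      · exact ⟨(false, ⟨w, hw⟩), rfl⟩
      · exact ⟨(true, ⟨w + t, hw⟩), Subtype.ext (g.add_add_cancel w t)⟩
  rw [← Nat.card_eq_of_bijective f hf]
  simp [Nat.card_prod]

theorem eq_of_le_card {W T : AddSubgroup V} (h : W ≤ T) (hc : Nat.card T ≤ Nat.card W) : W = T := by
  haveI := g.finiteV
  exact AddSubgroup.eq_of_le_of_card_ge h hc

theorem card_mono {W T : AddSubgroup V} (h : W ≤ T) : Nat.card W ≤ Nat.card T := by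
  haveI := g.finiteV
  exact Nat.card_le_card_of_injective _ (AddSubgroup.inclusion_injective h)

theorem exists_not_mem {W T : AddSubgroup V} (hc : Nat.card W < Nat.card T) :
    ∃ v ∈ T, v ∉ W := by
  by_contra! h
  exact absurd (card_mono g (show T ≤ W from h)) (Nat.not_le.mpr hc)

/-- Multiplication by the cube root of unity. -/
def D (v : V) : V := g.act dEl v

theorem D_add (v w : V) : D g (v + w) = D g v + D g w := g.act_add _ g.dEl_mem v w

theorem D_zero : D g 0 = 0 := g.act_zero g.dEl_mem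

theorem D_cube (v : V) : D g (D g (D g v)) = v := by
  unfold D
  rw [← g.act_mul _ g.dEl_mem _ g.dEl_mem, ← g.act_mul _ (R.mul_mem g.dEl_mem g.dEl_mem) _ g.dEl_mem,
    dEl_cube, g.act_one]

theorem D_inj {v w : V} (h : D g v = D g w) : v = w := g.act_injective g.dEl_mem h

theorem q_D (v : V) : g.q (D g v) = g.q v := g.q_act _ g.dEl_mem v

theorem b_D (v w : V) : g.b (D g v) (D g w) = g.b v w := g.b_act g.dEl_mem v w

variable (hT : g.TypeT)

section
include hT

theorem DD (v : V) : D g (D g v) = D g v + v := by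
  have h : D g (v + D g v + D g (D g v)) = v + D g v + D g (D g v) := by
    rw [D_add, D_add, D_cube]; abel
  have h0 := hT _ h
  rw [add_comm (D g v)]
  exact (g.add_eq_zero_iff.mp h0).symm

theorem D_eq_self {v : V} (h : D g v = v) : v = 0 := hT v h

theorem D_D_add_self (v : V) : D g (v + D g v) = v := by
  rw [D_add, DD g hT]; exact tt g _ _

theorem b_D_left (v w : V) : g.b (D g v) w = g.b v (D g w) + g.b v w := by
  rw [← b_D g (D g v) w, DD g hT, g.b_add, b_D, add_comm]

theorem b_D_self (v : V) : g.b v (D g v) = g.q v := by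
  have h := g.q_add v (D g v)
  rw [q_D, zmod2_add_self, zero_add, ← q_D g (v + D g v), D_D_add_self g hT] at h
  exact h.symm

theorem act_D_lin {a : P36} (ha : a ∈ R) (h1 : a.1 = 1) (v : V) :
    g.act a (D g v) = D g (g.act a v) :=
  g.act_comm ha g.dEl_mem (comm_dEl (not_inv3_of_fst h1)) v

theorem act_D_inv {a : P36} (ha : a ∈ R) (h1 : Inv3 a) (v : V) :
    g.act a (D g v) = D g (g.act a v) + g.act a v := by
  rw [← DD g hT]
  unfold D
  rw [← g.act_mul _ ha _ g.dEl_mem, inv3_dEl h1, g.act_mul _ (R.inv_mem g.dEl_mem) _ ha]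
  refine g.act_injective g.dEl_mem ?_
  rw [g.act_inv_right g.dEl_mem]
  exact (D_cube g _).symm

/-- normalise a vector against a pair `w`, `D w` -/
theorem adjust (W : AddSubgroup V) (hW : ∀ v ∈ W, D g v ∈ W) {w v : V} (hv : v ∈ W)
    (h1 : g.b v w = 1) : ∃ v' ∈ W, g.b v' w = 1 ∧ g.b v' (D g w) = 0 := by
  rcases zmod2_cases (g.b v (D g w)) with e | e
  · exact ⟨v, hv, h1, e⟩
  · refine ⟨D g (D g v), hW _ (hW _ hv), ?_, ?_⟩
    · rw [b_D_left g hT, b_D, b_D_left g hT, e, h1]; decide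
    · rw [b_D, b_D_left g hT, e, h1]; decide

end

theorem exists_b_one {x : V} (hx : x ≠ 0) : ∃ v, g.b v x = 1 := by
  by_contra! h
  refine hx (g.nondeg x fun w => ?_)
  rw [g.b_symm]
  exact (zmod2_cases _).resolve_right (h w)

/-- The line over the field with four elements. -/
def line (x : V) : AddSubgroup V := ext g (ext g ⊥ x) (D g x)

/-- The perpendicular of the line. -/
def lperp (x : V) : AddSubgroup V := g.perp (line g x : Set V)

theorem mem_bot_ext {x v : V} : v ∈ ext g ⊥ x ↔ v = 0 ∨ v = x := by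
  rw [mem_ext, AddSubgroup.mem_bot, AddSubgroup.mem_bot, g.add_eq_zero_iff]

theorem mem_line {x v : V} :
    v ∈ line g x ↔ v = 0 ∨ v = x ∨ v = D g x ∨ v = x + D g x := by
  unfold line
  rw [mem_ext, mem_bot_ext, mem_bot_ext, g.add_eq_zero_iff]
  constructor
  · rintro ((h | h) | (h | h))
    · exact Or.inl h
    · exact Or.inr (Or.inl h)
    · exact Or.inr (Or.inr (Or.inl h))
    · refine Or.inr (Or.inr (Or.inr ?_))
      exact (g.add_add_cancel v _).symm.trans (congrArg (· + D g x) h)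
  · rintro (h | h | h | h)
    · exact Or.inl (Or.inl h)
    · exact Or.inl (Or.inr h)
    · exact Or.inr (Or.inl h)
    · exact Or.inr (Or.inr (by rw [h, g.add_add_cancel]))

theorem self_mem_line (x : V) : x ∈ line g x := le_ext g _ _ (self_mem_ext g _ _)

theorem D_mem_line (x : V) : D g x ∈ line g x := self_mem_ext g _ _

theorem line_le {x : V} {W : AddSubgroup V} (hx : x ∈ W) (hDx : D g x ∈ W) : line g x ≤ W :=
  ext_le g (ext_le g bot_le hx) hDx

theorem mem_lperp {x v : V} : v ∈ lperp g x ↔ g.b v x = 0 ∧ g.b v (D g x) = 0 := by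
  constructor
  · exact fun h => ⟨h x (self_mem_line g x), h _ (D_mem_line g x)⟩
  · rintro ⟨h1, h2⟩ s hs
    rcases (mem_line g).mp hs with rfl | rfl | rfl | rfl
    · exact g.b_zero_right v
    · exact h1
    · exact h2
    · rw [g.b_add_right, h1, h2]; decide

section
include hT

theorem card_line {x : V} (hx : x ≠ 0) : Nat.card (line g x) = 4 := by
  have h1 : x ∉ (⊥ : AddSubgroup V) := by rwa [AddSubgroup.mem_bot]
  have h2 : D g x ∉ ext g ⊥ x := by
    rw [mem_bot_ext]
    rintro (e | e)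
    · exact hx (D_inj g (e.trans (D_zero g).symm))
    · exact hx (D_eq_self g hT e)
  rw [line, card_ext g h2, card_ext g h1, AddSubgroup.card_bot]

theorem D_line {x v : V} (hv : v ∈ line g x) : D g v ∈ line g x := by
  rcases (mem_line g).mp hv with rfl | rfl | rfl | rfl
  · rw [D_zero]; exact zero_mem _
  · exact D_mem_line g _
  · rw [DD g hT]; exact add_mem (D_mem_line g _) (self_mem_line g _)
  · rw [D_D_add_self g hT]; exact self_mem_line g _

theorem D_lperp {x v : V} (hv : v ∈ lperp g x) : D g v ∈ lperp g x := by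
  rw [mem_lperp] at hv ⊢
  rw [b_D, b_D_left g hT, hv.1, hv.2]
  decide

theorem card_lperp {x : V} (hx : x ≠ 0) : Nat.card (lperp g x) = 64 := by
  have h := g.card_mul_card_perp (line g x)
  rw [card_line g hT hx] at h
  rw [lperp]; omega

theorem mem_line_of_perp {x v : V} (h : ∀ w ∈ lperp g x, g.b v w = 0) : v ∈ line g x := by
  rw [← g.perp_perp (line g x)]
  exact h

/-- a singular line is totally singular -/
theorem line_le_lperp {x : V} (hq : g.q x = 0) : line g x ≤ lperp g x := by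
  refine line_le g ?_ ?_
  · rw [mem_lperp]
    exact ⟨g.b_self x, (b_D_self g hT x).trans hq⟩
  · rw [mem_lperp]
    exact ⟨by rw [g.b_symm]; exact (b_D_self g hT x).trans hq, g.b_self _⟩

theorem line_q {x : V} (hq : g.q x = 0) {v : V} (hv : v ∈ line g x) : g.q v = 0 := by
  rcases (mem_line g).mp hv with rfl | rfl | rfl | rfl
  · exact g.q_zero
  · exact hq
  · rw [q_D]; exact hq
  · rw [g.q_add, q_D, hq, b_D_self g hT, hq]; decide

theorem line_perp_line {x : V} (hq : g.q x = 0) {v w : V} (hv : v ∈ line g x)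
    (hw : w ∈ line g x) : g.b v w = 0 := line_le_lperp g hT hq hv w hw

theorem line_zero {x v l : V} (hv : v ∉ lperp g x) (hl : l ∈ line g x) (h1 : g.b l v = 0)
    (h2 : g.b (D g l) v = 0) : l = 0 := by
  rcases (mem_line g).mp hl with rfl | rfl | rfl | rfl
  · rfl
  · exact absurd ((mem_lperp g).mpr ⟨by rw [g.b_symm]; exact h1, by rw [g.b_symm]; exact h2⟩) hv
  · rw [DD g hT, g.b_add, h1, zero_add] at h2
    exact absurd ((mem_lperp g).mpr ⟨by rw [g.b_symm]; exact h2, by rw [g.b_symm]; exact h1⟩) hv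
  · rw [D_D_add_self g hT] at h2
    rw [g.b_add, h2, zero_add] at h1
    exact absurd ((mem_lperp g).mpr ⟨by rw [g.b_symm]; exact h2, by rw [g.b_symm]; exact h1⟩) hv

/-- `v₀` with coordinates `(1, 0)` on the line and the coordinates of its translates -/
theorem exists_v0 {x : V} (hx : x ≠ 0) :
    ∃ v₀, g.b v₀ x = 1 ∧ g.b v₀ (D g x) = 0 := by
  obtain ⟨v, hv⟩ := exists_b_one g hx
  obtain ⟨v', -, h⟩ := adjust g hT ⊤ (fun _ _ => trivial) (AddSubgroup.mem_top v) hv
  exact ⟨v', h⟩

theorem mem_of_gen {x v₀ : V} (h1 : g.b v₀ x = 1) (h2 : g.b v₀ (D g x) = 0) {W : AddSubgroup V}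
    (P : AddSubgroup V) (hP : ∀ p ∈ P, g.b p x = 0 → g.b p (D g x) = 0 → p ∈ W)
    (hv₀P : v₀ ∈ P) (hDv₀P : D g v₀ ∈ P)
    (hv₀ : v₀ ∈ W) (hDv₀ : D g v₀ ∈ W) {v : V} (hv : v ∈ P) : v ∈ W := by
  have key : ∀ t, t ∈ W → t ∈ P → g.b (v + t) x = 0 → g.b (v + t) (D g x) = 0 → v ∈ W := by
    intro t ht htP e1 e2
    have := W.add_mem (hP _ (P.add_mem hv htP) e1 e2) ht
    rwa [g.add_add_cancel] at this
  rcases zmod2_cases (g.b v x) with e | e <;> rcases zmod2_cases (g.b v (D g x)) with e' | e'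
  · exact key 0 W.zero_mem P.zero_mem (by rw [add_zero, e]) (by rw [add_zero, e'])
  · refine key (v₀ + D g v₀) (W.add_mem hv₀ hDv₀) (P.add_mem hv₀P hDv₀P) ?_ ?_ <;>
      simp only [g.b_add, b_D_left g hT v₀ x, b_D, h1, h2, e, e'] <;> decide
  · refine key v₀ hv₀ hv₀P ?_ ?_ <;> simp only [g.b_add, h1, h2, e, e'] <;> decide
  · refine key (D g v₀) hDv₀ hDv₀P ?_ ?_ <;>
      simp only [g.b_add, b_D_left g hT v₀ x, b_D, h1, h2, e, e'] <;> decide

theorem top_of_gen {x v₀ : V} (h1 : g.b v₀ x = 1) (h2 : g.b v₀ (D g x) = 0) {W : AddSubgroup V}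
    (hW : lperp g x ≤ W) (hv₀ : v₀ ∈ W) (hDv₀ : D g v₀ ∈ W) (v : V) : v ∈ W :=
  mem_of_gen g hT h1 h2 ⊤ (fun p _ e e' => hW ((mem_lperp g).mpr ⟨e, e'⟩)) trivial trivial hv₀
    hDv₀ (AddSubgroup.mem_top v)

end

/-- Where two elements agree. -/
def eqs {a c : P36} (ha : a ∈ R) (hc : c ∈ R) : AddSubgroup V where
  carrier := {v | g.act a v = g.act c v}
  zero_mem' := (g.act_zero ha).trans (g.act_zero hc).symm
  add_mem' := fun {v w} (hv : g.act a v = g.act c v) (hw : g.act a w = g.act c w) => by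
    show g.act a (v + w) = g.act c (v + w)
    rw [g.act_add a ha, g.act_add c hc, hv, hw]
  neg_mem' := fun {v} hv => by rw [g.neg_eq v]; exact hv

theorem eq_of_act {a c : P36} (ha : a ∈ R) (hc : c ∈ R) (h : ∀ v, g.act a v = g.act c v) :
    a = c := by
  have h1 : c⁻¹ * a = 1 := g.faithful _ (R.mul_mem (R.inv_mem hc) ha) fun v => by
    rw [g.act_mul _ (R.inv_mem hc) _ ha, h, g.act_inv_left hc]
  exact (inv_mul_eq_one.mp h1).symm

/-- The pointwise stabiliser of a set. -/
def stab (S : Set V) : Subgroup P36 where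
  carrier := {h | h ∈ R ∧ ∀ v ∈ S, g.act h v = v}
  one_mem' := ⟨R.one_mem, fun v _ => g.act_one v⟩
  mul_mem' := fun {a c} ha hc => ⟨R.mul_mem ha.1 hc.1, fun v hv => by
    rw [g.act_mul a ha.1 c hc.1, hc.2 v hv, ha.2 v hv]⟩
  inv_mem' := fun {a} ha => ⟨R.inv_mem ha.1, fun v hv => by
    conv_lhs => rw [← ha.2 v hv]
    exact g.act_inv_left ha.1 v⟩

theorem mem_stab {S : Set V} {h : P36} :
    h ∈ stab g S ↔ h ∈ R ∧ ∀ v ∈ S, g.act h v = v := Iff.rfl

theorem mem_stab_single {v : V} {h : P36} (hh : h ∈ R) :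
    h ∈ stab g {v} ↔ g.act h v = v := by
  simp [mem_stab, hh]

section
include hT

theorem eq_of_gen {a c : P36} (ha : a ∈ R) (hc : c ∈ R) (ha1 : a.1 = 1) (hc1 : c.1 = 1) {x v₀ : V}
    (h1 : g.b v₀ x = 1) (h2 : g.b v₀ (D g x) = 0)
    (hL : ∀ w ∈ lperp g x, g.act a w = g.act c w) (h0 : g.act a v₀ = g.act c v₀) : a = c := by
  refine eq_of_act g ha hc (top_of_gen g hT h1 h2 (W := eqs g ha hc) hL h0 ?_)
  show g.act a (D g v₀) = g.act c (D g v₀)
  rw [act_D_lin g hT ha ha1, act_D_lin g hT hc hc1, h0]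

/-- an element trivial on the perpendicular of a singular line moves `v₀` into the line -/
theorem com_mem_line {a : P36} (ha : a ∈ R) {x : V} (hfix : ∀ w ∈ lperp g x, g.act a w = w)
    (v : V) : g.act a v + v ∈ line g x := by
  refine mem_line_of_perp g hT fun w hw => ?_
  have := g.b_act ha v w
  rw [hfix w hw] at this
  rw [g.b_add, this, zmod2_add_self]

theorem b_com {a : P36} (ha : a ∈ R) (v : V) (h : g.q (g.act a v + v) = 0) :
    g.b v (g.act a v + v) = 0 := by
  have h1 := g.q_add v (g.act a v + v)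
  rw [h, add_zero, add_comm (g.act a v) v, tt g, g.q_act a ha, left_eq_add] at h1
  rwa [add_comm (g.act a v) v]

theorem trans_unique {x : V} (hx : x ≠ 0) (hq : g.q x = 0) {a c : P36} (ha : a ∈ R) (hc : c ∈ R)
    (ha1 : a.1 = 1) (hc1 : c.1 = 1) (haf : ∀ w ∈ lperp g x, g.act a w = w)
    (hcf : ∀ w ∈ lperp g x, g.act c w = w) (ha' : a ≠ 1) (hc' : c ≠ 1) : a = c := by
  obtain ⟨v₀, h1, h2⟩ := exists_v0 g hT hx
  have key : ∀ e : P36, e ∈ R → e.1 = 1 → (∀ w ∈ lperp g x, g.act e w = w) → e ≠ 1 →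
      g.act e v₀ = v₀ + D g x := by
    intro e he he1 hef hne
    have hl := com_mem_line g hT he hef v₀
    have hb := b_com g hT he v₀ (line_q g hT hq hl)
    rcases (mem_line g).mp hl with h | h | h | h
    · refine absurd ?_ hne
      refine eq_of_gen g hT he R.one_mem he1 rfl h1 h2 (fun w hw => ?_) ?_
      · rw [hef w hw, g.act_one]
      · rw [g.act_one]; exact g.add_eq_zero_iff.mp h
    · rw [h, h1] at hb; exact absurd hb (by decide)
    · rw [← h, add_comm, g.add_add_cancel]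
    · rw [h, g.b_add_right, h1, h2] at hb; exact absurd hb (by decide)
  refine eq_of_gen g hT ha hc ha1 hc1 h1 h2 (fun w hw => ?_) ?_
  · rw [haf w hw, hcf w hw]
  · rw [key a ha ha1 haf ha', key c hc hc1 hcf hc']

theorem small {x : V} (hx : x ≠ 0) (hq : g.q x = 0) (K : Subgroup P36) (hR : K ≤ R)
    (h1 : ∀ a ∈ K, a.1 = 1) (hfix : ∀ a ∈ K, ∀ w ∈ lperp g x, g.act a w = w) :
    Nat.card K ≤ 2 :=
  card_le_two K fun a ha c hc ha' hc' =>
    trans_unique g hT hx hq (hR ha) (hR hc) (h1 a ha) (h1 c hc) (hfix a ha) (hfix c hc) ha' hc'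

/-- linear maps with commutators in the line are trivial on its perpendicular if they almost fix a
vector outside -/
theorem fix_lperp {a : P36} (ha : a ∈ R) (ha1 : a.1 = 1) {x v : V} (hq : g.q x = 0)
    (hcom : ∀ w ∈ lperp g x, g.act a w + w ∈ line g x) (hv : v ∉ lperp g x)
    (hv' : g.act a v + v ∈ line g x) : ∀ w ∈ lperp g x, g.act a w = w := by
  have key : ∀ w ∈ lperp g x, g.b (g.act a w + w) v = 0 := by
    intro w hw
    have h1 := g.b_act ha w v
    obtain ⟨l, hl⟩ : ∃ l, g.act a w + w = l := ⟨_, rfl⟩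
    obtain ⟨m, hm⟩ : ∃ m, g.act a v + v = m := ⟨_, rfl⟩
    have e1 : g.act a w = w + l := by rw [← hl, add_comm (g.act a w), tt g]
    have e2 : g.act a v = v + m := by rw [← hm, add_comm (g.act a v), tt g]
    have hlm := line_perp_line g hT hq (hcom w hw) hv'
    rw [hl, hm] at hlm
    rw [hm] at hv'
    have hwm : g.b w m = 0 := hw m hv'
    rw [e1, e2, g.b_add, g.b_add_right, g.b_add_right, hwm, hlm, add_zero, add_zero,
      add_eq_left] at h1
    rw [hl]
    exact h1
  intro w hw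
  refine g.add_eq_zero_iff.mp (line_zero g hT hv (hcom w hw) (key w hw) ?_)
  rw [D_add, ← act_D_lin g hT ha ha1]
  exact key _ (D_lperp g hT hw)

/-- the hypothesis of `mirror` for an element trivial on the perpendicular -/
theorem mirror_pre {x : V} (hx : x ≠ 0) (hq : g.q x = 0) {a : P36} (ha : a ∈ R)
    (hfix : ∀ w ∈ lperp g x, g.act a w = w) {v : V} (hv : g.b v x = 0) :
    g.act a v + v = 0 ∨ g.act a v + v = x := by
  have hl := com_mem_line g hT ha hfix v
  have hb := b_com g hT ha v (line_q g hT hq hl)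
  by_cases hvL : v ∈ lperp g x
  · left; rw [hfix v hvL, g.two]
  · have h1 : g.b v (D g x) = 1 :=
      (zmod2_cases _).resolve_left fun e => hvL ((mem_lperp g).mpr ⟨hv, e⟩)
    rcases (mem_line g).mp hl with h | h | h | h
    · exact Or.inl h
    · exact Or.inr h
    · rw [h, h1] at hb; exact absurd hb (by decide)
    · rw [h, g.b_add_right, hv, h1] at hb; exact absurd hb (by decide)

theorem fix_decomp {s : P36} (hs : s ∈ R) (hsi : Inv3 s) (hs2 : s * s = 1) (W : AddSubgroup V)
    (hD : ∀ v ∈ W, D g v ∈ W) (hsW : ∀ v ∈ W, g.act s v ∈ W) {w : V} (hw : w ∈ W) :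
    ∃ f₁ f₂, f₁ ∈ W ∧ g.act s f₁ = f₁ ∧ f₂ ∈ W ∧ g.act s f₂ = f₂ ∧ w = f₁ + D g f₂ := by
  have hh : ∀ v, g.act s (g.act s v) = v := fun v => by rw [← g.act_mul _ hs _ hs, hs2, g.act_one]
  have hf : g.act s (w + g.act s w) = w + g.act s w := by rw [g.act_add s hs, hh, add_comm]
  refine ⟨w + D g (w + g.act s w), w + g.act s w, add_mem hw (hD _ (add_mem hw (hsW _ hw))), ?_,
    add_mem hw (hsW _ hw), hf, (g.add_add_cancel _ _).symm⟩
  rw [g.act_add s hs, act_D_inv g hT hs hsi, hf]
  generalize D g (w + g.act s w) = Z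
  rw [add_comm Z (w + g.act s w), add_comm w (g.act s w), add_assoc (g.act s w) w Z,
    tt g]

theorem card_fix_sq {s : P36} (hs : s ∈ R) (hsi : Inv3 s) (W : AddSubgroup V)
    (hD : ∀ v ∈ W, D g v ∈ W) :
    Nat.card (W ⊓ g.fixSub hs : AddSubgroup V) * Nat.card (W ⊓ g.fixSub hs : AddSubgroup V) ≤
      Nat.card W := by
  haveI := g.finiteV
  let F := W ⊓ g.fixSub hs
  let f : F × F → W := fun p => ⟨(p.1 : V) + D g p.2, add_mem p.1.2.1 (hD _ p.2.2.1)⟩
  have hf : Function.Injective f := by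
    rintro ⟨⟨a, ha, ha'⟩, b, hb, hb'⟩ ⟨⟨a₂, ha₂, ha₂'⟩, b₂, hb₂, hb₂'⟩ e
    have e' : a + D g b = a₂ + D g b₂ := congrArg Subtype.val e
    have e2 := congrArg (g.act s) e'
    have ha1 : g.act s a = a := ha'
    have hb1 : g.act s b = b := hb'
    have ha2 : g.act s a₂ = a₂ := ha₂'
    have hb2 : g.act s b₂ = b₂ := hb₂'
    rw [g.act_add s hs, g.act_add s hs, act_D_inv g hT hs hsi, act_D_inv g hT hs hsi, ha1, hb1,
      ha2, hb2, ← add_assoc, ← add_assoc, e', add_left_cancel_iff] at e2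
    subst e2
    obtain rfl := add_right_cancel e'
    rfl
  calc _ = Nat.card (F × F) := (Nat.card_prod _ _).symm
    _ ≤ Nat.card W := Nat.card_le_card_of_injective f hf

end

end CfsgLib.NoSixCent.FusedT
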