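import Mathlib
import Cfsg.Agent.Lib.ThreeTransp.LargePairS3

/-!
Interface for the proof that no finite simple group has an involution `z` whose centraliser `C` has
`Q = O_2(C)` extraspecial of order 2^9 with `C / Q` one of `S₃ × A₆`, `S₃ × S₆`, `(3 × A₆).2`
(S3283, S3284).  The group side produces the pure data below; the pure side refutes it.
-/

set_option autoImplicit false

namespace CfsgLib.NoSixCent

open CfsgLib.ThreeTransp

universe u

/-- The ambient group of the possible quotients. -/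
abbrev P36 := Equiv.Perm (Fin 3) × Equiv.Perm (Fin 6)

/-- The element of order 3 generating the normal subgroup of order 3. -/
def dEl : P36 := (finRotate 3, 1)

/-- The first component is odd: the element inverts `dEl`. -/
def Inv3 (h : P36) : Prop := Equiv.Perm.sign h.1 = -1

abbrev Cz {G : Type u} [Group G] (z : G) : Subgroup G := Subgroup.centralizer ({z} : Set G)

/-- The hypothesis on the group. -/
structure Setting {G : Type u} [Group G] (z : G) (Q : Subgroup G) (φ : ↥(Cz z) →* P36) : Prop where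
  hX : XCent Q z
  hp : IsPGroup 2 Q
  card : Nat.card Q = 512
  ker : ∀ m : Cz z, φ m = 1 ↔ (m : G) ∈ Q
  big : ∀ p q, Equiv.Perm.sign p = 1 → Equiv.Perm.sign q = 1 → ∃ m, φ m = (p, q)
  odd : ∃ m, Inv3 (φ m)

/-- `Q / ⟨z⟩` as an orthogonal space with the action of `C / Q ≅ R`. -/
structure Geo (V : Type u) [AddCommGroup V] (R : Subgroup P36) where
  act : P36 → V → V
  b : V → V → ZMod 2
  q : V → ZMod 2
  two : ∀ v : V, v + v = 0
  card : Nat.card V = 256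
  act_add : ∀ h ∈ R, ∀ v w, act h (v + w) = act h v + act h w
  act_one : ∀ v, act 1 v = v
  act_mul : ∀ h ∈ R, ∀ k ∈ R, ∀ v, act (h * k) v = act h (act k v)
  faithful : ∀ h ∈ R, (∀ v, act h v = v) → h = 1
  q_zero : q 0 = 0
  q_add : ∀ v w, q (v + w) = q v + q w + b v w
  b_add : ∀ u v w, b (u + v) w = b u w + b v w
  b_symm : ∀ v w, b v w = b w v
  nondeg : ∀ v, (∀ w, b v w = 0) → v = 0
  q_act : ∀ h ∈ R, ∀ v, q (act h v) = q v
  big : ∀ p q : _, Equiv.Perm.sign p = 1 → Equiv.Perm.sign q = 1 → ((p, q) : P36) ∈ R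
  odd : ∃ h ∈ R, Inv3 h

/-- `Geo` realised by `Q / ⟨z⟩` with projection `π`. -/
structure Link {G : Type u} [Group G] (z : G) (Q : Subgroup G) (φ : ↥(Cz z) →* P36)
    {V : Type u} [AddCommGroup V] (g : Geo V φ.range) (π : ↥Q → V) : Prop where
  surj : Function.Surjective π
  map_mul : ∀ a b : Q, π (a * b) = π a + π b
  eq_iff : ∀ a b : Q, π a = π b ↔ ((a : G) = b ∨ (a : G) = z * b)
  comm_iff : ∀ a b : Q, g.b (π a) (π b) = 0 ↔ (a : G) * b = b * a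
  sq_iff : ∀ a : Q, g.q (π a) = 0 ↔ (a : G) * a = 1
  act_eq : ∀ (m : Cz z) (a b : Q), (b : G) = m * a * (m : G)⁻¹ → g.act (φ m) (π a) = π b

namespace Geo

variable {V : Type u} [AddCommGroup V] {R : Subgroup P36}

/-- Fixed vectors. -/
def Fix (g : Geo V R) (h : P36) : Set V := {v | g.act h v = v}

/-- The commutator space. -/
def Com (g : Geo V R) (h : P36) : Set V := {w | ∃ v, g.act h v + v = w}

/-- Tensor type: `dEl` has no non-zero fixed vector. -/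
def TypeT (g : Geo V R) : Prop := ∀ v, g.act dEl v = v → v = 0

/-- `2 + 6` type. -/
def TypeII (g : Geo V R) : Prop := Nat.card (g.Fix dEl) = 64

end Geo

/-- Data of a conjugate `x` of `z` in `C \ Q` when `z` is weakly closed in `Q`: `px` its image in
`C/Q`, `C0` the image of `C_Q(x)`, `U` that of `Q ∩ Q_x`, `K` the image of `C_{Q_x}(z)`. -/
structure WData {V : Type u} [AddCommGroup V] {R : Subgroup P36} (g : Geo V R) where
  px : P36
  C0 : AddSubgroup V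
  U : AddSubgroup V
  K : Subgroup P36
  px_ne : px ≠ 1
  px_sq : px * px = 1
  px_K : px ∈ K
  K_le : K ≤ R
  K_two : IsPGroup 2 K
  K_px : ∀ k ∈ K, k * px = px * k
  K_sq : ∀ k ∈ K, k * k = 1 ∨ k * k = px
  K_comm : ∀ k ∈ K, ∀ l ∈ K, k * l = l * k ∨ k * l = px * (l * k)
  C0_fix : ∀ v ∈ C0, g.act px v = v
  C0_index : ∀ v w, g.act px v = v → g.act px w = w → v ∉ C0 → w ∉ C0 → v + w ∈ C0
  C0_com : ∀ w ∈ g.Com px, (w ∈ C0 ↔ g.q w = 0)
  U_C0 : U ≤ C0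
  U_q : ∀ u ∈ U, g.q u = 0
  U_perp : ∀ u ∈ U, ∀ c ∈ C0, g.b u c = 0
  K_act : ∀ k ∈ K, ∀ c ∈ C0, g.act k c + c ∈ U
  K_fix_U : ∀ k ∈ K, ∀ u ∈ U, g.act k u = u
  /-- if some fixed vector is outside `C0`, `U` meets the commutator space trivially -/
  U_com : (∃ v, g.act px v = v ∧ v ∉ C0) → ∀ u ∈ U, u ∈ g.Com px → u = 0
  /-- otherwise the form on `U ∩ [V, x]` is constant one -/
  U_beta : ∀ w₁ ∈ U, ∀ w₂ ∈ U, w₁ ≠ 0 → w₂ ≠ 0 → w₁ ≠ w₂ → w₂ ∈ g.Com px →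
    ∀ v, g.act px v + v = w₁ → g.b v w₂ = 1
  /-- for `|[V, x]| = 16` there is one class in the coset when `U ≠ 0` -/
  U_cent : Nat.card (g.Com px) = 16 → ∀ h ∈ R, h * px = px * h → ∀ u ∈ U, g.act h u ∈ U

/-- `d'` is the data of the pair read from the other side. -/
structure WPair {V : Type u} [AddCommGroup V] {R : Subgroup P36} {g : Geo V R} (d d' : WData g) :
    Prop where
  cardU : Nat.card d.U = Nat.card d'.U
  cardK : Nat.card d.K * Nat.card d.U = 2 * Nat.card d'.C0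
  cardK' : Nat.card d'.K * Nat.card d.U = 2 * Nat.card d.C0
  elem : (∀ c ∈ d'.C0, g.q c = 0) → ∀ k ∈ d.K, k * k = 1
  elemAb : (∀ c ∈ d'.C0, g.q c = 0) → ∀ k ∈ d.K, ∀ l ∈ d.K, k * l = l * k

/-- Group side, weakly closed case: there is a family of pairs, and if all of them invert `dEl`
then all commutator spaces have order at most 4. -/
def StmtWeakData : Prop :=
  ∀ (G : Type u) [Group G] [Finite G] (z : G) (Q : Subgroup G) (φ : ↥(Cz z) →* P36)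
    (V : Type u) [AddCommGroup V] (g : Geo V φ.range) (π : ↥Q → V),
    Setting z Q φ → IsSimpleGroup G → Link z Q φ g π →
    (∀ a : G, a * z * a⁻¹ ∈ Q → a * z * a⁻¹ = z) →
    ∃ S : Set (WData g), S.Nonempty ∧ (∀ d ∈ S, ∃ d' ∈ S, WPair d d') ∧
      ((∀ d ∈ S, Inv3 d.px) → ∀ d ∈ S, Nat.card (g.Com d.px) ≤ 4)

/-- Pure side, weakly closed case. -/
def StmtNoWeak : Prop :=
  ∀ (V : Type u) [AddCommGroup V] (R : Subgroup P36) (g : Geo V R) (S : Set (WData g)),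
    S.Nonempty → (∀ d ∈ S, ∃ d' ∈ S, WPair d d') →
    ((∀ d ∈ S, Inv3 d.px) → ∀ d ∈ S, Nat.card (g.Com d.px) ≤ 4) → False

/-- Data of the conjugates of `z` in `Q \ ⟨z⟩`: `Std` their images, `U x` the image of `Q ∩ Q_x`,
`A x` the image in `C/Q` of `C_{Q_x}(z)`. -/
structure FData {V : Type u} [AddCommGroup V] {R : Subgroup P36} (g : Geo V R) where
  Std : Set V
  U : V → AddSubgroup V
  A : V → Subgroup P36
  ne_zero : ∀ x ∈ Std, x ≠ 0
  act_mem : ∀ h ∈ R, ∀ x ∈ Std, g.act h x ∈ Std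
  U_act : ∀ h ∈ R, ∀ x ∈ Std, ∀ v, v ∈ U x ↔ g.act h v ∈ U (g.act h x)
  A_act : ∀ h ∈ R, ∀ x ∈ Std, ∀ a, a ∈ A x ↔ h * a * h⁻¹ ∈ A (g.act h x)
  x_U : ∀ x ∈ Std, x ∈ U x
  U_q : ∀ x ∈ Std, ∀ u ∈ U x, g.q u = 0
  U_symm : ∀ x ∈ Std, ∀ y ∈ Std, y ∈ U x → x ∈ U y
  A_le : ∀ x ∈ Std, A x ≤ R
  A_sq : ∀ x ∈ Std, ∀ a ∈ A x, a * a = 1
  A_card : ∀ x ∈ Std, 8 ≤ Nat.card (A x)
  cardAU : ∀ x ∈ Std, Nat.card (A x) * Nat.card (U x) = 128
  A_fix : ∀ x ∈ Std, ∀ a ∈ A x, g.act a x = x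
  A_perp : ∀ x ∈ Std, ∀ a ∈ A x, ∀ v, g.b v x = 0 → g.act a v + v ∈ U x
  A_U : ∀ x ∈ Std, ∀ a ∈ A x, ∀ u ∈ U x, g.act a u + u = 0 ∨ g.act a u + u = x
  /-- from the symmetry interchanging `z` and `x` -/
  mirror : ∀ x ∈ Std, (∃ a ∈ A x, a ≠ 1 ∧ ∀ v, g.b v x = 0 →
      (g.act a v + v = 0 ∨ g.act a v + v = x)) →
    ∃ v, g.b v x = 0 ∧ v ∉ U x ∧ ∀ a ∈ A x, g.act a v + v = 0 ∨ g.act a v + v = x
  /-- an element of order 3 fixing `x` and centralising `A x` centralises `x^⊥` modulo `U x` -/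
  coprime : ∀ x ∈ Std, ∀ e ∈ R, e * e * e = 1 → g.act e x = x → (∀ a ∈ A x, e * a = a * e) →
    ∀ v, g.b v x = 0 → g.act e v + v ∈ U x
  /-- a triangle of three standard pairs -/
  triangle : (∀ v ∈ Std, Nat.card (U v) = 16) → ∀ x ∈ Std, ∀ y ∈ Std, x ≠ y → y ∈ U x →
    (∀ u, u ∈ U x → u ∈ U y → u = 0 ∨ u = x ∨ u = y ∨ u = x + y) →
    ∀ a ∈ A x, g.act a y = y → a ∈ A y
  /-- the orbit of `z` under `N(Q ∩ Q_x)` -/
  orbit : ∀ x ∈ Std, Nat.card (U x) = 16 → (1 + 2 * Nat.card ({y | y ∈ Std ∧ U y = U x} : Set V)) ∣ 9999360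

/-- Group side, fused case. -/
def StmtFusedData : Prop :=
  ∀ (G : Type u) [Group G] [Finite G] (z : G) (Q : Subgroup G) (φ : ↥(Cz z) →* P36)
    (V : Type u) [AddCommGroup V] (g : Geo V φ.range) (π : ↥Q → V),
    Setting z Q φ → Link z Q φ g π →
    (∃ a : G, a * z * a⁻¹ ∈ Q ∧ a * z * a⁻¹ ≠ z) →
    ∃ f : FData g, f.Std.Nonempty

/-- Pure side, `2 + 6` type, fused case. -/
def StmtNoFusedII : Prop :=
  ∀ (V : Type u) [AddCommGroup V] (R : Subgroup P36) (g : Geo V R) (f : FData g),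
    g.TypeII → ∀ x ∈ f.Std, False

/-- Pure side, tensor type, fused case. -/
def StmtNoFusedT : Prop :=
  ∀ (V : Type u) [AddCommGroup V] (R : Subgroup P36) (g : Geo V R) (f : FData g),
    g.TypeT → ∀ x ∈ f.Std, False

/-- The two types. -/
def StmtTypes : Prop :=
  ∀ (V : Type u) [AddCommGroup V] (R : Subgroup P36) (g : Geo V R), g.TypeT ∨ g.TypeII

/-! Finite facts about subgroups of `S₃ × S₆`. -/

/-- Facts used by both pure sides. -/
structure P36Facts : Prop where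
  /-- a 2-subgroup has order at most 32 -/
  card_two : ∀ K : Subgroup P36, IsPGroup 2 K → Nat.card K ≤ 32
  /-- a proper possible quotient has 2-subgroups of order at most 16 -/
  card_two_proper : ∀ R K : Subgroup P36, (∀ p q, Equiv.Perm.sign p = 1 → Equiv.Perm.sign q = 1 →
    ((p, q) : P36) ∈ R) → R ≠ ⊤ → K ≤ R → IsPGroup 2 K → Nat.card K ≤ 16
  /-- in a Sylow 2-subgroup the derived subgroup is generated by a double transposition -/
  sylow_comm : ∀ K : Subgroup P36, Nat.card K = 32 → ∀ t : P36, t * t = 1 →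
    (∀ k ∈ K, ∀ l ∈ K, k * l = l * k ∨ k * l = t * (l * k)) →
    t.1 = 1 ∧ Equiv.Perm.sign t.2 = 1
  /-- a Sylow 2-subgroup contains a non-trivial element of the first factor and two non-commuting
  elements of the second factor -/
  sylow_struct : ∀ K : Subgroup P36, Nat.card K = 32 →
    (∃ s, Inv3 (s, 1) ∧ ((s, 1) : P36) ∈ K) ∧
      ∃ a b, ((1, a) : P36) ∈ K ∧ ((1, b) : P36) ∈ K ∧ a * b ≠ b * a
  /-- elementary abelian subgroups centralising `dEl` -/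
  elem_cent : ∀ R K : Subgroup P36, (∀ p q, Equiv.Perm.sign p = 1 → Equiv.Perm.sign q = 1 →
    ((p, q) : P36) ∈ R) → (∃ h ∈ R, Inv3 h) → R ≠ ⊤ → K ≤ R → (∀ k ∈ K, k * k = 1) →
    (∀ k ∈ K, k.1 = 1) →
    Nat.card K ≤ 4
  /-- elementary abelian subgroups centralising `dEl` have order at most 8 -/
  elem_cent_le : ∀ K : Subgroup P36, (∀ k ∈ K, k * k = 1) → (∀ k ∈ K, k.1 = 1) → Nat.card K ≤ 8
  /-- the centraliser of an involution of `S₆` is non-abelian -/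
  cent_nonab : ∀ t : Equiv.Perm (Fin 6), t * t = 1 → ∃ a b,
    a * t = t * a ∧ b * t = t * b ∧ a * b ≠ b * a
  /-- an even involution of `S₆` is the square of an even element of order 4 -/
  even_square : ∀ t : Equiv.Perm (Fin 6), t * t = 1 → t ≠ 1 → Equiv.Perm.sign t = 1 →
    ∃ a, Equiv.Perm.sign a = 1 ∧ a * a = t
  /-- the triangle configuration -/
  triangle : ∀ R A : Subgroup P36, (∀ p q, Equiv.Perm.sign p = 1 → Equiv.Perm.sign q = 1 →
    ((p, q) : P36) ∈ R) → A ≤ R → Nat.card A = 8 → (∀ a ∈ A, a * a = 1) → (∃ a ∈ A, Inv3 a) →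
    ∀ H : Subgroup P36, H ≤ R → dEl ∉ H →
    (∀ h ∈ R, (∀ a, a ∈ A ↔ h * a * h⁻¹ ∈ A) →
      (∃ b ∈ A, Inv3 b ∧ h * b = b * h) → h ∈ H) →
    (∀ h ∈ H, ∀ a, a ∈ A ↔ h * a * h⁻¹ ∈ A) →
    ∃ h ∈ R, ∃ b₀ ∈ A, ∃ a ∈ A, ∃ b₁ ∈ A,
      Inv3 b₀ ∧ ¬ Inv3 a ∧ a ≠ 1 ∧ Inv3 b₁ ∧
      h⁻¹ * b₀ * h ∈ H ∧ h⁻¹ * a * h ∈ H ∧ h * b₁ * h⁻¹ ∈ H ∧ h⁻¹ * b₀ * h ∉ A
  /-- normalisers of elementary abelian subgroups of order 8 of `S₆` -/
  eight_norm : ∀ A : Subgroup P36, Nat.card A = 8 → (∀ a ∈ A, a * a = 1) → (∀ a ∈ A, a.1 = 1) →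
    (∃ t : Equiv.Perm (Fin 6), t * t * t = 1 ∧ (∀ a, a ∈ A ↔ (1, t) * a * ((1, t) : P36)⁻¹ ∈ A) ∧
      ∃ a ∈ A, (1, t) * a ≠ a * ((1, t) : P36)) ∧
    15 ≤ Nat.card ({B | ∃ h : P36, A.map (MulAut.conj h).toMonoidHom = B} : Set (Subgroup P36))

end CfsgLib.NoSixCent
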