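import Cfsg.Agent.Lib.NoSixCent.Bridge
import Cfsg.Agent.Lib.ThreeTransp.LargeSimple

/-!
The two cases assembled: there is no such simple group.
-/

set_option autoImplicit false
set_option linter.style.haveILetI false

namespace CfsgLib.NoSixCent

open Cfsg CfsgLib.ThreeTransp

universe u

/-- The pieces. -/
structure Pieces : Prop where
  types : StmtTypes.{u}
  weakData : StmtWeakData.{u}
  noWeak : StmtNoWeak.{u}
  fusedData : StmtFusedData.{u}
  noFusedII : StmtNoFusedII.{u}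
  noFusedT : StmtNoFusedT.{u}

theorem Pieces.no_setting (P : Pieces.{u}) {G : Type u} [Group G] [Finite G] [IsSimpleGroup G]
    {z : G} {Q : Subgroup G} {φ : ↥(Cz z) →* P36} (S : Setting z Q φ) : False := by
  obtain ⟨V, _, g, π, L⟩ := exists_geo S
  by_cases hf : ∃ a : G, a * z * a⁻¹ ∈ Q ∧ a * z * a⁻¹ ≠ z
  · obtain ⟨f, x, hx⟩ := P.fusedData G z Q φ V g π S L hf
    rcases P.types V _ g with hT | hII
    exacts [P.noFusedT V _ g f hT x hx, P.noFusedII V _ g f hII x hx]
  · push Not at hf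
    obtain ⟨T, hne, hpair, hbound⟩ := P.weakData G z Q φ V g π S ‹_› L hf
    exact P.noWeak V _ g T hne hpair hbound

/-- The form in which the hypotheses of S3283 and S3284 are used. -/
theorem Pieces.no_centraliser (P : Pieces.{u}) {G : Type u} [Group G] [Finite G] [IsSimpleGroup G]
    {z : G} (hz : orderOf z = 2) (Qc : Subgroup ↥(Cz z)) [Qc.Normal]
    (hE : IsExtraspecial 2 ↥Qc) (hcard : Nat.card Qc = 2 ^ 9)
    (hCQ : Subgroup.centralizer (Qc : Set ↥(Cz z)) ≤ Qc)
    (ψ : ↥(Cz z) ⧸ Qc →* P36) (hinj : Function.Injective ψ)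
    (hbig : ∀ p q, Equiv.Perm.sign p = 1 → Equiv.Perm.sign q = 1 → ((p, q) : P36) ∈ ψ.range)
    (hodd : ∃ h ∈ ψ.range, Inv3 h) : False := by
  set Q : Subgroup G := Qc.map (Cz z).subtype with hQ
  have hzC : z ∈ Cz z := Subgroup.mem_centralizer_singleton_iff.2 rfl
  have hmem : ∀ m : Cz z, (m : G) ∈ Q ↔ m ∈ Qc := fun m =>
    Subgroup.mem_map_iff_mem (f := (Cz z).subtype) Subtype.val_injective
  have hEQ : IsExtraspecial 2 ↥Q := extraspecial_map hE
  have hzQc : (⟨z, hzC⟩ : Cz z) ∈ Qc := hCQ (Subgroup.mem_centralizer_iff.2 fun m _ =>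
    Subtype.ext (Subgroup.mem_centralizer_singleton_iff.1 m.2))
  have hzQ : z ∈ Q := (hmem ⟨z, hzC⟩).2 hzQc
  have hcomm : ∀ a ∈ Q, a * z = z * a := fun a ha =>
    Subgroup.mem_centralizer_singleton_iff.1 (Subgroup.map_subtype_le _ ha)
  have hX : XCent Q z := by
    refine xCent_mk hEQ ?_ (mem_centerIn.2 ⟨hzQ, fun a ha => hcomm a ha⟩) ?_ ?_
    · intro c hc
      have hcz : c ∈ Cz z := Subgroup.mem_centralizer_singleton_iff.2
        (Subgroup.mem_centralizer_iff.1 hc z hzQ).symm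
      refine (hmem ⟨c, hcz⟩).2 (hCQ (Subgroup.mem_centralizer_iff.2 fun m hm => ?_))
      exact Subtype.ext (Subgroup.mem_centralizer_iff.1 hc m ((hmem m).2 hm))
    · intro h; rw [h, orderOf_one] at hz; omega
    · intro c hc
      rw [Subgroup.mem_normalizer_iff]
      intro a
      constructor
      · intro ha
        have ha' := Subgroup.map_subtype_le _ ha
        exact (hmem ⟨c * a * c⁻¹, mul_mem (mul_mem hc ha') (inv_mem hc)⟩).2
          ((inferInstance : Qc.Normal).conj_mem ⟨a, ha'⟩ ((hmem _).1 ha) ⟨c, hc⟩)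
      · intro ha
        have ha' := Subgroup.map_subtype_le _ ha
        have : a = c⁻¹ * (c * a * c⁻¹) * c := by simp [mul_assoc]
        rw [this]
        exact (hmem ⟨c⁻¹ * (c * a * c⁻¹) * c, mul_mem (mul_mem (inv_mem hc) ha') hc⟩).2
          (by
            have h := (inferInstance : Qc.Normal).conj_mem ⟨c * a * c⁻¹, ha'⟩ ((hmem _).1 ha)
              (⟨c, hc⟩ : Cz z)⁻¹
            rw [inv_inv] at h
            exact h)
  refine P.no_setting (z := z) (Q := Q) (φ := ψ.comp (QuotientGroup.mk' Qc))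
    ⟨hX, isPGroup_of_extraspecial hEQ, ?_, fun m => ?_, fun p q hp hq => ?_, ?_⟩
  · rw [hQ, Subgroup.card_map_of_injective (Cz z).subtype_injective, hcard]; norm_num
  · rw [hmem, MonoidHom.comp_apply, ← map_one ψ, hinj.eq_iff]
    exact QuotientGroup.eq_one_iff m
  · obtain ⟨w, hw⟩ := hbig p q hp hq
    obtain ⟨m, rfl⟩ := QuotientGroup.mk'_surjective Qc w
    exact ⟨m, hw⟩
  · obtain ⟨h, ⟨w, hw⟩, hh⟩ := hodd
    obtain ⟨m, rfl⟩ := QuotientGroup.mk'_surjective Qc w
    exact ⟨m, show Inv3 (ψ _) from hw ▸ hh⟩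

end CfsgLib.NoSixCent
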